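import Cfsg.Agent.Lib.PrimeFour.Owners
import Cfsg.Agent.Lib.BrauerReynolds.Core

/-!
# The principal blocks at `p` and `q`

The constant value on the translations is `0` or `±1`; a proper class is the multiplier group.
-/

set_option autoImplicit false
set_option linter.unusedSectionVars false

open MulAction Subgroup Equiv
open Cfsg CfsgLib.Characters
open scoped Classical Pointwise

namespace CfsgLib.PrimeFour

open CfsgLib.CyclicDefect CfsgLib.BrauerReynolds

variable {p q : ℕ} [Fact p.Prime] [Fact q.Prime]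

namespace Ctx

variable {G : Subgroup (Perm (ZMod p))} (C : Ctx q G)

include C

theorem perfect : commutator G = ⊤ := by
  have := C.isSimpleGroup
  rcases (inferInstance : (commutator G).Normal).eq_bot_or_eq_top with h | h
  · exfalso
    refine C.insol ⟨⟨1, ?_⟩⟩
    rw [derivedSeries_one, h]
  · exact h

theorem card_centralizer_tr :
    Nat.card (Subgroup.centralizer ({(C.el (0, 1) : G)} : Set G)) = p := by
  set s : G := (C.el (0, 1) : G) with hs
  have hsx : ∀ x, (s : Perm (ZMod p)) x = x + 1 := fun x => by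
    rw [hs, C.el_apply]; simp
  have hos : orderOf s = p := (Subgroup.orderOf_coe s).symm.trans (C.orderOf_tr hsx)
  have hc : Subgroup.centralizer ({s} : Set G) = Subgroup.zpowers s := by
    refine le_antisymm (fun g hg => ?_) ?_
    · have hcm := (Subgroup.mem_centralizer_iff.1 hg s rfl).symm
      have h' : ∀ x, (g : Perm (ZMod p)) (x + 1) = (g : Perm (ZMod p)) x + 1 := fun x => by
        have := congrArg (fun f : G => (f : Perm (ZMod p)) x) hcm
        simpa [Subgroup.coe_mul, Perm.mul_apply, hsx] using this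
      have hlin : ∀ j : ℕ, (g : Perm (ZMod p)) (j : ZMod p) = (g : Perm (ZMod p)) 0 + j := by
        intro j
        induction j with
        | zero => simp
        | succ j ih => push_cast; rw [h', ih]; ring
      refine Subgroup.mem_zpowers_iff.2 ⟨((((g : Perm (ZMod p)) 0).val : ℕ) : ℤ),
        Subtype.ext (Equiv.ext fun x => ?_)⟩
      rw [zpow_natCast, Subgroup.coe_pow, C.tr_pow hsx, ZMod.natCast_zmod_val]
      have := hlin x.val
      rw [ZMod.natCast_zmod_val] at this
      rw [this, add_comm]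
    · exact Subgroup.zpowers_le.2 (Subgroup.mem_centralizer_iff.2 fun y hy => by rw [hy])
  rw [hc, Nat.card_zpowers, hos]

/-- The constant value on the translations. -/
theorem e_bound {e : ℤ} (hval : ∀ v : ZMod p, v ≠ 0 → (C.own 1 : G → ℂ) (C.el (0, v) : G) = e)
    (hdeg : (C.own 1 : G → ℂ) 1 + ((p : ℂ) - 1) * e = p * (Nat.card C.cls)) :
    e = 0 ∨ e = 1 ∨ e = -1 := by
  have hperf := C.perfect
  have := C.trans
  have hp2 : p ≠ 2 := by have := C.p_ge; omega
  set s : G := (C.el (0, 1) : G) with hs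
  have hsx : ∀ x, (s : Perm (ZMod p)) x = x + 1 := fun x => by
    rw [hs, C.el_apply]; simp
  have hos : orderOf s = p := (Subgroup.orderOf_coe s).symm.trans (C.orderOf_tr hsx)
  have hs1 : s ≠ 1 := fun h => by
    rw [h, orderOf_one] at hos; exact (Fact.out : p.Prime).one_lt.ne hos
  obtain ⟨P, hP⟩ := (IsPGroup.of_card (p := p) (G := Subgroup.zpowers s) (n := 1)
    (by rw [Nat.card_zpowers, hos, pow_one])).exists_le_sylow
  have hPp := CfsgLib.PermGroup.card_sylow_eq (ZMod.card p) G P
  have hsP : s ∈ (P : Subgroup G) := hP (Subgroup.mem_zpowers s)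
  have hPeq : Subgroup.zpowers s = (P : Subgroup G) := Subgroup.eq_of_le_of_card_ge hP
    (by rw [Nat.card_zpowers, hos, hPp])
  obtain ⟨L, hL⟩ := exists_loc P hPp
  have hCc : L.C = Subgroup.centralizer ({s} : Set G) := by
    rw [Loc.C, hL, ← hPeq]
    refine le_antisymm (Subgroup.centralizer_le (by simp)) fun g hg => ?_
    refine Subgroup.mem_centralizer_iff.2 fun y hy => ?_
    obtain ⟨i, rfl⟩ := Subgroup.mem_zpowers_iff.1 hy
    exact ((show Commute s g from Subgroup.mem_centralizer_iff.1 hg s rfl).zpow_left i).eq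
  have hCp : Nat.card L.C = p := by rw [hCc]; exact C.card_centralizer_tr
  have hO : Nat.card L.O = 1 := by
    have h := L.card_C
    rw [hCp] at h
    exact (Nat.eq_of_mul_eq_mul_left (Fact.out : p.Prime).pos (by omega)).symm
  have hNc : Nat.card L.N = p * q := by
    have hN : L.N = C.nor := by
      rw [Loc.N, hL, ← hPeq]
      refine le_antisymm (fun g hg => ?_) fun g hg => ?_
      · have h1 := (Subgroup.mem_normalizer_iff.1 hg s).1 (Subgroup.mem_zpowers s)
        obtain ⟨n, hn⟩ := (isOfFinOrder_of_finite s).mem_powers_iff_mem_zpowers.2 h1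
        obtain ⟨k, hk, hkx⟩ := C.affine_of_normal hsx g.2 (congrArg Subtype.val hn).symm
        exact C.mem_nor.2 ⟨k, _, hk, hkx⟩
      · obtain ⟨k, v, hk, hg⟩ := C.mem_nor.1 hg
        refine Subgroup.mem_normalizer_fintype fun y hy => ?_
        obtain ⟨i, rfl⟩ := Subgroup.mem_zpowers_iff.1 hy
        have h1 : g * s * g⁻¹ = s ^ k.val := by
          rw [mul_inv_eq_iff_eq_mul]
          refine Subtype.ext (Equiv.ext fun x => ?_)
          rw [Subgroup.coe_mul, Subgroup.coe_mul, Subgroup.coe_pow, Perm.mul_apply, Perm.mul_apply,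
            C.tr_pow hsx, hsx, hg, hg, ZMod.natCast_zmod_val]
          ring
        rw [← conj_zpow, h1]
        exact Subgroup.zpow_mem _ (Subgroup.pow_mem _ (Subgroup.mem_zpowers s) _) _
    rw [hN, C.card_nor]
  have he : eN L = q := by
    have h3 : Nat.card L.C * eN L = Nat.card L.N := by
      rw [← Nat.card_congr (Subgroup.subgroupOfEquivOfLe L.C_le_N).toEquiv]
      exact Subgroup.card_mul_index _
    rw [hCp, hNc] at h3
    exact Nat.eq_of_mul_eq_mul_left (Fact.out : p.Prime).pos h3
  have hqN : qN L = 2 := by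
    rw [qN, he, show p - 1 = 2 * q by have := C.hp; omega, Nat.mul_div_cancel _ C.hq.pos]
  have : Fintype L.Dual := @Fintype.ofFinite _ L.finite_dual
  obtain ⟨εY, X, Y, sg, B⟩ := exists_block L hp2 hperf
  have hv1 : (C.own 1 : G → ℂ) s = e := hval 1 one_ne_zero
  have hsL : s ∈ (L.P : Subgroup G) := by rw [hL]; exact hsP
  by_cases hX : C.own 1 ∈ X
  · obtain ⟨hsgn, -, hz⟩ := B.sign _ (Or.inl hX)
    have h := hz s hsL hs1 1 (Subgroup.one_mem _) (by
      rw [orderOf_one]; exact (Fact.out : p.Prime).not_dvd_one)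
    rw [mul_one, hv1, Int.cast_inj] at h
    rcases hsgn with h' | h' <;> rw [h'] at h <;> simp [h]
  by_cases hY : C.own 1 ∈ Y
  · exfalso
    obtain ⟨K, hK⟩ := B.degY _ hY
    have hd : ((p : ℤ) * (Nat.card C.cls) - ((p : ℤ) - 1) * e) = εY * (q : ℤ) + p * K := by
      rw [show εY * (q : ℤ) = εY * (eN L : ℤ) by rw [he], ← hK]
      refine Int.cast_injective (α := ℂ) ?_
      rw [Int.cast_natCast, ← CfsgLib.BrauerReynolds.deg_eq]
      push_cast
      linear_combination -hdeg
    -- the value is small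
    have hsq : e ^ 2 ≤ (p : ℤ) := by
      have h := column_orth s s
      rw [if_pos (IsConj.refl s), C.card_centralizer_tr] at h
      have h' := congrArg Complex.re h
      rw [Complex.re_sum, Complex.natCast_re] at h'
      have hle := Finset.single_le_sum (f := fun χ : IrrCharacter G =>
        ((χ : G → ℂ) s * (starRingEnd ℂ) ((χ : G → ℂ) s)).re)
        (fun χ _ => by rw [Complex.mul_conj, Complex.ofReal_re]; exact Complex.normSq_nonneg _)
        (Finset.mem_univ (C.own 1))
      rw [h', hv1] at hle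
      have hle' : ((e : ℝ)) ^ 2 ≤ (p : ℝ) := by
        refine le_trans (le_of_eq ?_) hle
        rw [Complex.mul_conj, Complex.ofReal_re, ← Complex.ofReal_intCast, Complex.normSq_ofReal, sq]
      exact_mod_cast hle'
    have hdvd : (p : ℤ) ∣ e - εY * q := ⟨K - (Nat.card C.cls : ℤ) + e, by linear_combination hd⟩
    have hq11 := C.hq11
    have hp := C.hp
    have hlt : |e| < (q : ℤ) := by
      refine abs_lt_of_sq_lt_sq ?_ (by positivity)
      refine lt_of_le_of_lt hsq ?_
      rw [hp]; push_cast; nlinarith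
    obtain ⟨hl, hu⟩ := abs_lt.1 hlt
    obtain ⟨t, ht⟩ := hdvd
    have hpz : (p : ℤ) = 2 * q + 1 := by exact_mod_cast hp
    rcases B.εY_sign with h' | h' <;> rw [h'] at ht <;>
    · rcases lt_trichotomy t 0 with h0 | h0 | h0
      · have : (p : ℤ) * t ≤ -p := by nlinarith
        omega
      · subst h0; omega
      · have : (p : ℤ) ≤ (p : ℤ) * t := by nlinarith
        omega
  · obtain ⟨hz, -⟩ := B.outside hO _ hX hY
    have h := hz s hsL hs1
    rw [hv1] at h
    exact Or.inl (by exact_mod_cast h)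

/-- A proper class is the multiplier group. -/
theorem cls_eq_mult (hne : C.cls ≠ ⊤) : C.cls = C.mult := by
  have hperf := C.perfect
  obtain ⟨e, -, hdeg⟩ := C.exists_e
  obtain ⟨m, Q, hmx, hom, hQeq, hQc, hcent⟩ := C.exists_sylow_q
  obtain ⟨L, hL⟩ := exists_loc Q hQc
  have hq2 : q ≠ 2 := by have := C.hq11; omega
  have hCQ : L.C = (L.P : Subgroup G) := by rw [Loc.C, hL, hcent]
  have hO : Nat.card L.O = 1 := by
    have h := L.card_C
    rw [hCQ, L.hP] at h
    exact (Nat.eq_of_mul_eq_mul_left C.hq.pos (by omega)).symm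
  have hpow : ∀ (n : ℕ) x, ((m ^ n : G) : Perm (ZMod p)) x = 4 ^ n * x := by
    intro n
    induction n with
    | zero => simp
    | succ n ih =>
      intro x; rw [pow_succ', Subgroup.coe_mul, Perm.mul_apply, ih, hmx, pow_succ']; ring
  have hel : ∀ i : ZMod q, (C.el (i, 0) : G) = m ^ i.val := fun i =>
    Subtype.ext (Equiv.ext fun x => by rw [C.el_apply, hpow, add_zero])
  -- the exponent homomorphism
  have hexp : ∀ g : L.N, ∃ u : (ZMod q)ˣ, Norm ((g : G) : Perm (ZMod p)) (u : ZMod q).val := by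
    rintro ⟨g, hg⟩
    rw [Loc.N, hL, hQeq] at hg
    have h1 := (Subgroup.mem_normalizer_iff.1 hg m).1 (Subgroup.mem_zpowers m)
    obtain ⟨n, hn⟩ := (isOfFinOrder_of_finite m).mem_powers_iff_mem_zpowers.2 h1
    have hN : Norm (g : Perm (ZMod p)) n := fun x => by
      have hn' : g * m = m ^ n * g := by
        simp only at hn
        rw [hn, inv_mul_cancel_right]
      have h := congrArg (fun f : G => (f : Perm (ZMod p)) x) hn'
      simp only [Subgroup.coe_mul, Perm.mul_apply, hmx, hpow] at h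
      exact h
    exact ⟨Units.mk0 _ (C.norm_zero hN).2, C.norm_congr (by simp) hN⟩
  choose φ hφ using hexp
  have huniq : ∀ (g : Perm (ZMod p)) (u v : (ZMod q)ˣ), Norm g (u : ZMod q).val →
      Norm g (v : ZMod q).val → u = v := by
    intro g u v hu hv
    have h := (hu 1).symm.trans (hv 1)
    have hne : g 1 ≠ 0 := fun h' => one_ne_zero (g.injective (h'.trans (C.norm_zero hu).1.symm))
    have := C.four_pow_inj (mul_right_cancel₀ hne h)
    simp only [ZMod.natCast_zmod_val] at this
    exact Units.ext this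
  let Φ : L.N →* (ZMod q)ˣ :=
    { toFun := φ
      map_one' := huniq _ _ _ (hφ 1) (fun x => by rw [Units.val_one, ZMod.val_one]; simp)
      map_mul' := fun a b => huniq _ _ _ (hφ (a * b)) (C.norm_congr (by simp) ((hφ a).mul (hφ b))) }
  have hrange : Φ.range = C.mult := by
    refine le_antisymm ?_ fun u => ?_
    · rintro _ ⟨g, rfl⟩
      exact ⟨_, (g : G).2, hφ g⟩
    · rintro ⟨g, hg, hgu⟩
      suffices hN : (⟨g, hg⟩ : G) ∈ L.N by
        exact ⟨⟨⟨g, hg⟩, hN⟩, huniq g _ _ (hφ ⟨⟨g, hg⟩, hN⟩) hgu⟩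
      rw [Loc.N, hL, hQeq]
      refine Subgroup.mem_normalizer_fintype fun y hy => ?_
      obtain ⟨i, rfl⟩ := Subgroup.mem_zpowers_iff.1 hy
      have h1 : (⟨g, hg⟩ : G) * m * (⟨g, hg⟩ : G)⁻¹ = m ^ (u : ZMod q).val := by
        rw [mul_inv_eq_iff_eq_mul]
        refine Subtype.ext (Equiv.ext fun x => ?_)
        rw [Subgroup.coe_mul, Subgroup.coe_mul, Perm.mul_apply, Perm.mul_apply, hpow, hmx]
        exact hgu x
      rw [← conj_zpow, h1]
      exact Subgroup.zpow_mem _ (Subgroup.pow_mem _ (Subgroup.mem_zpowers m) _) _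
  have hker : Φ.ker = L.C.subgroupOf L.N := by
    ext g
    rw [MonoidHom.mem_ker, Subgroup.mem_subgroupOf, hCQ, hL, hQeq]
    constructor
    · intro h
      have hn : Norm ((g : G) : Perm (ZMod p)) 1 := by
        have := hφ g
        rw [show φ g = 1 from h, Units.val_one, ZMod.val_one] at this
        exact this
      obtain ⟨j, hj⟩ := C.exists_pow (C.norm_halves (g : G).2 hn).1
      refine Subgroup.mem_zpowers_iff.2 ⟨(j : ℤ), Subtype.ext (Equiv.ext fun x => ?_)⟩
      rw [zpow_natCast, hpow, C.centralizer_eq (g : G).2 hn x, ← hj]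
    · intro h
      obtain ⟨j, hj⟩ := (isOfFinOrder_of_finite m).mem_powers_iff_mem_zpowers.2 h
      refine huniq _ _ _ (hφ g) ?_
      rw [← hj, Units.val_one, ZMod.val_one]
      intro x
      show ((m ^ j : G) : Perm (ZMod p)) _ = _
      rw [hpow, hpow]; ring
  have heN : eN L = Nat.card C.mult := by
    rw [eN, Subgroup.relIndex, ← hker, Subgroup.index_ker, hrange]
  have : Fintype L.Dual := @Fintype.ofFinite _ L.finite_dual
  obtain ⟨εY, X, Y, sg, B⟩ := exists_block L hq2 hperf
  set ψ := C.own 1 with hψ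
  -- the values on the powers of `m` are not constant
  have hnc : ¬ ∃ w : ℂ, ∀ i : ZMod q, i ≠ 0 → (ψ : G → ℂ) (C.el (i, 0) : G) = w := by
    rintro ⟨w, hw⟩
    refine hne (eq_top_iff.2 fun u _ => C.mem_cls.2 ?_)
    have hval : ∀ b : ZMod q, b ≠ 0 → (p : ℂ) * q * C.aC (ψ : G → ℂ) b =
        ∑ v : ZMod p, (ψ : G → ℂ) (C.el (0, v) : G) - p * w := by
      intro b hb
      rw [C.aC_formula (irr_isClassFunction ψ), sub_eq_add_neg, ← mul_neg]
      congr 2
      rw [Finset.sum_congr rfl fun i hi => by rw [hw i (Finset.ne_of_mem_erase hi),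
        show -(b * i) = -b * i by ring], ← Finset.mul_sum]
      have hs := sum_std (-b)
      rw [← Finset.add_sum_erase _ _ (Finset.mem_univ (0 : ZMod q)), mul_zero,
        AddChar.map_zero_eq_one, if_neg (neg_ne_zero.2 hb)] at hs
      linear_combination w * hs
    have h1 := (hval u u.ne_zero).trans (hval 1 one_ne_zero).symm
    rw [hψ, C.own_self, C.aC_own] at h1
    split_ifs at h1 with h'
    · exact h'
    · rw [mul_zero, mul_one] at h1
      exact absurd h1.symm (mul_ne_zero (Nat.cast_ne_zero.2 (Fact.out : p.Prime).ne_zero)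
        (Nat.cast_ne_zero.2 C.hq.ne_zero))
  have hmem : ∀ i : ZMod q, i ≠ 0 → (C.el (i, 0) : G) ∈ (L.P : Subgroup G) ∧
      (C.el (i, 0) : G) ≠ 1 := by
    intro i hi
    rw [hel, hL, hQeq]
    refine ⟨Subgroup.pow_mem _ (Subgroup.mem_zpowers m) _, fun h => hi ?_⟩
    have := orderOf_dvd_of_pow_eq_one h
    rw [hom] at this
    have := Nat.eq_zero_of_dvd_of_lt this (ZMod.val_lt i)
    rwa [ZMod.val_eq_zero] at this
  have hsign : ¬ (ψ ∈ X ∨ (qN L = 1 ∧ ψ ∈ Y)) := fun hc => hnc ⟨(sg ψ : ℂ), fun i hi => by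
    have h := (B.sign ψ hc).2.2 _ (hmem i hi).1 (hmem i hi).2 1 (Subgroup.one_mem _)
      (by rw [orderOf_one]; exact C.hq.not_dvd_one)
    rwa [mul_one] at h⟩
  by_cases hY : ψ ∈ Y
  swap
  · exact absurd ⟨0, fun i hi => (B.outside hO ψ (fun h => hsign (Or.inl h)) hY).1 _
      (hmem i hi).1 (hmem i hi).2⟩ hnc
  obtain ⟨K, hK⟩ := B.degY ψ hY
  have hd : (p : ℤ) * (Nat.card C.cls) - ((p : ℤ) - 1) * e = εY * (Nat.card C.mult : ℤ) + q * K := by
    rw [← heN, ← hK]
    refine Int.cast_injective (α := ℂ) ?_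
    rw [Int.cast_natCast, ← CfsgLib.BrauerReynolds.deg_eq]
    push_cast
    linear_combination -hdeg
  have hpz : (p : ℤ) = 2 * q + 1 := by exact_mod_cast C.hp
  rw [hpz] at hd
  have hdvd : (q : ℤ) ∣ (Nat.card C.cls : ℤ) - εY * (Nat.card C.mult : ℤ) :=
    ⟨K - 2 * (Nat.card C.cls : ℤ) + 2 * e, by linear_combination hd⟩
  have hle := Subgroup.card_le_of_le C.mult_le_cls
  have hsmall : 2 * Nat.card C.cls ≤ q - 1 := by
    have h2 := C.cls.card_mul_index
    rw [Nat.card_eq_fintype_card (α := (ZMod q)ˣ), ZMod.card_units] at h2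
    have h3 : 2 ≤ C.cls.index := C.cls.one_lt_index_of_ne_top hne
    rw [← h2, mul_comm 2]
    exact Nat.mul_le_mul_left _ h3
  have hpos : 0 < Nat.card C.mult := Nat.card_pos
  have hq11 := C.hq11
  obtain ⟨t, ht⟩ := hdvd
  have hcard : Nat.card C.cls = Nat.card C.mult := by
    rcases lt_trichotomy t 0 with h0 | h0 | h0
    · have : (q : ℤ) * t ≤ -q := by nlinarith
      rcases B.εY_sign with h' | h' <;> rw [h'] at ht <;> omega
    · subst h0
      rcases B.εY_sign with h' | h' <;> rw [h'] at ht <;> omega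
    · have : (q : ℤ) ≤ (q : ℤ) * t := by nlinarith
      rcases B.εY_sign with h' | h' <;> rw [h'] at ht <;> omega
  exact (Subgroup.eq_of_le_of_card_ge C.mult_le_cls hcard.le).symm

end Ctx

end CfsgLib.PrimeFour
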