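import Cfsg.Agent.Lib.PrimeFour.Inversion
import Mathlib.GroupTheory.Coset.Card

/-!
# A proper multiplier group with vanishing moment forms forces `c = -1`
-/

set_option autoImplicit false

open Finset

namespace CfsgLib.PrimeFour

variable {p q : ℕ} [Fact p.Prime]

/-- The residue `k` is a multiplier in `H`. -/
def InMult (H : Subgroup (ZMod q)ˣ) (k : ℕ) : Prop := ∃ u ∈ H, (u : ZMod q) = (k : ZMod q)

theorem exists_outside [Fact q.Prime] (hq : 19 ≤ q) (H : Subgroup (ZMod q)ˣ) (hneg : (-1 : (ZMod q)ˣ) ∈ H)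
    (hH : H ≠ ⊤) : ∃ k, 2 ≤ k ∧ 2 * (k + 4) < q ∧ ¬ InMult H k := by
  classical
  by_contra hcon
  push Not at hcon
  have hall : ∀ k, 1 ≤ k → 2 * (k + 4) < q → InMult H k := fun k h1 h2 => by
    rcases eq_or_lt_of_le h1 with rfl | h
    · exact ⟨1, H.one_mem, by simp⟩
    · exact hcon k h h2
  set L := (q - 1) / 2 - 4 with hL
  set A : Finset (ZMod q) := (Finset.Icc 1 L).image (fun k : ℕ => (k : ZMod q)) ∪
    (Finset.Icc 1 L).image (fun k : ℕ => -(k : ZMod q)) with hA
  have hinj : ∀ a b : ℕ, a < q → b < q → (a : ZMod q) = b → a = b := fun a b ha hb h => by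
    simpa [ZMod.val_natCast, Nat.mod_eq_of_lt ha, Nat.mod_eq_of_lt hb] using congrArg ZMod.val h
  have hcard : A.card = 2 * L := by
    rw [hA, Finset.card_union_of_disjoint, Finset.card_image_of_injOn, Finset.card_image_of_injOn,
      Nat.card_Icc]
    · omega
    · intro a ha b hb h
      simp only [Finset.coe_Icc, Set.mem_Icc] at ha hb
      exact hinj a b (by omega) (by omega) (neg_injective h)
    · intro a ha b hb h
      simp only [Finset.coe_Icc, Set.mem_Icc] at ha hb
      exact hinj a b (by omega) (by omega) h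
    · rw [Finset.disjoint_left]
      intro x h1 h2
      simp only [Finset.mem_image, Finset.mem_Icc] at h1 h2
      obtain ⟨a, ha, rfl⟩ := h1
      obtain ⟨b, hb, hab⟩ := h2
      have h0 : ((a + b : ℕ) : ZMod q) = 0 := by push_cast; linear_combination -hab
      rw [ZMod.natCast_eq_zero_iff] at h0
      have := Nat.le_of_dvd (by omega) h0
      omega
  have hsub : A ⊆ (Finset.univ.filter (fun u : (ZMod q)ˣ => u ∈ H)).image Units.val := by
    intro x hx
    simp only [hA, Finset.mem_union, Finset.mem_image, Finset.mem_Icc] at hx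
    simp only [Finset.mem_image, Finset.mem_filter, Finset.mem_univ, true_and]
    rcases hx with ⟨a, ha, rfl⟩ | ⟨a, ha, rfl⟩
    · exact hall a ha.1 (by omega)
    · obtain ⟨u, hu, hu'⟩ := hall a ha.1 (by omega)
      exact ⟨-1 * u, H.mul_mem hneg hu, by simp [hu']⟩
  have h1 := (Finset.card_le_card hsub).trans Finset.card_image_le
  rw [hcard, ← Fintype.card_subtype, ← Nat.card_eq_fintype_card] at h1
  have h2 := H.card_mul_index
  rw [Nat.card_eq_fintype_card (α := (ZMod q)ˣ), ZMod.card_units] at h2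
  have h3 : 2 ≤ H.index := H.one_lt_index_of_ne_top hH
  have h4 : 2 * Nat.card H ≤ q - 1 := by rw [← h2, mul_comm 2]; exact Nat.mul_le_mul_left _ h3
  omega

theorem two_generates_eleven : ∀ y : (ZMod 11)ˣ, ∃ n : Fin 10,
    (ZMod.unitOfCoprime 2 (by norm_num) : (ZMod 11)ˣ) ^ (n : ℕ) = y := by
  decide

/-- **No proper multiplier group**, unless `c = -1`. -/
theorem eq_neg_one_of_forms [Fact q.Prime] (hp : p = 2 * q + 1) (hq5 : 11 ≤ q) {c : ZMod p}
    (hc : c ^ q = -1) (H : Subgroup (ZMod q)ˣ) (hneg : (-1 : (ZMod q)ˣ) ∈ H) (hH : H ≠ ⊤)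
    (z : ∀ r : ℕ, InMult H r → ∃ g : ZMod p ≃ ZMod p, ∀ x, g x = pw q r (c * (c ^ r)⁻¹) x)
    (zinv : ∀ g : ZMod p ≃ ZMod p, (∀ x, g x = pw q (q - 1) (c * (c ^ (q - 1))⁻¹) x) →
      ∀ x, g (g x) = x)
    (hB : ∀ (r s : ℕ) (g : ZMod p ≃ ZMod p), InMult H r → InMult H s →
      (∀ x, g x = pw q s (c * (c ^ s)⁻¹) x) → ∀ v : ZMod p, ∀ k, k < q → 0 < k → ¬ InMult H k →
        bForm (fun x => pw q r (c * (c ^ r)⁻¹) (g x + v)) k = 0) :
    c = -1 := by
  have hqp := (Fact.out : q.Prime)
  have hodd : Odd q := hqp.odd_of_ne_two (by omega)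
  have hc0 : c ≠ 0 := fun h => by
    rw [h, zero_pow (by omega)] at hc; exact one_ne_zero (by linear_combination hc)
  by_contra hc1
  have hc2 : c ≠ 1 := fun h => by
    rw [h, one_pow] at hc
    exact two_ne_zero' (p := p) hp (by omega) (by linear_combination hc)
  have horder : ∀ k, 0 < k → k < q → c ^ k ≠ 1 ∧ 1 + c ^ k ≠ 0 := by
    intro k hk hkq
    have h2k : c ^ (2 * k) ≠ 1 := by
      intro h
      have hq' : (c ^ 2) ^ q = 1 := by rw [← pow_mul, mul_comm, pow_mul, hc]; ring
      rw [pow_mul] at h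
      have hd := Nat.dvd_gcd (orderOf_dvd_of_pow_eq_one hq') (orderOf_dvd_of_pow_eq_one h)
      rw [(Nat.coprime_of_lt_prime hk.ne' hkq hqp).gcd_eq_one, Nat.dvd_one, orderOf_eq_one_iff] at hd
      rcases sq_eq_one_iff.1 hd with h' | h'
      · exact hc2 h'
      · exact hc1 h'
    exact ⟨fun h => h2k (by rw [mul_comm, pow_mul, h, one_pow]),
      fun h => h2k (by rw [mul_comm, pow_mul]; linear_combination (c ^ k - 1) * h)⟩
  have hm1 : InMult H (q - 1) := ⟨-1, hneg, by
    rw [Nat.cast_sub (by omega), ZMod.natCast_self]; simp⟩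
  by_cases h2 : InMult H 2
  · obtain ⟨g, hg⟩ := z 2 h2
    have hg' : ∀ x, g x = pw q 2 c⁻¹ x := fun x => by rw [hg]; congr 1; field_simp
    have hκ : ∀ r, 2 ≤ r → r ≤ q → c * (c ^ r)⁻¹ ≠ 1 := by
      intro r hr hrq h
      refine (horder (r - 1) (by omega) (by omega)).1 ?_
      have hcr : c ^ r = c ^ (r - 1) * c := by rw [← pow_succ]; congr 1; omega
      rw [hcr] at h
      field_simp at h
      linear_combination -h
    by_cases h3 : InMult H 3
    · have h4 : InMult H 4 := by
        obtain ⟨u, hu, hu'⟩ := h2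
        exact ⟨u * u, H.mul_mem hu hu, by push_cast; rw [hu']; norm_num⟩
      by_cases h19 : 19 ≤ q
      · obtain ⟨k, hk2, hk4, hk⟩ := exists_outside h19 H hneg hH
        refine no_three_powers hk2 (by omega) hc2 (horder k (by omega) (by omega)).2 ?_
        intro r hr
        simp only [Finset.mem_insert, Finset.mem_singleton] at hr
        have hr' : InMult H r := by rcases hr with rfl | rfl | rfl; exacts [h2, h3, h4]
        exact weight_eq_zero hp hodd hc (hκ r (by omega) (by omega)) (by omega) (by omega) g hg'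
          (fun v => hB r 2 g hr' h2 hg v k (by omega) (by omega) hk)
      · have hq11 : q = 11 := by
          by_contra hne
          have hp' := (Fact.out : p.Prime)
          interval_cases q <;> first
            | omega
            | (norm_num at hqp; done)
            | (subst hp; norm_num at hp')
        subst hq11
        obtain ⟨u, hu, hu'⟩ := h2
        refine hH ((Subgroup.eq_top_iff' H).2 fun x => ?_)
        have huv : u = ZMod.unitOfCoprime 2 (by norm_num) := Units.ext (by rw [hu']; rfl)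
        have : x ∈ Subgroup.zpowers u := by
          rw [← mem_powers_iff_mem_zpowers]
          obtain ⟨n, hn⟩ := two_generates_eleven x
          exact ⟨n, by rw [huv]; exact hn⟩
        exact Subgroup.zpowers_le.2 hu this
    · refine no_squaring (p := p) (by omega) hc2 hc1 ?_
      exact weight_eq_zero hp hodd hc (hκ 2 le_rfl (by omega)) (by omega) (by omega) g hg'
        (fun v => hB 2 2 g h2 h2 hg v 3 (by omega) (by omega) h3)
  · obtain ⟨g, hg⟩ := z (q - 1) hm1
    have hκ : c * (c ^ (q - 1))⁻¹ = -(c ^ 2) := by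
      have h' : c ^ (q - 1) * c = -1 := by rw [← pow_succ, show q - 1 + 1 = q by omega, hc]
      field_simp
      linear_combination h'
    have hi : ∀ x, g x = pw q (q - 1) (-(c ^ 2)) x := fun x => by rw [hg, hκ]
    have := inversion_trivial hp hodd hqp hq5 g hi (zinv g hg) (fun v => by
      have := hB (q - 1) (q - 1) g hm1 hm1 hg v 2 (by omega) (by omega) h2
      rwa [hκ] at this)
    rcases this with h | h
    · exact (sq_eq_one_iff.1 h).elim hc2 hc1
    · have hq' : (c ^ 2) ^ q = 1 := by rw [← pow_mul, mul_comm, pow_mul, hc]; ring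
      rw [h, hodd.neg_one_pow] at hq'
      exact two_ne_zero' (p := p) hp (by omega) (by linear_combination -hq')

end CfsgLib.PrimeFour
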