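import Cfsg.Agent.Lib.PrimeFour.Orth

/-!
# Counting the constituents of the pair character
-/

set_option autoImplicit false
set_option linter.unusedSectionVars false

open MulAction Subgroup Equiv
open Cfsg CfsgLib.Characters
open scoped Classical Pointwise

namespace CfsgLib.PrimeFour

section General

variable {G : Type*} [Group G] {Y β : Type*} [MulAction G Y]

/-- An invariant takes at most as many values as there are orbits. -/
theorem card_image_le_orbits [Fintype Y] [DecidableEq β] (f : Y → β) (hinv : ∀ (g : G) y, f (g • y) = f y) :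
    (Finset.univ.image f).card ≤ Nat.card (Quotient (orbitRel G Y)) := by
  have hresp : ∀ a b : Y, orbitRel G Y a b → f a = f b := by
    rintro a b ⟨g, rfl⟩
    exact hinv g b
  let F : Quotient (orbitRel G Y) → (Finset.univ.image f : Finset β) := fun x =>
    Quotient.liftOn' x (fun y => ⟨f y, Finset.mem_image_of_mem f (Finset.mem_univ y)⟩)
      fun a b h => Subtype.ext (hresp a b h)
  have hsurj : Function.Surjective F := by
    rintro ⟨v, hv⟩
    obtain ⟨y, -, rfl⟩ := Finset.mem_image.1 hv
    exact ⟨Quotient.mk'' y, rfl⟩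
  have := Nat.card_le_card_of_surjective F hsurj
  rwa [Nat.card_eq_fintype_card, Fintype.card_coe] at this

/-- An invariant separating the orbits counts them. -/
theorem orbits_le_card_image [Fintype Y] [DecidableEq β] (f : Y → β)
    (hsep : ∀ y y' : Y, f y = f y' → ∃ g : G, g • y = y') :
    Nat.card (Quotient (orbitRel G Y)) ≤ (Finset.univ.image f).card := by
  have hpre : ∀ v : (Finset.univ.image f : Finset β), ∃ y, f y = v := fun v => by
    obtain ⟨y, -, hy⟩ := Finset.mem_image.1 v.2
    exact ⟨y, hy⟩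
  choose s hs using hpre
  have hsurj : Function.Surjective fun v : (Finset.univ.image f : Finset β) =>
      (Quotient.mk'' (s v) : Quotient (orbitRel G Y)) := by
    intro x
    induction x using Quotient.inductionOn' with
    | h y =>
      refine ⟨⟨f y, Finset.mem_image_of_mem f (Finset.mem_univ y)⟩, ?_⟩
      obtain ⟨g, hg⟩ := hsep y (s ⟨f y, Finset.mem_image_of_mem f (Finset.mem_univ y)⟩)
        (hs ⟨f y, Finset.mem_image_of_mem f (Finset.mem_univ y)⟩).symm
      exact Quotient.sound' ⟨g, hg⟩
  have := Nat.card_le_card_of_surjective _ hsurj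
  rwa [Nat.card_eq_fintype_card (α := (Finset.univ.image f : Finset β)), Fintype.card_coe] at this

theorem card_fixedBy_prod {Z : Type*} [MulAction G Z] (g : G) :
    Nat.card (fixedBy (Y × Z) g) = Nat.card (fixedBy Y g) * Nat.card (fixedBy Z g) := by
  rw [← Nat.card_prod]
  exact Nat.card_congr ⟨fun a => (⟨a.1.1, congrArg Prod.fst a.2⟩, ⟨a.1.2, congrArg Prod.snd a.2⟩),
    fun a => ⟨(a.1.1, a.2.1), Prod.ext a.1.2 a.2.2⟩, fun a => rfl, fun a => rfl⟩

end General

variable {p q : ℕ} [Fact p.Prime] [Fact q.Prime]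

namespace Ctx

variable {G : Subgroup (Perm (ZMod p))} (C : Ctx q G)

include C

theorem isIrr_heart :
    IsIrrCharacter G (fun g : G => (Nat.card (fixedBy (ZMod p) g) : ℂ) - 1) := by
  have := C.trans
  exact (CfsgLib.PermTwo.isIrrCharacter_fix_sub_one_iff (by
    rw [Nat.card_zmod]; exact (Fact.out : p.Prime).two_le)).2 C.two_trans

/-- The fixed point count minus one. -/
noncomputable def heart : IrrCharacter G := ⟨_, C.isIrr_heart⟩

theorem heart_apply (g : G) :
    (C.heart : G → ℂ) g = (Nat.card (fixedBy (ZMod p) g) : ℂ) - 1 := rfl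

theorem heart_one : (C.heart : G → ℂ) 1 = (p : ℂ) - 1 := by
  rw [C.heart_apply, fixedBy_one_eq_univ, Nat.card_coe_set_eq, Set.ncard_univ, Nat.card_zmod]

theorem aC_heart (b : ZMod q) : C.aC (C.heart : G → ℂ) b = 0 := by
  have h := C.aC_formula (irr_isClassFunction C.heart) b
  have h1 : ∀ v : ZMod p, v ≠ 0 → (C.heart : G → ℂ) (C.el (0, v) : G) = -1 := by
    intro v hv
    have hfix : fixedBy (ZMod p) (C.el (0, v) : G) = ∅ := Set.eq_empty_of_forall_notMem fun x hx => hv (by
      have hx' : ((C.el (0, v) : G) : Perm (ZMod p)) x = x := hx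
      rw [C.el_apply, ZMod.val_zero, pow_zero, one_mul] at hx'
      linear_combination hx')
    rw [C.heart_apply, hfix]
    simp
  have h2 : ∀ i : ZMod q, i ≠ 0 → (C.heart : G → ℂ) (C.el (i, 0) : G) = 0 := by
    intro i hi
    have hk : (4 : ZMod p) ^ i.val ≠ 1 := fun h => hi (by
      have := C.four_pow_inj (h.trans (pow_zero (4 : ZMod p)).symm)
      simpa using this)
    have hfix : fixedBy (ZMod p) (C.el (i, 0) : G) = {0} := by
      ext x
      constructor
      · intro hx
        have hx' : ((C.el (i, 0) : G) : Perm (ZMod p)) x = x := hx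
        rw [C.el_apply, add_zero] at hx'
        exact (mul_eq_zero.1 (show ((4 : ZMod p) ^ i.val - 1) * x = 0 by linear_combination hx')).resolve_left
          (sub_ne_zero.2 hk)
      · intro hx
        rw [Set.mem_singleton_iff] at hx
        subst hx
        show ((C.el (i, 0) : G) : Perm (ZMod p)) 0 = 0
        rw [C.el_apply, mul_zero, add_zero]
    rw [C.heart_apply, hfix, Nat.card_coe_set_eq, Set.ncard_singleton, Nat.cast_one, sub_self]
  have e2 : ∑ i ∈ Finset.univ.erase (0 : ZMod q),
      (C.heart : G → ℂ) (C.el (i, 0) : G) * ZMod.stdAddChar (-(b * i)) = 0 :=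
    Finset.sum_eq_zero fun i hi => by rw [h2 i (Finset.ne_of_mem_erase hi), zero_mul]
  rw [← Finset.add_sum_erase _ _ (Finset.mem_univ (0 : ZMod p)), C.el_zero_zero,
    Finset.sum_congr rfl fun v hv => h1 v (Finset.ne_of_mem_erase hv),
    e2, mul_zero, add_zero, C.heart_one, Finset.sum_const,
    Finset.card_erase_of_mem (Finset.mem_univ _), Finset.card_univ, ZMod.card, nsmul_eq_mul,
    Nat.cast_sub (Fact.out : p.Prime).one_le, Nat.cast_one] at h
  have h0 : (p : ℂ) * q * C.aC (C.heart : G → ℂ) b = 0 := h.trans (by ring)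
  exact (mul_eq_zero.1 h0).resolve_left (mul_ne_zero
    (Nat.cast_ne_zero.2 (Fact.out : p.Prime).ne_zero) (Nat.cast_ne_zero.2 C.hq.ne_zero))

theorem distinct : C.own 1 ≠ principalIrr G ∧ C.own 1 ≠ C.heart ∧ C.heart ≠ principalIrr G := by
  refine ⟨C.own_one_ne one_ne_zero, fun h => ?_, fun h => ?_⟩
  · have := C.own_self 1
    rw [h, C.aC_heart] at this
    exact zero_ne_one this
  · have h1 := C.heart_one
    rw [h, principalIrr_apply] at h1
    have h2 : ((p : ℕ) : ℂ) = ((2 : ℕ) : ℂ) := by push_cast; linear_combination -h1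
    have := C.p_ge
    have := Nat.cast_injective h2
    omega

/-- The multiplicity in the pair character. -/
noncomputable def mlt (φ : IrrCharacter G) : ℕ :=
  (fun _ : Ctx q G =>
    Classical.choose (classInner_char_nat (isCharacter_pairChar (G := G)) (irr_isCharacter φ))) C

theorem mlt_spec (φ : IrrCharacter G) :
    classInner pairChar (φ : G → ℂ) = (C.mlt φ : ℂ) :=
  Classical.choose_spec (classInner_char_nat (isCharacter_pairChar (G := G)) (irr_isCharacter φ))

theorem mlt_own : C.mlt (C.own 1) = 1 := by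
  have := C.mlt_spec (C.own 1)
  rw [C.own_mult] at this
  exact_mod_cast this.symm

theorem mlt_one : C.mlt (principalIrr G) = 1 := by
  have := C.mlt_spec (principalIrr G)
  rw [C.pairChar_inner_one] at this
  exact_mod_cast this.symm

/-- The multiplicity of the heart counts the orbits on pairs with a point. -/
theorem mlt_heart_add_one :
    C.mlt C.heart + 1 = Nat.card (Quotient (orbitRel G (Pair p × ZMod p))) := by
  have h := C.mlt_spec C.heart
  have h1 := C.pairChar_inner_one
  rw [classInner] at h h1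
  have hG : (Nat.card G : ℂ) ≠ 0 := Nat.cast_ne_zero.2 Nat.card_pos.ne'
  have hs := CfsgLib.PermTwo.sum_fixedBy (G := G) (Pair p × ZMod p)
  rw [Finset.sum_congr rfl fun g _ => by rw [card_fixedBy_prod, Nat.cast_mul]] at hs
  simp only [principalIrr_apply, map_one, mul_one] at h1
  simp only [C.heart_apply, map_sub, map_natCast, map_one, mul_sub, mul_one,
    Finset.sum_sub_distrib] at h
  have e : ∑ g : G, pairChar g * (Nat.card (fixedBy (ZMod p) g) : ℂ) =
      (Nat.card (Quotient (orbitRel G (Pair p × ZMod p))) : ℂ) * (Nat.card G : ℂ) := by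
    rw [← hs]; exact Finset.sum_congr rfl fun g _ => rfl
  rw [e, h1, mul_comm _ (Nat.card G : ℂ), ← mul_assoc, inv_mul_cancel₀ hG, one_mul] at h
  have h2 : ((C.mlt C.heart + 1 : ℕ) : ℂ) =
      (Nat.card (Quotient (orbitRel G (Pair p × ZMod p))) : ℂ) := by
    push_cast; linear_combination -h
  exact_mod_cast h2

/-- The remaining constituents. -/
noncomputable def rest : Finset (IrrCharacter G) :=
  ((Finset.univ.erase (principalIrr G)).erase C.heart).erase (C.own 1)

theorem mem_rest {φ : IrrCharacter G} :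
    φ ∈ C.rest ↔ φ ≠ C.own 1 ∧ φ ≠ C.heart ∧ φ ≠ principalIrr G := by
  simp [rest, Finset.mem_erase]

theorem sum_split {M : Type*} [AddCommMonoid M] (F : IrrCharacter G → M) :
    ∑ φ, F φ = F (principalIrr G) + (F C.heart + (F (C.own 1) + ∑ φ ∈ C.rest, F φ)) := by
  obtain ⟨h1, h2, h3⟩ := C.distinct
  rw [← Finset.add_sum_erase _ _ (Finset.mem_univ (principalIrr G)),
    ← Finset.add_sum_erase _ _ (Finset.mem_erase.2 ⟨h3, Finset.mem_univ C.heart⟩),
    ← Finset.add_sum_erase _ _ (Finset.mem_erase.2 ⟨h2, Finset.mem_erase.2 ⟨h1, Finset.mem_univ (C.own 1)⟩⟩)]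
  rfl

/-- **The degree count.** -/
theorem degree_count : ∃ e : ℤ, (e = 0 ∨ e = 1 ∨ e = -1) ∧
    ∑ φ ∈ C.rest, (C.mlt φ : ℤ) * (charDegree (φ : G → ℂ) : ℤ) =
      2 * q * (1 + e - C.mlt C.heart) := by
  obtain ⟨e, he, -, hdeg⟩ := C.exists_single
  refine ⟨e, he, ?_⟩
  obtain ⟨m, hdec, hm, -⟩ := CfsgLib.Chars17.exists_decomp (isCharacter_pairChar (G := G))
  have h1 := congrFun hdec 1
  rw [show pairChar (1 : G) = (p : ℂ) * q from by
    have h := C.pairChar_nor 1
    rw [if_pos rfl] at h
    exact h, Finset.sum_apply] at h1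
  have hmm : ∀ φ, m φ = C.mlt φ := fun φ => by
    have := (hm φ).symm.trans (C.mlt_spec φ)
    exact_mod_cast this
  simp only [Pi.smul_apply, smul_eq_mul, hmm] at h1
  rw [C.sum_split, principalIrr_apply, C.mlt_one, C.mlt_own, C.heart_one, hdeg] at h1
  refine Int.cast_injective (α := ℂ) ?_
  push_cast
  simp only [CfsgLib.Chars17.cast_irrDegree]
  have hp : (p : ℂ) = 2 * q + 1 := by exact_mod_cast C.hp
  rw [hp] at h1
  push_cast at h1
  linear_combination -h1

/-- The orbits on pairs of pairs. -/
theorem norm_eq : Nat.card (Quotient (orbitRel G (Pair p × Pair p))) =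
    2 + C.mlt C.heart ^ 2 + ∑ φ ∈ C.rest, C.mlt φ ^ 2 := by
  have hG : (Nat.card G : ℂ) ≠ 0 := Nat.cast_ne_zero.2 Nat.card_pos.ne'
  have hs := CfsgLib.PermTwo.sum_fixedBy (G := G) (Pair p × Pair p)
  rw [Finset.sum_congr rfl fun g _ => by rw [card_fixedBy_prod, Nat.cast_mul]] at hs
  have h := classInner_eq_sum_mul (φ := pairChar (G := G))
    (ψ := pairChar (G := G)) (isClassFunction_of_isCharacter (isCharacter_pairChar (G := G)))
  have e : classInner (pairChar (G := G)) pairChar =
      (Nat.card (Quotient (orbitRel G (Pair p × Pair p))) : ℂ) := by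
    rw [classInner, show ∑ g : G, pairChar g * (starRingEnd ℂ) (pairChar g) =
      (Nat.card (Quotient (orbitRel G (Pair p × Pair p))) : ℂ) * (Nat.card G : ℂ) from by
        rw [← hs]
        exact Finset.sum_congr rfl fun g _ => by rw [pairChar, map_natCast]; rfl]
    field_simp
  simp only [e, C.mlt_spec, map_natCast] at h
  have h2 : Nat.card (Quotient (orbitRel G (Pair p × Pair p))) = ∑ φ, C.mlt φ * C.mlt φ := by
    exact_mod_cast h
  rw [h2, C.sum_split, C.mlt_one, C.mlt_own]
  simp only [← sq]
  ring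

end Ctx

end CfsgLib.PrimeFour
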