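import Cfsg.Agent.Lib.PrimeFour.Count
import Cfsg.Agent.Lib.Chars17.GaloisTrace

/-!
# A triply transitive group is quadruply transitive
-/

set_option autoImplicit false
set_option linter.unusedSectionVars false

open MulAction Subgroup Equiv
open Cfsg CfsgLib.Characters
open scoped Classical Pointwise

namespace CfsgLib.PrimeFour

section General

variable {G : Type*} [Group G] [Fintype G]

/-- A class function against the fixed points in one orbit. -/
theorem sum_mul_fix {Y : Type*} [MulAction G Y] {φ : G → ℂ}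
    (hφ : IsClassFunction G φ) (S : Finset Y) {y₀ : Y}
    (H : Subgroup G) (hH : H = stabilizer G y₀) (htr : ∀ y ∈ S, ∃ h : G, h • y₀ = y) :
    ∑ g : G, φ g * (Nat.card {y : Y // y ∈ S ∧ g • y = y} : ℂ) =
      (S.card : ℂ) * ∑ g : H, φ (g : G) := by
  have h1 : ∀ g : G, φ g * (Nat.card {y : Y // y ∈ S ∧ g • y = y} : ℂ) =
      ∑ y ∈ S, if g • y = y then φ g else 0 := fun g => by
    rw [← Finset.sum_filter, Finset.sum_const, nsmul_eq_mul, mul_comm,
      Nat.subtype_card (S.filter fun y => g • y = y) (fun y => Finset.mem_filter)]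
  rw [Finset.sum_congr rfl fun g _ => h1 g, Finset.sum_comm]
  have h2 : ∀ y ∈ S, ∑ g : G, (if g • y = y then φ g else 0) =
      ∑ g ∈ Finset.univ.filter (fun g : G => g • y₀ = y₀), φ g := by
    intro y hy
    obtain ⟨h, rfl⟩ := htr y hy
    rw [Finset.sum_filter]
    refine Finset.sum_equiv (MulAut.conj h⁻¹).toEquiv (fun g => by simp) fun g _ => ?_
    simp only [MulEquiv.toEquiv_eq_coe, EquivLike.coe_coe, MulAut.conj_apply]
    rw [hφ g h⁻¹]
    refine if_congr ?_ rfl rfl
    rw [inv_inv, mul_smul, mul_smul, inv_smul_eq_iff]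
  rw [Finset.sum_congr rfl h2, Finset.sum_const, nsmul_eq_mul]
  congr 1
  exact Finset.sum_subtype _ (fun g => by simp [hH, mem_stabilizer_iff]) φ

/-- No fixed vectors for a subgroup: none for a larger one. -/
theorem sum_eq_zero_mono {F : G → ℂ} (hF : IsCharacter G F) {K H : Subgroup G} (hKH : K ≤ H)
    (h : ∑ g : K, F (g : G) = 0) : ∑ g : H, F (g : G) = 0 := by
  obtain ⟨n, R, rfl⟩ := CfsgLib.Induction.exists_matrix_of_isCharacter hF
  set MK : Matrix (Fin n) (Fin n) ℂ := ∑ g : K, R g with hMK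
  set MH : Matrix (Fin n) (Fin n) ℂ := ∑ g : H, R g with hMH
  have hK0 : (Nat.card K : ℂ) ≠ 0 := Nat.cast_ne_zero.2 Nat.card_pos.ne'
  have hsq : MK * MK = (Nat.card K : ℂ) • MK := by
    rw [hMK, Finset.sum_mul]
    have : ∀ a : K, R (a : G) * ∑ g : K, R (g : G) = ∑ g : K, R (g : G) := fun a => by
      rw [Finset.mul_sum]
      exact Fintype.sum_equiv (Equiv.mulLeft a) _ _ fun g => by
        rw [← map_mul]; rfl
    rw [Finset.sum_congr rfl fun a _ => this a, Finset.sum_const, Finset.card_univ,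
      ← Nat.card_eq_fintype_card, Nat.cast_smul_eq_nsmul]
  have hidem : IsIdempotentElem ((Nat.card K : ℂ)⁻¹ • MK) := by
    rw [IsIdempotentElem, smul_mul_smul_comm, hsq, smul_smul]
    congr 1
    field_simp
  obtain ⟨d, hd, hd0⟩ := CfsgLib.Chars17.exists_nat_trace_idempotent hidem
  rw [Matrix.trace_smul, hMK, Matrix.trace_sum, h, smul_zero] at hd
  have hzero : MK = 0 := by
    have h0 := hd0 (by exact_mod_cast hd.symm)
    rw [hMK]
    exact (smul_eq_zero.1 h0).resolve_left (inv_ne_zero hK0)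
  have hHK : MH * MK = (Nat.card K : ℂ) • MH := by
    rw [hMK, Finset.mul_sum]
    have : ∀ a : K, MH * R (a : G) = MH := fun a => by
      rw [hMH, Finset.sum_mul]
      exact Fintype.sum_equiv (Equiv.mulRight (⟨(a : G), hKH a.2⟩ : H)) _ _ fun g => by
        rw [← map_mul]; rfl
    rw [Finset.sum_congr rfl fun a _ => this a, Finset.sum_const, Finset.card_univ,
      ← Nat.card_eq_fintype_card, Nat.cast_smul_eq_nsmul]
  rw [hzero, mul_zero] at hHK
  have hMH0 : MH = 0 := (smul_eq_zero.1 hHK.symm).resolve_left hK0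
  have := congrArg Matrix.trace hMH0
  rwa [hMH, Matrix.trace_sum, Matrix.trace_zero] at this

end General

variable {p q : ℕ} [Fact p.Prime] [Fact q.Prime]

namespace Ctx

variable {G : Subgroup (Perm (ZMod p))} (C : Ctx q G)

include C

theorem move_three (h3 : IsMultiplyPretransitive G (ZMod p) 3) {a b c a' b' c' : ZMod p}
    (h1 : a ≠ b) (h2 : a ≠ c) (h4 : b ≠ c) (h1' : a' ≠ b') (h2' : a' ≠ c') (h4' : b' ≠ c') :
    ∃ g : G, g • a = a' ∧ g • b = b' ∧ g • c = c' := by
  let x : Fin 3 ↪ ZMod p := ⟨![a, b, c], fun i j hij => by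
    fin_cases i <;> fin_cases j <;>
      simp [h1, h2, h4, h1.symm, h2.symm, h4.symm] at hij ⊢⟩
  let y : Fin 3 ↪ ZMod p := ⟨![a', b', c'], fun i j hij => by
    fin_cases i <;> fin_cases j <;>
      simp [h1', h2', h4', h1'.symm, h2'.symm, h4'.symm] at hij ⊢⟩
  obtain ⟨g, hg⟩ := h3.exists_smul_eq x y
  exact ⟨g, DFunLike.congr_fun hg 0, DFunLike.congr_fun hg 1, DFunLike.congr_fun hg 2⟩

omit C in
/-- A pair from its two points. -/
theorem exists_pair {a b : ZMod p} (h : a ≠ b) :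
    ∃ z : Pair p, (z : Finset (ZMod p)) = {a, b} := ⟨⟨{a, b}, Finset.card_pair h⟩, rfl⟩

theorem exists_quad : ∃ a b c d : ZMod p,
    a ≠ b ∧ a ≠ c ∧ a ≠ d ∧ b ≠ c ∧ b ≠ d ∧ c ≠ d := by
  have hp := C.p_ge
  have hinj : ∀ i j : ℕ, i < p → j < p → i ≠ j → (i : ZMod p) ≠ j := fun i j hi hj hij h => hij (by
    simpa [ZMod.val_natCast, Nat.mod_eq_of_lt hi, Nat.mod_eq_of_lt hj] using congrArg ZMod.val h)
  exact ⟨(0 : ℕ), (1 : ℕ), (2 : ℕ), (3 : ℕ), hinj _ _ (by omega) (by omega) (by omega),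
    hinj _ _ (by omega) (by omega) (by omega), hinj _ _ (by omega) (by omega) (by omega),
    hinj _ _ (by omega) (by omega) (by omega), hinj _ _ (by omega) (by omega) (by omega),
    hinj _ _ (by omega) (by omega) (by omega)⟩

theorem mlt_heart_three (h3 : IsMultiplyPretransitive G (ZMod p) 3) : C.mlt C.heart = 1 := by
  let f : Pair p × ZMod p → Bool := fun y => decide (y.2 ∈ (y.1 : Finset (ZMod p)))
  have hinv : ∀ (g : G) y, f (g • y) = f y := by
    rintro g ⟨z, x⟩
    simp only [f, Prod.smul_mk, smul_pair, decide_eq_decide]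
    exact ((g : Perm (ZMod p)).injective.mem_finset_image)
  have hsep : ∀ y y', f y = f y' → ∃ g : G, g • y = y' := by
    rintro ⟨z, x⟩ ⟨z', x'⟩ h
    obtain ⟨a, b, hab, hz⟩ := C.exists_coords z
    obtain ⟨a', b', hab', hz'⟩ := C.exists_coords z'
    simp only [f, decide_eq_decide, hz, hz', Finset.mem_insert, Finset.mem_singleton] at h
    have himg : ∀ g : G, ((g • a = a' ∧ g • b = b') ∨ (g • a = b' ∧ g • b = a')) → g • x = x' →
        g • ((z, x) : Pair p × ZMod p) = (z', x') := by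
      intro g hg hgx
      refine Prod.ext (Subtype.ext ?_) hgx
      show ((g • z : Pair p) : Finset (ZMod p)) = z'
      rw [smul_pair, hz, hz', Finset.image_insert, Finset.image_singleton]
      rcases hg with ⟨e1, e2⟩ | ⟨e1, e2⟩
      · rw [show (g : Perm (ZMod p)) a = a' from e1, show (g : Perm (ZMod p)) b = b' from e2]
      · rw [show (g : Perm (ZMod p)) a = b' from e1, show (g : Perm (ZMod p)) b = a' from e2,
          Finset.pair_comm]
    by_cases hx : x = a ∨ x = b
    · have hx' := h.1 hx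
      rcases hx with rfl | rfl <;> rcases hx' with rfl | rfl
      · obtain ⟨g, e1, e2⟩ := is_two_pretransitive_iff.1 C.two_trans hab hab'
        exact ⟨g, himg g (Or.inl ⟨e1, e2⟩) e1⟩
      · obtain ⟨g, e1, e2⟩ := is_two_pretransitive_iff.1 C.two_trans hab hab'.symm
        exact ⟨g, himg g (Or.inr ⟨e1, e2⟩) e1⟩
      · obtain ⟨g, e1, e2⟩ := is_two_pretransitive_iff.1 C.two_trans hab hab'.symm
        exact ⟨g, himg g (Or.inr ⟨e1, e2⟩) e2⟩
      · obtain ⟨g, e1, e2⟩ := is_two_pretransitive_iff.1 C.two_trans hab hab'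
        exact ⟨g, himg g (Or.inl ⟨e1, e2⟩) e2⟩
    · have hx' : ¬ (x' = a' ∨ x' = b') := fun h' => hx (h.2 h')
      simp only [not_or] at hx hx'
      obtain ⟨g, e1, e2, e3⟩ := C.move_three h3 hab (Ne.symm hx.1) (Ne.symm hx.2) hab'
        (Ne.symm hx'.1) (Ne.symm hx'.2)
      exact ⟨g, himg g (Or.inl ⟨e1, e2⟩) e3⟩
  have himgcard : (Finset.univ.image f).card = 2 := by
    obtain ⟨a, b, c, -, hab, hac, -, hbc, -, -⟩ := C.exists_quad
    obtain ⟨z, hz⟩ := exists_pair hab
    refine le_antisymm ((Finset.card_le_univ _).trans (by simp)) ?_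
    have hsub : ({true, false} : Finset Bool) ⊆ Finset.univ.image f := by
      intro v hv
      simp only [Finset.mem_insert, Finset.mem_singleton] at hv
      rcases hv with rfl | rfl
      · exact Finset.mem_image.2 ⟨(z, a), Finset.mem_univ _, by simp [f, hz]⟩
      · exact Finset.mem_image.2 ⟨(z, c), Finset.mem_univ _, by simp [f, hz, hac.symm, hbc.symm]⟩
    exact le_trans (by simp) (Finset.card_le_card hsub)
  have h1 := card_image_le_orbits f hinv
  have h2 := orbits_le_card_image f hsep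
  have := C.mlt_heart_add_one
  omega

/-- The sum of a constituent over a point stabiliser and over a pair stabiliser. -/
theorem stab_sums {φ : IrrCharacter G} (hrest : φ ∈ C.rest) (hm : C.mlt φ ≠ 0)
    (H₀ : Subgroup G) (hH₀ : H₀ = stabilizer G (0 : ZMod p)) :
    ∑ g : H₀, (φ : G → ℂ) (g : G) = 0 ∧
      ∑ g : H₀, (φ : G → ℂ) (g : G) * (Nat.card (fixedBy (ZMod p) (g : G)) : ℂ) ≠ 0 := by
  obtain ⟨-, hne2, hne3⟩ := C.mem_rest.1 hrest
  have hφ := irr_isClassFunction φ
  have hp0 : (p : ℂ) ≠ 0 := Nat.cast_ne_zero.2 (Fact.out : p.Prime).ne_zero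
  have hfix : ∀ g : G, (Nat.card (fixedBy (ZMod p) g) : ℂ) =
      (Nat.card {y : ZMod p // y ∈ (Finset.univ : Finset (ZMod p)) ∧ g • y = y} : ℂ) := fun g => by
    congr 1
    exact Nat.card_congr (Equiv.subtypeEquivRight fun y => by simp [mem_fixedBy])
  have := C.trans
  have hG : (Nat.card G : ℂ) ≠ 0 := Nat.cast_ne_zero.2 Nat.card_pos.ne'
  -- no point fixed
  have hπ : ∑ g : G, (φ : G → ℂ) g * (Nat.card (fixedBy (ZMod p) g) : ℂ) = 0 := by
    have h1 : classInner (φ : G → ℂ) (C.heart : G → ℂ) = 0 :=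
      classInner_irr_ne φ.2 C.heart.2 fun h => hne2 (Subtype.ext h)
    have h2 : classInner (φ : G → ℂ) (principalIrr G : G → ℂ) = 0 :=
      classInner_irr_ne φ.2 (principalIrr G).2 fun h => hne3 (Subtype.ext h)
    rw [classInner, mul_eq_zero] at h1 h2
    replace h1 := h1.resolve_left (inv_ne_zero hG)
    replace h2 := h2.resolve_left (inv_ne_zero hG)
    simp only [C.heart_apply, map_sub, map_natCast, map_one, mul_sub, mul_one,
      Finset.sum_sub_distrib] at h1
    simp only [principalIrr_apply, map_one, mul_one] at h2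
    linear_combination h1 + h2
  have h0 : ∑ g : H₀, (φ : G → ℂ) (g : G) = 0 := by
    have h := sum_mul_fix hφ (Finset.univ : Finset (ZMod p)) H₀ hH₀
      (fun y _ => exists_smul_eq G 0 y)
    simp only [← hfix] at h
    rw [hπ, Finset.card_univ, ZMod.card] at h
    exact (mul_eq_zero.1 h.symm).resolve_left hp0
  refine ⟨h0, fun hzero => ?_⟩
  -- no pair of points fixed
  have hsq : ∑ g : G, (φ : G → ℂ) g *
      ((Nat.card (fixedBy (ZMod p) g) : ℂ) * (Nat.card (fixedBy (ZMod p) g) : ℂ)) = 0 := by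
    have hcl : IsClassFunction G fun g => (φ : G → ℂ) g * (Nat.card (fixedBy (ZMod p) g) : ℂ) := by
      intro a b
      simp only
      rw [hφ a b]
      congr 2
      refine (Nat.card_congr (Equiv.subtypeEquiv (MulAction.toPerm b) fun x => ?_)).symm
      show a • x = x ↔ (b * a * b⁻¹) • b • x = b • x
      rw [smul_smul, inv_mul_cancel_right, mul_smul, smul_left_cancel_iff]
    have h := sum_mul_fix hcl (Finset.univ : Finset (ZMod p)) H₀ hH₀
      (fun y _ => exists_smul_eq G 0 y)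
    simp only [← hfix] at h
    rw [hzero, mul_zero] at h
    rw [← h]
    exact Finset.sum_congr rfl fun g _ => by rw [mul_assoc]
  set S : Finset (ZMod p × ZMod p) := (Finset.univ : Finset (ZMod p)).offDiag with hS
  have hoff : ∑ g : G, (φ : G → ℂ) g * (Nat.card {y // y ∈ S ∧ g • y = y} : ℂ) = 0 := by
    have e : ∀ g : G, (Nat.card {y // y ∈ S ∧ g • y = y} : ℂ) =
        (Nat.card (fixedBy (ZMod p) g) : ℂ) * (Nat.card (fixedBy (ZMod p) g) : ℂ) -
          (Nat.card (fixedBy (ZMod p) g) : ℂ) := by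
      intro g
      set F := Finset.univ.filter fun y : ZMod p => g • y = y with hF
      have hcF : Nat.card (fixedBy (ZMod p) g) = F.card :=
        Nat.subtype_card F fun y => by rw [hF, Finset.mem_filter]; simp [mem_fixedBy]
      have hmemF : ∀ y, y ∈ F ↔ g • y = y := fun y => by
        rw [hF, Finset.mem_filter, and_iff_right (Finset.mem_univ y)]
      have hcS : Nat.card {y // y ∈ S ∧ g • y = y} = F.offDiag.card := by
        refine Nat.subtype_card F.offDiag fun y => ?_
        rw [Finset.mem_offDiag, hS, Finset.mem_offDiag, hmemF, hmemF, Prod.ext_iff]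
        exact ⟨fun h => ⟨⟨Finset.mem_univ _, Finset.mem_univ _, h.2.2⟩, h.1, h.2.1⟩,
          fun h => ⟨h.2.1, h.2.2, h.1.2.2⟩⟩
      rw [hcF, hcS, Finset.offDiag_card, Nat.cast_sub (Nat.le_mul_self _), Nat.cast_mul]
    simp only [e, mul_sub, Finset.sum_sub_distrib, hπ, hsq, sub_zero]
  obtain ⟨K, hK⟩ : ∃ K : Subgroup G, K = stabilizer G ((0 : ZMod p), (1 : ZMod p)) := ⟨_, rfl⟩
  rw [sum_mul_fix hφ S K hK (fun y hy => by
    obtain ⟨-, -, hne⟩ := Finset.mem_offDiag.1 hy
    obtain ⟨g, e1, e2⟩ := is_two_pretransitive_iff.1 C.two_trans (zero_ne_one (α := ZMod p)) hne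
    exact ⟨g, Prod.ext e1 e2⟩)] at hoff
  have hS0 : (S.card : ℂ) ≠ 0 := Nat.cast_ne_zero.2 (Finset.card_ne_zero.2
    ⟨(0, 1), Finset.mem_offDiag.2 ⟨Finset.mem_univ _, Finset.mem_univ _, zero_ne_one⟩⟩)
  obtain ⟨z₀, hz₀⟩ := exists_pair (zero_ne_one (α := ZMod p))
  obtain ⟨H, hH⟩ : ∃ H : Subgroup G, H = stabilizer G z₀ := ⟨_, rfl⟩
  have hK0 : ∑ g : K, (φ : G → ℂ) (g : G) = 0 := by
    exact (mul_eq_zero.1 hoff).resolve_left hS0
  have hKH : K ≤ H := fun g hg => by
    rw [hK, mem_stabilizer_iff] at hg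
    rw [hH, mem_stabilizer_iff]
    refine Subtype.ext ?_
    rw [smul_pair, hz₀, Finset.image_insert, Finset.image_singleton]
    rw [show (g : Perm (ZMod p)) 0 = 0 from congrArg Prod.fst hg,
      show (g : Perm (ZMod p)) 1 = 1 from congrArg Prod.snd hg]
  have hH0 := sum_eq_zero_mono (irr_isCharacter φ) hKH hK0
  -- but the pair character contains `φ`
  have hpair : ∑ g : G, (φ : G → ℂ) g * pairChar g = 0 := by
    have h := sum_mul_fix hφ (Finset.univ : Finset (Pair p)) H hH
      (fun y _ => C.two_transitive_of_pairs)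
    rw [hH0, mul_zero] at h
    rw [← h]
    refine Finset.sum_congr rfl fun g _ => ?_
    rw [pairChar, CfsgLib.PermChar.fixCount]
    congr 2
    exact Nat.card_congr (Equiv.subtypeEquivRight fun y => by simp)
  have h1 := C.mlt_spec φ
  rw [classInner, show ∑ g : G, pairChar g * (starRingEnd ℂ) ((φ : G → ℂ) g) =
      (starRingEnd ℂ) (∑ g : G, (φ : G → ℂ) g * pairChar g) from by
    rw [map_sum]
    exact Finset.sum_congr rfl fun g _ => by rw [map_mul, pairChar, map_natCast, mul_comm],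
    hpair, map_zero, mul_zero] at h1
  exact hm (by exact_mod_cast h1.symm)

/-- Each remaining constituent restricted to a point stabiliser contains the heart there. -/
theorem rest_shape (h3 : IsMultiplyPretransitive G (ZMod p) 3) {φ : IrrCharacter G}
    (hrest : φ ∈ C.rest) (hm : C.mlt φ ≠ 0) :
    2 * q ≤ charDegree (φ : G → ℂ) + 1 ∧ charDegree (φ : G → ℂ) ≠ 2 * q := by
  have := C.trans
  obtain ⟨H₀, hH₀⟩ : ∃ H₀ : Subgroup G, H₀ = stabilizer G (0 : ZMod p) := ⟨_, rfl⟩
  obtain ⟨hsum0, hsumf⟩ := C.stab_sums hrest hm H₀ hH₀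
  set Y := SubMulAction.ofStabilizer G (0 : ZMod p) with hY
  have hmem : ∀ x : ZMod p, x ∈ Y ↔ x ≠ 0 := fun x => Iff.rfl
  have h2Y : IsMultiplyPretransitive (stabilizer G (0 : ZMod p)) Y 2 :=
    SubMulAction.ofStabilizer.isMultiplyPretransitive.1 h3
  have hcardY : Nat.card Y = 2 * q := by
    have e : Nat.card Y = Nat.card {x : ZMod p // x ≠ 0} := rfl
    rw [e, Nat.card_eq_fintype_card, Fintype.card_subtype_compl, Fintype.card_subtype_eq,
      ZMod.card]
    have := C.hp; omega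
  have hpreY : IsPretransitive (stabilizer G (0 : ZMod p)) Y := by
    haveI := h2Y
    exact isPretransitive_of_is_two_pretransitive
  have hirr := (CfsgLib.PermTwo.isIrrCharacter_fix_sub_one_iff (G := stabilizer G (0 : ZMod p))
    (X := Y) (by rw [hcardY]; have := C.hq11; omega)).2 h2Y
  obtain ⟨χ', hval⟩ : ∃ χ' : IrrCharacter H₀, ∀ g : H₀,
      (χ' : H₀ → ℂ) g = (Nat.card (fixedBy (ZMod p) (g : G)) : ℂ) - 2 := by
    subst hH₀
    refine ⟨⟨_, hirr⟩, fun g => ?_⟩
    show (Nat.card (fixedBy Y g) : ℂ) - 1 = _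
    have h0g : (g : G) • (0 : ZMod p) = 0 := mem_stabilizer_iff.1 g.2
    have e : Nat.card (fixedBy Y g) = Nat.card {x : ZMod p // (g : G) • x = x ∧ x ≠ 0} :=
      Nat.card_congr ⟨fun x => ⟨x.1.1, congrArg Subtype.val x.2, x.1.2⟩,
        fun x => ⟨⟨x.1, x.2.2⟩, Subtype.ext x.2.1⟩, fun x => rfl, fun x => rfl⟩
    have e2 : Nat.card (fixedBy (ZMod p) (g : G)) = Nat.card (fixedBy Y g) + 1 := by
      have e3 : Nat.card {x : ZMod p // (g : G) • x = x ∧ x ≠ 0} =
          (fixedBy (ZMod p) (g : G) \ {0}).ncard := Nat.card_coe_set_eq _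
      rw [e, e3, Nat.card_coe_set_eq]
      exact (Set.ncard_sdiff_singleton_add_one (show (0 : ZMod p) ∈ fixedBy (ZMod p) (g : G) from h0g)).symm
    rw [e2]; push_cast; ring
  have hres := CfsgLib.Chars17.isCharacter_res H₀ (irr_isCharacter φ)
  obtain ⟨m, hdec, hm', -⟩ := CfsgLib.Chars17.exists_decomp hres
  have hH : (Nat.card H₀ : ℂ) ≠ 0 := Nat.cast_ne_zero.2 Nat.card_pos.ne'
  have hm1 : m χ' ≠ 0 := by
    intro h0
    have h := hm' χ'
    rw [h0, Nat.cast_zero, classInner, mul_eq_zero] at h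
    replace h := h.resolve_left (inv_ne_zero hH)
    simp only [hval, map_sub, map_natCast, map_ofNat, mul_sub, Finset.sum_sub_distrib,
      ← Finset.sum_mul] at h
    refine hsumf ?_
    linear_combination h + (2 : ℂ) * hsum0
  have hmone : m (principalIrr H₀) = 0 := by
    have h := hm' (principalIrr H₀)
    simp only [classInner, principalIrr_apply, map_one, mul_one] at h
    have h2 : (m (principalIrr H₀) : ℂ) = 0 := by
      rw [← h]; linear_combination ((Nat.card H₀ : ℂ))⁻¹ * hsum0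
    exact_mod_cast h2
  have hdegχ : charDegree (χ' : H₀ → ℂ) + 1 = 2 * q := by
    have h := CfsgLib.Chars17.cast_irrDegree χ'
    rw [hval, OneMemClass.coe_one, fixedBy_one_eq_univ, Nat.card_coe_set_eq, Set.ncard_univ,
      Nat.card_zmod] at h
    have hp : (p : ℂ) = 2 * q + 1 := by exact_mod_cast C.hp
    have h2 : ((charDegree (χ' : H₀ → ℂ) + 1 : ℕ) : ℂ) = ((2 * q : ℕ) : ℂ) := by
      push_cast; linear_combination h + hp
    exact_mod_cast h2
  have hdeg : charDegree (φ : G → ℂ) = ∑ ψ, m ψ * charDegree (ψ : H₀ → ℂ) := by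
    have h1 := congrFun hdec 1
    simp only [OneMemClass.coe_one, Finset.sum_apply, Pi.smul_apply, smul_eq_mul,
      ← CfsgLib.Chars17.cast_irrDegree] at h1
    exact_mod_cast h1
  have hle : m χ' * charDegree (χ' : H₀ → ℂ) ≤ charDegree (φ : G → ℂ) := by
    rw [hdeg]
    exact Finset.single_le_sum (f := fun ψ => m ψ * charDegree (ψ : H₀ → ℂ))
      (fun ψ _ => Nat.zero_le _) (Finset.mem_univ χ')
  have hge : charDegree (χ' : H₀ → ℂ) ≤ charDegree (φ : G → ℂ) :=
    (Nat.le_mul_of_pos_left _ (Nat.pos_of_ne_zero hm1)).trans hle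
  refine ⟨by omega, fun hd2 => ?_⟩
  have hq11 := C.hq11
  have hmχ : m χ' = 1 := by
    rcases Nat.lt_or_ge (m χ') 2 with h | h
    · omega
    · have : 2 * charDegree (χ' : H₀ → ℂ) ≤ m χ' * charDegree (χ' : H₀ → ℂ) :=
        Nat.mul_le_mul_right _ h
      omega
  rw [← Finset.add_sum_erase _ _ (Finset.mem_univ χ'), hmχ, one_mul] at hdeg
  have hr : ∑ ψ ∈ Finset.univ.erase χ', m ψ * charDegree (ψ : H₀ → ℂ) = 1 := by omega
  obtain ⟨lam, hlam, hlam0⟩ := Finset.exists_ne_zero_of_sum_ne_zero (by rw [hr]; exact one_ne_zero)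
  have hlam1 : m lam * charDegree (lam : H₀ → ℂ) = 1 := by
    have h := Finset.single_le_sum (f := fun ψ => m ψ * charDegree (ψ : H₀ → ℂ))
      (fun ψ _ => Nat.zero_le _) hlam
    rw [hr] at h
    omega
  obtain ⟨hmlam, hdlam⟩ := mul_eq_one.1 hlam1
  have hind := CfsgLib.Induction.isCharacter_indFun H₀ (irr_isCharacter lam)
  obtain ⟨n, hdec', hn, -⟩ := CfsgLib.Chars17.exists_decomp hind
  have hfrob : ∀ ψ : IrrCharacter G, (n ψ : ℂ) =
      classInner (lam : H₀ → ℂ) (fun g : H₀ => (ψ : G → ℂ) g) := fun ψ => by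
    rw [← hn ψ, CfsgLib.Induction.classInner_indFun H₀ _ (irr_isClassFunction ψ)]
  have hnφ : n φ = 1 := by
    have h := hfrob φ
    rw [classInner_conj_symm, hm' lam, map_natCast, hmlam] at h
    exact_mod_cast h
  have hidx : H₀.index = p := by
    rw [hH₀, index_stabilizer_of_transitive, Nat.card_zmod]
  have hdegn : p = ∑ ψ, n ψ * charDegree (ψ : G → ℂ) := by
    have h1 := congrFun hdec' 1
    rw [CfsgLib.Induction.indFun_one_apply, hidx, ← CfsgLib.Chars17.cast_irrDegree, hdlam] at h1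
    simp only [Finset.sum_apply, Pi.smul_apply, smul_eq_mul,
      ← CfsgLib.Chars17.cast_irrDegree, Nat.cast_one, mul_one] at h1
    exact_mod_cast h1
  rw [← Finset.add_sum_erase _ _ (Finset.mem_univ φ), hnφ, one_mul, hd2] at hdegn
  have hp := C.hp
  have hr' : ∑ ψ ∈ Finset.univ.erase φ, n ψ * charDegree (ψ : G → ℂ) = 1 := by omega
  obtain ⟨ν, hν, hν0⟩ := Finset.exists_ne_zero_of_sum_ne_zero (by rw [hr']; exact one_ne_zero)
  have hν1 : n ν * charDegree (ν : G → ℂ) = 1 := by
    have h := Finset.single_le_sum (f := fun ψ => n ψ * charDegree (ψ : G → ℂ))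
      (fun ψ _ => Nat.zero_le _) hν
    rw [hr'] at h
    omega
  obtain ⟨hnν, hdν⟩ := mul_eq_one.1 hν1
  have hνone := CfsgLib.BrauerReynolds.deg_one_iff C.perfect ν hdν
  have h := hfrob ν
  rw [hnν, hνone] at h
  simp only [principalIrr_apply] at h
  have hlamp : lam = principalIrr H₀ := by
    by_contra hne
    have h' := classInner_irr_ne lam.2 (principalIrr H₀).2 fun e => hne (Subtype.ext e)
    rw [show ((principalIrr H₀ : IrrCharacter H₀) : H₀ → ℂ) = fun _ => 1 from
      funext principalIrr_apply] at h'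
    rw [h', Nat.cast_one] at h
    exact one_ne_zero h
  rw [hlamp, hmone] at hmlam
  exact zero_ne_one hmlam

/-- With triple transitivity nothing remains. -/
theorem rest_zero (h3 : IsMultiplyPretransitive G (ZMod p) 3) :
    ∀ φ ∈ C.rest, C.mlt φ = 0 := by
  obtain ⟨e, he, hdeg⟩ := C.degree_count
  rw [C.mlt_heart_three h3] at hdeg
  have hsum : ∑ φ ∈ C.rest, (C.mlt φ : ℤ) * (charDegree (φ : G → ℂ) : ℤ) = 2 * q * e := by
    rw [hdeg]; push_cast; ring
  intro φ hφ
  by_contra hm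
  obtain ⟨hd1, hd2⟩ := C.rest_shape h3 hφ hm
  have hq11 := C.hq11
  have hle : (C.mlt φ : ℤ) * (charDegree (φ : G → ℂ) : ℤ) ≤ 2 * q * e := by
    rw [← hsum]
    exact Finset.single_le_sum (f := fun φ => (C.mlt φ : ℤ) * (charDegree (φ : G → ℂ) : ℤ))
      (fun φ _ => mul_nonneg (Int.natCast_nonneg _) (Int.natCast_nonneg _)) hφ
  have hm1 : (1 : ℤ) ≤ C.mlt φ := by exact_mod_cast Nat.pos_of_ne_zero hm
  have hd1' : (2 * q : ℤ) ≤ (charDegree (φ : G → ℂ) : ℤ) + 1 := by exact_mod_cast hd1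
  rcases he with rfl | rfl | rfl
  · nlinarith
  swap
  · nlinarith
  have hm2 : C.mlt φ = 1 := by
    by_contra hne
    have : (2 : ℤ) ≤ C.mlt φ := by exact_mod_cast (show 2 ≤ C.mlt φ by omega)
    nlinarith
  rw [← Finset.add_sum_erase _ _ hφ, hm2, Nat.cast_one, one_mul] at hsum
  have hothers : ∀ ψ ∈ C.rest.erase φ, C.mlt ψ = 0 := by
    intro ψ hψ
    by_contra hm'
    obtain ⟨hd1ψ, -⟩ := C.rest_shape h3 (Finset.mem_of_mem_erase hψ) hm'
    have h := Finset.single_le_sum (f := fun φ => (C.mlt φ : ℤ) * (charDegree (φ : G → ℂ) : ℤ))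
      (fun φ _ => mul_nonneg (Int.natCast_nonneg _) (Int.natCast_nonneg _)) hψ
    have h1 : (1 : ℤ) ≤ C.mlt ψ := by exact_mod_cast Nat.pos_of_ne_zero hm'
    have h2 : (2 * q : ℤ) ≤ (charDegree (ψ : G → ℂ) : ℤ) + 1 := by exact_mod_cast hd1ψ
    nlinarith
  rw [Finset.sum_eq_zero (fun ψ hψ => by rw [hothers ψ hψ, Nat.cast_zero, zero_mul]), add_zero]
    at hsum
  exact hd2 (by exact_mod_cast (show (charDegree (φ : G → ℂ) : ℤ) = 2 * q by linarith))

/-- Transitivity on disjoint pairs of pairs. -/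
theorem pairs_of_pairs (h3 : IsMultiplyPretransitive G (ZMod p) 3) {z w z' w' : Pair p}
    (hd : Disjoint (z : Finset (ZMod p)) (w : Finset (ZMod p)))
    (hd' : Disjoint (z' : Finset (ZMod p)) (w' : Finset (ZMod p))) :
    ∃ g : G, g • z = z' ∧ g • w = w' := by
  by_contra hcon
  have hnorm := C.norm_eq
  rw [C.mlt_heart_three h3, Finset.sum_eq_zero (fun φ hφ => by rw [C.rest_zero h3 φ hφ]; rfl)]
    at hnorm
  let f : Pair p × Pair p → ℕ × Bool := fun y =>
    (((y.1 : Finset (ZMod p)) ∩ (y.2 : Finset (ZMod p))).card,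
      decide (y ∈ orbit G ((z, w) : Pair p × Pair p)))
  have hinv : ∀ (g : G) y, f (g • y) = f y := by
    intro g y
    refine Prod.ext ?_ ?_
    · show (((g • y.1 : Pair p) : Finset (ZMod p)) ∩ ((g • y.2 : Pair p) : Finset (ZMod p))).card = _
      rw [smul_pair, smul_pair, ← Finset.image_inter _ _ (g : Perm (ZMod p)).injective,
        Finset.card_image_of_injective _ (g : Perm (ZMod p)).injective]
    · simp only [f, decide_eq_decide]
      rw [← orbit_eq_iff, ← orbit_eq_iff, orbit_eq_iff.mpr (mem_orbit y g)]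
  obtain ⟨a, b, c, -, hab, hac, -, hbc, -, -⟩ := C.exists_quad
  obtain ⟨z₁, hz₁⟩ := exists_pair hab
  obtain ⟨w₁, hw₁⟩ := exists_pair hac
  have hnot : ∀ y : Pair p × Pair p,
      ((y.1 : Finset (ZMod p)) ∩ (y.2 : Finset (ZMod p))).card ≠ 0 →
      y ∉ orbit G ((z, w) : Pair p × Pair p) := by
    rintro y hy ⟨g, rfl⟩
    refine hy ?_
    show (((g • z : Pair p) : Finset (ZMod p)) ∩ ((g • w : Pair p) : Finset (ZMod p))).card = 0
    rw [smul_pair, smul_pair, ← Finset.image_inter _ _ (g : Perm (ZMod p)).injective,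
      Finset.card_image_of_injective _ (g : Perm (ZMod p)).injective,
      Finset.disjoint_iff_inter_eq_empty.1 hd, Finset.card_empty]
  have hadj : ((z₁ : Finset (ZMod p)) ∩ (w₁ : Finset (ZMod p))).card = 1 := by
    rw [hz₁, hw₁, show ({a, b} : Finset (ZMod p)) ∩ {a, c} = {a} from ?_, Finset.card_singleton]
    ext x
    simp only [Finset.mem_inter, Finset.mem_insert, Finset.mem_singleton]
    constructor
    · rintro ⟨h1, h2⟩
      rcases h1 with h1 | h1
      · exact h1
      rcases h2 with h2 | h2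
      · exact h2
      · exact absurd (h1.symm.trans h2) hbc
    · rintro rfl; simp
  have hsub : ({(2, false), (1, false), (0, true), (0, false)} : Finset (ℕ × Bool)) ⊆
      Finset.univ.image f := by
    intro v hv
    simp only [Finset.mem_insert, Finset.mem_singleton] at hv
    rw [Finset.mem_image]
    rcases hv with rfl | rfl | rfl | rfl
    · refine ⟨(z, z), Finset.mem_univ _, Prod.ext ?_ (decide_eq_false (hnot (z, z) ?_))⟩ <;>
        simp [f, show (z : Finset (ZMod p)).card = 2 from z.2]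
    · refine ⟨(z₁, w₁), Finset.mem_univ _, Prod.ext ?_ (decide_eq_false (hnot (z₁, w₁) ?_))⟩ <;>
        simp [f, hadj]
    · refine ⟨(z, w), Finset.mem_univ _, Prod.ext ?_ (decide_eq_true (mem_orbit_self _))⟩
      simp [f, Finset.disjoint_iff_inter_eq_empty.1 hd]
    · refine ⟨(z', w'), Finset.mem_univ _, Prod.ext ?_ (decide_eq_false fun h => hcon ?_)⟩
      · simp [f, Finset.disjoint_iff_inter_eq_empty.1 hd']
      · obtain ⟨g, hg⟩ := h
        exact ⟨g, congrArg Prod.fst hg, congrArg Prod.snd hg⟩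
  have h1 := (Finset.card_le_card hsub).trans (card_image_le_orbits f hinv)
  rw [hnorm] at h1
  simp at h1

theorem exists_involution_fixing_two : ∃ u : G, u * u = 1 ∧
    ∃ a b c : ZMod p, a ≠ b ∧ u • a = a ∧ u • b = b ∧ u • c ≠ c := by
  obtain ⟨g, e0, e1⟩ := is_two_pretransitive_iff.1 C.two_trans (zero_ne_one (α := ZMod p))
    (one_ne_zero (α := ZMod p))
  have heven : 2 ∣ orderOf g := by
    by_contra h
    obtain ⟨k, hk⟩ := Nat.odd_iff.2 (Nat.two_dvd_ne_zero.1 h)
    have hfix : g ^ 2 ∈ stabilizer G (0 : ZMod p) := by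
      rw [mem_stabilizer_iff, sq, mul_smul, e0, e1]
    have hgk : g ^ (2 * (k + 1)) = g := by
      rw [show 2 * (k + 1) = orderOf g + 1 by omega, pow_succ, pow_orderOf_eq_one, one_mul]
    have := Subgroup.pow_mem _ hfix (k + 1)
    rw [← pow_mul, hgk, mem_stabilizer_iff, e0] at this
    exact one_ne_zero this
  have hpos := orderOf_pos g
  set u := g ^ (orderOf g / 2) with hu
  have hu2 : u * u = 1 := by
    rw [hu, ← pow_add, show orderOf g / 2 + orderOf g / 2 = orderOf g by omega, pow_orderOf_eq_one]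
  have hu1 : u ≠ 1 := pow_ne_one_of_lt_orderOf (by omega) (by omega)
  refine ⟨u, hu2, ?_⟩
  obtain ⟨c, hc⟩ : ∃ c : ZMod p, u • c ≠ c := by
    by_contra h
    push Not at h
    exact hu1 (Subtype.ext (Equiv.ext h))
  have hsign := C.sign_eq u.2
  have hu2' : (u : Perm (ZMod p)) ^ 2 = 1 := by
    rw [sq, ← Subgroup.coe_mul, hu2, OneMemClass.coe_one]
  rw [Perm.sign_of_pow_two_eq_one hu2'] at hsign
  by_contra hcon
  push Not at hcon
  have hle : Fintype.card (Function.fixedPoints (u : Perm (ZMod p))) ≤ 1 :=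
    Fintype.card_le_one_iff.2 fun a b => Subtype.ext (by
      by_contra hne
      exact hc (hcon a b c hne a.2 b.2))
  rw [ZMod.card, show (p - Fintype.card (Function.fixedPoints (u : Perm (ZMod p)))) / 2 = q by
    have := C.hp; omega, C.odd_q.neg_one_pow] at hsign
  exact absurd hsign (by decide)

/-- **Quadruple transitivity.** -/
theorem four_transitive (h3 : IsMultiplyPretransitive G (ZMod p) 3) :
    IsMultiplyPretransitive G (ZMod p) 4 := by
  obtain ⟨u, hu2, a, b, c, hab, hua, hub, huc⟩ := C.exists_involution_fixing_two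
  set d := u • c with hd
  have hud : u • d = c := by rw [hd, smul_smul, hu2, one_smul]
  have hac : a ≠ c := fun h => huc (show u • c = c by rw [← h]; exact hua)
  have hbc : b ≠ c := fun h => huc (show u • c = c by rw [← h]; exact hub)
  have had : a ≠ d := fun h => hac ((smul_left_cancel u (hua.trans h)))
  have hbd : b ≠ d := fun h => hbc ((smul_left_cancel u (hub.trans h)))
  have hcd : c ≠ d := fun h => huc h.symm
  have sets : ∀ {w x y z w' x' y' z' : ZMod p}, w ≠ x → y ≠ z → w ≠ y → w ≠ z → x ≠ y → x ≠ z →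
      w' ≠ x' → y' ≠ z' → w' ≠ y' → w' ≠ z' → x' ≠ y' → x' ≠ z' →
      ∃ g : G, ((g • w = w' ∧ g • x = x') ∨ (g • w = x' ∧ g • x = w')) ∧
        ((g • y = y' ∧ g • z = z') ∨ (g • y = z' ∧ g • z = y')) := by
    intro w x y z w' x' y' z' h1 h2 h3' h4 h5 h6 h1' h2' h3'' h4' h5' h6'
    obtain ⟨P, hP⟩ := exists_pair h1
    obtain ⟨Q, hQ⟩ := exists_pair h2
    obtain ⟨P', hP'⟩ := exists_pair h1'
    obtain ⟨Q', hQ'⟩ := exists_pair h2'
    obtain ⟨g, hgP, hgQ⟩ := C.pairs_of_pairs h3 (z := P) (w := Q) (z' := P') (w' := Q')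
      (by rw [hP, hQ]; simp [h3', h4, h5, h6, h3'.symm, h4.symm, h5.symm, h6.symm])
      (by rw [hP', hQ']; simp [h3'', h4', h5', h6', h3''.symm, h4'.symm, h5'.symm, h6'.symm])
    have split : ∀ {s t s' t' : ZMod p}, s ≠ t → ∀ {R R' : Pair p},
        (R : Finset (ZMod p)) = {s, t} → (R' : Finset (ZMod p)) = {s', t'} → g • R = R' →
        (g • s = s' ∧ g • t = t') ∨ (g • s = t' ∧ g • t = s') := by
      intro s t s' t' hst R R' hR hR' hg
      have e := congrArg (fun S : Pair p => (S : Finset (ZMod p))) hg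
      simp only [smul_pair, hR, hR', Finset.image_insert, Finset.image_singleton] at e
      have e1 : g • s = s' ∨ g • s = t' := by
        have : (g : Perm (ZMod p)) s ∈ ({s', t'} : Finset (ZMod p)) :=
          e ▸ Finset.mem_insert_self _ _
        simpa [Subgroup.smul_def] using this
      have e2 : g • t = s' ∨ g • t = t' := by
        have : (g : Perm (ZMod p)) t ∈ ({s', t'} : Finset (ZMod p)) :=
          e ▸ Finset.mem_insert_of_mem (Finset.mem_singleton_self _)
        simpa [Subgroup.smul_def] using this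
      have hne : g • s ≠ g • t := fun h => hst (smul_left_cancel g h)
      rcases e1 with e1 | e1 <;> rcases e2 with e2 | e2
      · exact absurd (e1.trans e2.symm) hne
      · exact Or.inl ⟨e1, e2⟩
      · exact Or.inr ⟨e1, e2⟩
      · exact absurd (e1.trans e2.symm) hne
    exact ⟨g, split h1 hP hP' hgP, split h2 hQ hQ' hgQ⟩
  -- every quadruple goes to `(a, b, c, d)` or `(b, a, c, d)`
  have two : ∀ {w x y z : ZMod p}, w ≠ x → y ≠ z → w ≠ y → w ≠ z → x ≠ y → x ≠ z →
      ∃ g : G, ((g • w = a ∧ g • x = b) ∨ (g • w = b ∧ g • x = a)) ∧ g • y = c ∧ g • z = d := by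
    intro w x y z h1 h2 h3' h4 h5 h6
    obtain ⟨g, hg1, hg2⟩ := sets h1 h2 h3' h4 h5 h6 hab hcd hac had hbc hbd
    rcases hg2 with ⟨e1, e2⟩ | ⟨e1, e2⟩
    · exact ⟨g, hg1, e1, e2⟩
    · refine ⟨u * g, ?_, by rw [mul_smul, e1, hud], by rw [mul_smul, e2, hd]⟩
      rcases hg1 with ⟨e3, e4⟩ | ⟨e3, e4⟩
      · exact Or.inl ⟨by rw [mul_smul, e3, hua], by rw [mul_smul, e4, hub]⟩
      · exact Or.inr ⟨by rw [mul_smul, e3, hub], by rw [mul_smul, e4, hua]⟩
  obtain ⟨k, hk1, hka, hkb⟩ := two hcd hab (Ne.symm hac) (Ne.symm hbc) (Ne.symm had) (Ne.symm hbd)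
  set v := k * u * k⁻¹ with hv
  have hvap : ∀ x : ZMod p, v • k • x = k • u • x := fun x => by
    rw [hv, smul_smul, inv_mul_cancel_right, mul_smul]
  have hvc : v • c = c := by rw [← hka, hvap, hua]
  have hvd : v • d = d := by rw [← hkb, hvap, hub]
  have hvab : v • a = b ∧ v • b = a := by
    rcases hk1 with ⟨e1, e2⟩ | ⟨e1, e2⟩
    · exact ⟨by rw [← e1, hvap, ← hd, e2], by rw [← e2, hvap, hud, e1]⟩
    · exact ⟨by rw [← e2, hvap, hud, e1], by rw [← e1, hvap, ← hd, e2]⟩
  have one : ∀ {w x y z : ZMod p}, w ≠ x → y ≠ z → w ≠ y → w ≠ z → x ≠ y → x ≠ z →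
      ∃ g : G, g • w = a ∧ g • x = b ∧ g • y = c ∧ g • z = d := by
    intro w x y z h1 h2 h3' h4 h5 h6
    obtain ⟨g, hg1, e3, e4⟩ := two h1 h2 h3' h4 h5 h6
    rcases hg1 with ⟨e1, e2⟩ | ⟨e1, e2⟩
    · exact ⟨g, e1, e2, e3, e4⟩
    · exact ⟨v * g, by rw [mul_smul, e1, hvab.2], by rw [mul_smul, e2, hvab.1],
        by rw [mul_smul, e3, hvc], by rw [mul_smul, e4, hvd]⟩
  refine ⟨fun x y => ?_⟩
  obtain ⟨g, g0, g1, g2, g3⟩ := one (x.injective.ne (show (0 : Fin 4) ≠ 1 by decide))
    (x.injective.ne (show (2 : Fin 4) ≠ 3 by decide)) (x.injective.ne (show (0 : Fin 4) ≠ 2 by decide))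
    (x.injective.ne (show (0 : Fin 4) ≠ 3 by decide)) (x.injective.ne (show (1 : Fin 4) ≠ 2 by decide))
    (x.injective.ne (show (1 : Fin 4) ≠ 3 by decide))
  obtain ⟨h, h0, h1, h2, h3'⟩ := one (y.injective.ne (show (0 : Fin 4) ≠ 1 by decide))
    (y.injective.ne (show (2 : Fin 4) ≠ 3 by decide)) (y.injective.ne (show (0 : Fin 4) ≠ 2 by decide))
    (y.injective.ne (show (0 : Fin 4) ≠ 3 by decide)) (y.injective.ne (show (1 : Fin 4) ≠ 2 by decide))
    (y.injective.ne (show (1 : Fin 4) ≠ 3 by decide))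
  refine ⟨h⁻¹ * g, Function.Embedding.ext fun i => ?_⟩
  rw [Function.Embedding.smul_apply, mul_smul, inv_smul_eq_iff]
  fin_cases i
  · exact g0.trans h0.symm
  · exact g1.trans h1.symm
  · exact g2.trans h2.symm
  · exact g3.trans h3'.symm

end Ctx

end CfsgLib.PrimeFour
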