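import Cfsg.Agent.Lib.PrimeFour.PowerMaps
import Mathlib.Tactic.NormNum.Prime

/-!
# The moment equation at index two for the piecewise inversion
-/

set_option autoImplicit false

open Finset

namespace CfsgLib.PrimeFour

variable {p q : ℕ} [Fact p.Prime]

theorem inv_pow_eq (hp : p = 2 * q + 1) {e : ZMod p} {j : ℕ} (hj : 0 < j)
    (hjq : j < q) (y : ZMod p) :
    pw q (q - 1) (-e) y ^ j =
      (1 - e ^ j) / 2 * y ^ (q - j) + (1 + e ^ j) / 2 * y ^ (2 * q - j) := by
  have h2 := two_ne_zero' hp (by omega)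
  rcases eq_or_ne y 0 with rfl | hy
  · simp [pw, zero_pow (show q - 1 ≠ 0 by omega),
      zero_pow (show q - j ≠ 0 by omega), zero_pow (show 2 * q - j ≠ 0 by omega)]
    exact ⟨Or.inr fun _ => by omega, hj.ne'⟩
  have h2q : 2 * q - j = (q - j) + q := by omega
  have hy1 : y ^ (q - 1) * y = y ^ q := by rw [← pow_succ, show q - 1 + 1 = q by omega]
  have hyj : y ^ (q - j) * y ^ j = y ^ q := by rw [← pow_add, show q - j + j = q by omega]
  rcases pow_q_cases hp hy with h | h
  · have hz : pw q (q - 1) (-e) y = y ^ (q - 1) := by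
      rw [pw, pow_add, h]; field_simp; ring
    rw [hz, h2q, pow_add, h]
    apply mul_right_cancel₀ (pow_ne_zero j hy)
    rw [← mul_pow, hy1, h, one_pow]
    field_simp
    linear_combination (-2 : ZMod p) * (hyj.trans h)
  · have hz : pw q (q - 1) (-e) y = -e * y ^ (q - 1) := by
      rw [pw, pow_add, h]; field_simp; ring
    rw [hz, h2q, pow_add, h]
    apply mul_right_cancel₀ (pow_ne_zero j hy)
    rw [← mul_pow, mul_assoc, hy1, h, mul_neg_one, neg_neg]
    field_simp
    linear_combination (2 * e ^ j) * (hyj.trans h)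

theorem mom_inv (hp : p = 2 * q + 1) {e v : ZMod p} {j : ℕ} (gi : ZMod p ≃ ZMod p)
    (hi : ∀ x, gi x = pw q (q - 1) (-e) x) (hinv : ∀ x, gi (gi x) = x) (hj : 0 < j) (hjq : j < q) :
    mom (fun x => pw q (q - 1) (-e) (gi x + v)) j =
      -((1 + e ^ j) / 2 * ((1 + e) / 2) * ((2 * q - 1).choose j : ZMod p) * v ^ (2 * q - 1 - j) +
        ((1 + e ^ j) / 2 * ((1 - e) / 2) * ((q - 1).choose j : ZMod p) +
          (1 - e ^ j) / 2 * ((1 + e) / 2) * ((2 * q - 1).choose (q + j) : ZMod p)) * v ^ (q - 1 - j)) := by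
  have h1 : ∀ n N, 0 < n → n ≤ 2 * q → n + N < 4 * q → ∑ y : ZMod p, y ^ n * (y + v) ^ N =
      -((N.choose (2 * q - n) : ZMod p) * v ^ (N - (2 * q - n))) :=
    fun n N => sum_pow_mul_add_pow hp v
  rw [mom, ← gi.sum_comp]
  have hterm : ∀ y : ZMod p, gi y ^ j * pw q (q - 1) (-e) (gi (gi y) + v) =
      (1 - e ^ j) / 2 * ((1 - e) / 2) * (y ^ (q - j) * (y + v) ^ (q - 1)) +
      (1 - e ^ j) / 2 * ((1 + e) / 2) * (y ^ (q - j) * (y + v) ^ (2 * q - 1)) +
      (1 + e ^ j) / 2 * ((1 - e) / 2) * (y ^ (2 * q - j) * (y + v) ^ (q - 1)) +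
      (1 + e ^ j) / 2 * ((1 + e) / 2) * (y ^ (2 * q - j) * (y + v) ^ (2 * q - 1)) := by
    intro y
    rw [hinv, hi, inv_pow_eq hp hj hjq y, pw, show q - 1 + q = 2 * q - 1 by omega]
    ring
  rw [Finset.sum_congr rfl fun y _ => hterm y]
  simp only [Finset.sum_add_distrib, ← Finset.mul_sum]
  rw [h1 (q - j) (q - 1) (by omega) (by omega) (by omega), Nat.choose_eq_zero_of_lt (by omega),
    h1 (q - j) (2 * q - 1) (by omega) (by omega) (by omega),
    h1 (2 * q - j) (q - 1) (by omega) (by omega) (by omega),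
    h1 (2 * q - j) (2 * q - 1) (by omega) (by omega) (by omega),
    show 2 * q - (2 * q - j) = j by omega, show 2 * q - (q - j) = q + j by omega,
    show 2 * q - 1 - (q + j) = q - 1 - j by omega]
  push_cast
  ring

theorem choose_values (hp : p = 2 * q + 1) (hoddq : Odd q) (hq : 5 ≤ q) :
    ((2 * q - 1).choose 1 : ZMod p) = -2 ∧ ((2 * q - 1).choose 2 : ZMod p) = 3 ∧
      ((2 * q - 1).choose 3 : ZMod p) = -4 ∧ ((q - 1).choose 1 : ZMod p) = -3 / 2 ∧
      ((q - 1).choose 2 : ZMod p) = 15 / 8 ∧ ((q - 1).choose 3 : ZMod p) = -35 / 16 ∧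
      ((2 * q - 1).choose (q + 1) : ZMod p) = 3 / 2 ∧ ((2 * q - 1).choose (q + 2) : ZMod p) = -5 / 2 ∧
      ((2 * q - 1).choose (q + 3) : ZMod p) = 7 / 2 := by
  have h2 := two_ne_zero' hp (by omega)
  have h3 : (3 : ZMod p) ≠ 0 := by
    exact_mod_cast natCast_ne_zero_of_lt (p := p) (show 0 < 3 by norm_num) (by omega)
  have h8 : (8 : ZMod p) ≠ 0 := by rw [show (8 : ZMod p) = 2 * (2 * 2) by ring]; simp [h2]
  have h16 : (16 : ZMod p) ≠ 0 := by rw [show (16 : ZMod p) = 2 * (2 * (2 * 2)) by ring]; simp [h2]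
  have hq2 := two_mul_q (p := p) hp
  have hN : ((2 * q - 1 : ℕ) : ZMod p) = -2 := by
    rw [Nat.cast_sub (by omega)]; push_cast; linear_combination hq2
  have hM : ((q - 1 : ℕ) : ZMod p) = -3 / 2 := by
    rw [Nat.cast_sub (by omega)]; field_simp; push_cast; linear_combination hq2
  have big : ∀ n, n ≤ 2 * q - 1 → ((2 * q - 1).choose n : ZMod p) = (-1) ^ n * ((n : ZMod p) + 1) := by
    intro n
    induction n with
    | zero => intro _; simp
    | succ n ih =>
      intro hn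
      have hs := choose_step (p := p) (2 * q - 1) n
      have hne : (n : ZMod p) + 1 ≠ 0 := by
        exact_mod_cast natCast_ne_zero_of_lt (p := p) (show 0 < n + 1 by omega) (by omega)
      rw [hN, ih (by omega)] at hs
      apply mul_right_cancel₀ hne
      rw [hs, pow_succ]; push_cast; ring
  have hqv : (q : ZMod p) = -1 / 2 := by field_simp; linear_combination hq2
  have e1 := choose_step (p := p) (q - 1) 0
  have e2 := choose_step (p := p) (q - 1) 1
  have e3 := choose_step (p := p) (q - 1) 2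
  rw [hM] at e1 e2 e3
  simp only [zero_add, Nat.choose_zero_right, Nat.cast_zero, Nat.cast_one, mul_one, one_mul, sub_zero] at e1
  rw [e1] at e2
  have v2 : ((q - 1).choose 2 : ZMod p) = 15 / 8 := by
    apply mul_right_cancel₀ h2
    push_cast at e2
    rw [show (1 : ZMod p) + 1 = 2 by norm_num] at e2
    rw [e2]; field_simp; ring
  rw [v2] at e3
  have v3 : ((q - 1).choose 3 : ZMod p) = -35 / 16 := by
    apply mul_right_cancel₀ h3
    push_cast at e3
    rw [show (2 : ZMod p) + 1 = 3 by norm_num] at e3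
    rw [e3]; field_simp; ring
  refine ⟨?_, ?_, ?_, e1, v2, v3, ?_⟩
  · rw [big 1 (by omega)]; push_cast; ring
  · rw [big 2 (by omega)]; push_cast; ring
  · rw [big 3 (by omega)]; push_cast; ring
  exact ⟨by rw [big (q + 1) (by omega), pow_add, hoddq.neg_one_pow]; push_cast; rw [hqv]; field_simp; ring,
    by rw [big (q + 2) (by omega), pow_add, hoddq.neg_one_pow]; push_cast; rw [hqv]; field_simp; ring,
    by rw [big (q + 3) (by omega), pow_add, hoddq.neg_one_pow]; push_cast; rw [hqv]; field_simp; ring⟩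

/-- The vanishing of the form at index two forces `e = ± 1`. -/
theorem inversion_trivial (hp : p = 2 * q + 1) (hodd : Odd q) (hq : q.Prime) (hq5 : 11 ≤ q)
    {e : ZMod p} (gi : ZMod p ≃ ZMod p) (hi : ∀ x, gi x = pw q (q - 1) (-e) x)
    (hinv : ∀ x, gi (gi x) = x)
    (hB : ∀ v : ZMod p, bForm (fun x => pw q (q - 1) (-e) (gi x + v)) 2 = 0) :
    e = 1 ∨ e = -1 := by
  obtain ⟨c1, c2, c3, d1, d2, d3, f1, f2, f3⟩ := choose_values (p := p) hp hodd (by omega)
  have h2 := two_ne_zero' hp (by omega)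
  have h16 : (16 : ZMod p) ≠ 0 := by rw [show (16 : ZMod p) = 2 * (2 * (2 * 2)) by ring]; simp [h2]
  have h8 : (8 : ZMod p) ≠ 0 := by rw [show (8 : ZMod p) = 2 * (2 * 2) by ring]; simp [h2]
  have hm : ∀ v, bForm (fun x => pw q (q - 1) (-e) (gi x + v)) 2 =
      -8 * mom (fun x => pw q (q - 1) (-e) (gi x + v)) 1 * mom (fun x => pw q (q - 1) (-e) (gi x + v)) 3 +
        6 * mom (fun x => pw q (q - 1) (-e) (gi x + v)) 2 ^ 2 := by
    intro v
    have h0 : mom (fun x => pw q (q - 1) (-e) (gi x + v)) 0 = 0 := mom_zero hp (by omega) (by omega) _ _ _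
    rw [bForm_eq]
    simp [Finset.sum_range_succ, h0, show Nat.choose 4 2 = 6 from rfl]
    ring
  obtain ⟨a, ha⟩ := hodd
  have p1 : (-1 : ZMod p) ^ (2 * q - 1 - 1) = 1 ∧ (-1 : ZMod p) ^ (2 * q - 1 - 2) = -1 ∧
      (-1 : ZMod p) ^ (2 * q - 1 - 3) = 1 ∧ (-1 : ZMod p) ^ (q - 1 - 1) = -1 ∧
      (-1 : ZMod p) ^ (q - 1 - 2) = 1 ∧ (-1 : ZMod p) ^ (q - 1 - 3) = -1 := by
    refine ⟨?_, ?_, ?_, ?_, ?_, ?_⟩
    · exact Even.neg_one_pow ⟨2 * a, by omega⟩
    · exact Odd.neg_one_pow ⟨2 * a - 1, by omega⟩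
    · exact Even.neg_one_pow ⟨2 * a - 1, by omega⟩
    · exact Odd.neg_one_pow ⟨a - 1, by omega⟩
    · exact Even.neg_one_pow ⟨a - 1, by omega⟩
    · exact Odd.neg_one_pow ⟨a - 2, by omega⟩
  obtain ⟨s1, s2, s3, t1, t2, t3⟩ := p1
  have E1 := (hm 1).symm.trans (hB 1)
  have E2 := (hm (-1)).symm.trans (hB (-1))
  rw [mom_inv hp gi hi hinv (by omega) (by omega), mom_inv hp gi hi hinv (by omega) (by omega),
    mom_inv hp gi hi hinv (by omega) (by omega)] at E1 E2
  simp only [one_pow, mul_one, c1, c2, c3, d1, d2, d3, f1, f2, f3] at E1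
  simp only [s1, s2, s3, t1, t2, t3, c1, c2, c3, d1, d2, d3, f1, f2, f3] at E2
  have hA : -245 - 1638 * e + 1665 * e ^ 2 - 4684 * e ^ 3 + 1665 * e ^ 4 - 1638 * e ^ 5 -
      245 * e ^ 6 = 0 := by
    linear_combination (norm := skip) 256 * E1 + 256 * E2
    field_simp
    ring
  have hB' : (e ^ 2 - 1) * (3 + 94 * e - 358 * e ^ 2 + 94 * e ^ 3 + 3 * e ^ 4) = 0 := by
    linear_combination (norm := skip) 16 * E1 - 16 * E2
    field_simp
    ring
  rcases mul_eq_zero.1 hB' with h | hB0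
  · exact sq_eq_one_iff.1 (sub_eq_zero.1 h)
  exfalso
  have hR : ((1300990133520 : ℕ) : ZMod p) = 0 := by
    push_cast
    linear_combination
      (-6183948045 + 15173360018 * e - 3787000037 * e ^ 2 - 121538832 * e ^ 3) * hA +
      (-71359045835 + 98638871730 * e - 198723385402 * e ^ 2 + 79441489474 * e ^ 3 -
        64627505187 * e ^ 4 - 9925671280 * e ^ 5) * hB0
  rw [ZMod.natCast_eq_zero_iff,
    show (1300990133520 : ℕ) = 2 ^ 4 * 3 ^ 3 * 5 * 7 * 11 * 157 * 49823 by norm_num] at hR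
  have hP := (Fact.out : p.Prime)
  have hle : ∀ n l, n.Prime → p ∣ n ^ l → p = n := fun n l hn h =>
    (Nat.prime_dvd_prime_iff_eq hP hn).1 (hP.dvd_of_dvd_pow h)
  rcases hP.dvd_mul.1 hR with hR | hR
  rcases hP.dvd_mul.1 hR with hR | hR
  rcases hP.dvd_mul.1 hR with hR | hR
  rcases hP.dvd_mul.1 hR with hR | hR
  rcases hP.dvd_mul.1 hR with hR | hR
  rcases hP.dvd_mul.1 hR with hR | hR
  · have := hle 2 4 (by norm_num) hR; omega
  · have := hle 3 3 (by norm_num) hR; omega
  · have := hle 5 1 (by norm_num) (by simpa using hR); omega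
  · have := hle 7 1 (by norm_num) (by simpa using hR); omega
  · have := hle 11 1 (by norm_num) (by simpa using hR); omega
  · have := hle 157 1 (by norm_num) (by simpa using hR)
    have : q = 78 := by omega
    subst this; norm_num at hq
  · have := hle 49823 1 (by norm_num) (by simpa using hR)
    have : q = 24911 := by omega
    subst this; norm_num at hq

end CfsgLib.PrimeFour
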