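import Cfsg.Agent.Lib.PrimeFour.PowerMaps
import Cfsg.Agent.Lib.PermGroup.PrimeSylow
import Cfsg.Agent.S0713
import Mathlib.GroupTheory.Transfer
import Mathlib.GroupTheory.PGroup

/-!
# Local structure of a group of degree `p = 2q + 1` with half Sylow normaliser

The multiplication by `4` has order `q`; it generates its own centraliser, and normalised
elements of its normaliser are piecewise power maps with one common constant.
-/

set_option autoImplicit false

open MulAction Subgroup Equiv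
open scoped Classical

namespace CfsgLib.PrimeFour

variable {p q : ℕ} [Fact p.Prime]

/-- The standing hypotheses, in coordinates. -/
structure Ctx (q : ℕ) (G : Subgroup (Perm (ZMod p))) : Prop where
  hp : p = 2 * q + 1
  hq : q.Prime
  hq11 : 11 ≤ q
  trans : IsPretransitive G (ZMod p)
  insol : ¬ Group.IsSolvable G
  proper : ¬ alternatingGroup (ZMod p) ≤ G
  even : G ≤ alternatingGroup (ZMod p)
  aff : ∀ k v : ZMod p, k ≠ 0 → IsSquare k → ∃ g ∈ G, ∀ j, g j = k * j + v

/-- `g` conjugates the multiplication by `4` to its `r`th power. -/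
def Norm (g : Perm (ZMod p)) (r : ℕ) : Prop := ∀ x, g (4 * x) = 4 ^ r * g x

theorem Norm.iter {g : Perm (ZMod p)} {r : ℕ} (h : Norm g r) (n : ℕ) (x : ZMod p) :
    g (4 ^ n * x) = 4 ^ (r * n) * g x := by
  induction n with
  | zero => simp
  | succ n ih => rw [pow_succ', mul_assoc, h, ih, ← mul_assoc, ← pow_add]; congr 2; ring

theorem Norm.mul {g h : Perm (ZMod p)} {r s : ℕ} (hg : Norm g r) (hh : Norm h s) :
    Norm (g * h) (r * s) := fun x => by
  rw [Perm.mul_apply, hh, hg.iter, Perm.mul_apply]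

namespace Ctx

variable {G : Subgroup (Perm (ZMod p))} (C : Ctx q G)

include C

theorem odd_q : Odd q := C.hq.odd_of_ne_two (by have := C.hq11; omega)

theorem p_ge : 23 ≤ p := by have := C.hp; have := C.hq11; omega

theorem four_ne_one : (4 : ZMod p) ≠ 1 := fun h => by
  have h3 : ((3 : ℕ) : ZMod p) = 0 := by push_cast; linear_combination h
  have := Nat.le_of_dvd (by norm_num) ((ZMod.natCast_eq_zero_iff 3 p).1 h3)
  have := C.p_ge; omega

theorem two_ne : (2 : ZMod p) ≠ 0 := two_ne_zero' C.hp C.hq.pos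

theorem four_ne : (4 : ZMod p) ≠ 0 := by
  rw [show (4 : ZMod p) = 2 * 2 by norm_num]
  exact mul_ne_zero C.two_ne C.two_ne

theorem neg_one_ne : (-1 : ZMod p) ≠ 1 := fun h => C.two_ne (by linear_combination -h)

theorem four_pow_q : (4 : ZMod p) ^ q = 1 := by
  rw [show (4 : ZMod p) = 2 ^ 2 by norm_num, ← pow_mul, show 2 * q = p - 1 by have := C.hp; omega]
  exact ZMod.pow_card_sub_one_eq_one C.two_ne

theorem prim : IsPrimitiveRoot (4 : ZMod p) q := by
  rw [IsPrimitiveRoot.iff_orderOf]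
  have := Fact.mk C.hq
  exact orderOf_eq_prime C.four_pow_q C.four_ne_one

theorem four_pow_eq {m n : ℕ} (h : (m : ZMod q) = n) : (4 : ZMod p) ^ m = 4 ^ n := by
  rw [pow_eq_pow_mod m C.four_pow_q, pow_eq_pow_mod n C.four_pow_q,
    (ZMod.natCast_eq_natCast_iff' _ _ _).1 h]

theorem four_pow_inj {m n : ℕ} (h : (4 : ZMod p) ^ m = 4 ^ n) : (m : ZMod q) = n := by
  rw [pow_eq_pow_mod m C.four_pow_q, pow_eq_pow_mod n C.four_pow_q] at h
  exact (ZMod.natCast_eq_natCast_iff' _ _ _).2
    (C.prim.pow_inj (Nat.mod_lt _ C.hq.pos) (Nat.mod_lt _ C.hq.pos) h)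

theorem exists_pow {x : ZMod p} (h : x ^ q = 1) : ∃ j, x = 4 ^ j := by
  have : NeZero q := ⟨C.hq.ne_zero⟩
  obtain ⟨j, -, hj⟩ := C.prim.eq_pow_of_pow_eq_one h
  exact ⟨j, hj.symm⟩

theorem neg_pow_q (x : ZMod p) : (-x) ^ q = -x ^ q := C.odd_q.neg_pow x

theorem pow_q_zero : (0 : ZMod p) ^ q = 0 := zero_pow C.hq.ne_zero

theorem ne_zero_of_pow {x ε : ZMod p} (hε : ε ≠ 0) (h : x ^ q = ε) : x ≠ 0 := fun h0 => by
  rw [h0, C.pow_q_zero] at h; exact hε h.symm

theorem pow_cases {x : ZMod p} (hx : x ≠ 0) : x ^ q = 1 ∨ x ^ q = -1 := pow_q_cases C.hp hx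

theorem aff' {k : ZMod p} (hk : k ^ q = 1) (v : ZMod p) : ∃ g ∈ G, ∀ j, g j = k * j + v := by
  have hk0 := C.ne_zero_of_pow one_ne_zero hk
  refine C.aff k v hk0 ((ZMod.euler_criterion p hk0).2 ?_)
  rw [show p / 2 = q by have := C.hp; omega]
  exact hk

/-- Multiplication by `4`. -/
theorem exists_m : ∃ m ∈ G, ∀ x, m x = 4 * x := by
  obtain ⟨g, hg, h⟩ := C.aff' C.four_pow_q 0
  exact ⟨g, hg, fun x => by rw [h, add_zero]⟩

theorem exists_dil {k : ZMod p} (hk : k ^ q = 1) : ∃ g ∈ G, ∀ x, g x = k * x := by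
  obtain ⟨g, hg, h⟩ := C.aff' hk 0
  exact ⟨g, hg, fun x => by rw [h, add_zero]⟩

theorem exists_tr (v : ZMod p) : ∃ g ∈ G, ∀ x, g x = x + v := by
  obtain ⟨g, hg, h⟩ := C.aff' (one_pow q) v
  exact ⟨g, hg, fun x => by rw [h, one_mul]⟩

theorem preprimitive : IsPreprimitive G (ZMod p) := by
  have := C.trans
  exact IsPreprimitive.of_prime_card (by rw [Nat.card_eq_fintype_card, ZMod.card]; exact Fact.out)

theorem two_trans : IsMultiplyPretransitive G (ZMod p) 2 :=
  haveI := C.trans
  CfsgLib.PermGroup.two_transitive_of_insoluble (ZMod.card p) G C.insol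

theorem sign_eq {g : Perm (ZMod p)} (hg : g ∈ G) : Perm.sign g = 1 :=
  Perm.mem_alternatingGroup.1 (C.even hg)

theorem norm_zero {g : Perm (ZMod p)} {r : ℕ} (h : Norm g r) :
    g 0 = 0 ∧ (r : ZMod q) ≠ 0 := by
  have hr : (r : ZMod q) ≠ 0 := by
    intro h0
    have h1 := h 1
    rw [C.four_pow_eq (n := 0) (by simpa using h0), pow_zero, one_mul, mul_one] at h1
    exact C.four_ne_one (g.injective h1)
  refine ⟨?_, hr⟩
  have h1 := h 0
  rw [mul_zero] at h1
  have h2 : ((4 : ZMod p) ^ r - 1) * g 0 = 0 := by linear_combination -h1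
  refine (mul_eq_zero.1 h2).resolve_left fun h3 => hr ?_
  rw [sub_eq_zero, ← pow_zero (4 : ZMod p)] at h3
  simpa using C.four_pow_inj h3

/-- The shape of a semilinear map: a power map on each half. -/
theorem norm_shape {g : Perm (ZMod p)} {r : ℕ} (h : Norm g r) :
    (∀ x, x ^ q = 1 → g x = g 1 * x ^ r) ∧ (∀ x, x ^ q = -1 → g x = g (-1) * (-x) ^ r) := by
  constructor
  · intro x hx
    obtain ⟨j, rfl⟩ := C.exists_pow hx
    have := h.iter j 1
    rw [mul_one] at this
    rw [this, ← pow_mul, mul_comm r j, mul_comm]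
  · intro x hx
    obtain ⟨j, hj⟩ := C.exists_pow (x := -x) (by rw [C.neg_pow_q, hx, neg_neg])
    have := h.iter j (-1)
    rw [hj, show x = (4 : ZMod p) ^ j * (-1) by rw [mul_neg_one, ← hj, neg_neg], this, ← pow_mul,
      mul_comm r j, mul_comm]

omit C in
theorem subtypePerm_pow_eq_one {α : Type*} [Fintype α] (f : Perm α) {P : α → Prop}
    (hf : ∀ x, P (f x) ↔ P x) (n : ℕ) (h : ∀ x, P x → (f ^ n) x = x) :
    (f.subtypePerm hf) ^ n = 1 := by
  rw [Perm.subtypePerm_pow]
  ext x
  exact h x.1 x.2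

/-- A semilinear map preserving both halves is even. -/
theorem sign_half {h : Perm (ZMod p)} {r : ℕ} (hn : Norm h r) (h1 : (h 1) ^ q = 1)
    (h2 : (h (-1)) ^ q = -1) : Perm.sign h = 1 := by
  obtain ⟨hS, hN⟩ := C.norm_shape hn
  have h0 := (C.norm_zero hn).1
  have hpS : ∀ x, x ^ q = 1 → (h x) ^ q = 1 := fun x hx => by
    rw [hS x hx, mul_pow, h1, one_mul, ← pow_mul, mul_comm, pow_mul, hx, one_pow]
  have hpN : ∀ x, x ^ q = -1 → (h x) ^ q = -1 := fun x hx => by
    rw [hN x hx, mul_pow, h2, ← pow_mul, mul_comm r q, pow_mul, C.neg_pow_q, hx, neg_neg, one_pow,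
      mul_one]
  have hiS : ∀ x, (h x) ^ q = 1 ↔ x ^ q = 1 := by
    refine fun x => ⟨fun hx => ?_, hpS x⟩
    rcases eq_or_ne x 0 with rfl | hx0
    · rw [h0, C.pow_q_zero] at hx; exact absurd hx zero_ne_one
    · exact (C.pow_cases hx0).resolve_right fun hx' => C.neg_one_ne ((hpN x hx').symm.trans hx)
  have hiN : ∀ x, (h x) ^ q = -1 ↔ x ^ q = -1 := by
    refine fun x => ⟨fun hx => ?_, hpN x⟩
    rcases eq_or_ne x 0 with rfl | hx0
    · rw [h0, C.pow_q_zero] at hx; exact absurd hx (by simp)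
    · exact (C.pow_cases hx0).resolve_left fun hx' => C.neg_one_ne (hx.symm.trans (hpS x hx'))
  set A : Perm (ZMod p) := Perm.ofSubtype (h.subtypePerm (p := fun x => x ^ q = 1) hiS) with hA
  set B : Perm (ZMod p) := Perm.ofSubtype (h.subtypePerm (p := fun x => x ^ q = -1) hiN) with hB
  have hA1 : ∀ x, x ^ q = 1 → A x = h x := fun x hx => by
    rw [hA]; exact Perm.ofSubtype_apply_of_mem (h.subtypePerm (p := fun x => x ^ q = 1) hiS) hx
  have hA0 : ∀ x, x ^ q ≠ 1 → A x = x := fun x hx => by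
    rw [hA]; exact Perm.ofSubtype_apply_of_not_mem _ hx
  have hB1 : ∀ x, x ^ q = -1 → B x = h x := fun x hx => by
    rw [hB]; exact Perm.ofSubtype_apply_of_mem (h.subtypePerm (p := fun x => x ^ q = -1) hiN) hx
  have hB0 : ∀ x, x ^ q ≠ -1 → B x = x := fun x hx => by
    rw [hB]; exact Perm.ofSubtype_apply_of_not_mem _ hx
  have hAB : h = A * B := by
    ext x
    rw [Perm.mul_apply]
    rcases eq_or_ne x 0 with rfl | hx0
    · rw [hB0 _ (by rw [C.pow_q_zero]; simp), hA0 _ (by rw [C.pow_q_zero]; simp), h0]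
    rcases C.pow_cases hx0 with hx | hx
    · rw [hB0 _ (by rw [hx]; exact C.neg_one_ne.symm), hA1 _ hx]
    · rw [hB1 _ hx, hA0 _ (by rw [hpN x hx]; exact C.neg_one_ne)]
  set ν : Perm (ZMod p) := Equiv.neg (ZMod p) with hν
  set w : ZMod p := h 1 * (-h (-1))⁻¹ with hw
  have hwq : w ^ q = 1 := by rw [hw, mul_pow, inv_pow, C.neg_pow_q, h1, h2, neg_neg, inv_one, mul_one]
  have hw0 := C.ne_zero_of_pow one_ne_zero hwq
  set M : Perm (ZMod p) := Equiv.mulLeft₀ w hw0 with hM
  have hMS : ∀ x, (M x) ^ q = 1 ↔ x ^ q = 1 := fun x => by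
    simp [hM, mul_pow, hwq]
  set D : Perm (ZMod p) := Perm.ofSubtype (M.subtypePerm (p := fun x => x ^ q = 1) hMS) with hD
  have hD1 : ∀ x, x ^ q = 1 → D x = w * x := fun x hx => by
    rw [hD]; exact Perm.ofSubtype_apply_of_mem (M.subtypePerm (p := fun x => x ^ q = 1) hMS) hx
  have hD0 : ∀ x, x ^ q ≠ 1 → D x = x := fun x hx => by
    rw [hD]; exact Perm.ofSubtype_apply_of_not_mem _ hx
  have hA' : A = D * (ν * B * ν) := by
    ext x
    rw [Perm.mul_apply, Perm.mul_apply, Perm.mul_apply]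
    simp only [hν, Equiv.neg_apply]
    by_cases hx : x ^ q = 1
    · have hx' : (-x) ^ q = -1 := by rw [C.neg_pow_q, hx]
      rw [hA1 _ hx, hB1 _ hx', hD1 _ (by rw [C.neg_pow_q, hpN _ hx', neg_neg]), hS x hx, hN _ hx',
        neg_neg, hw]
      have hne : h (-1) ≠ 0 := C.ne_zero_of_pow (by simp) h2
      field_simp
    · rw [hA0 _ hx, hB0 _ (show (-x) ^ q ≠ -1 by rw [C.neg_pow_q]; simpa using hx), neg_neg,
        hD0 _ hx]
  have hDq : D ^ q = 1 := by
    rw [hD, ← map_pow, subtypePerm_pow_eq_one M hMS q, map_one]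
    intro x _
    have : ∀ n : ℕ, (M ^ n) x = w ^ n * x := by
      intro n
      induction n with
      | zero => simp
      | succ n ih => rw [pow_succ', Perm.mul_apply, ih, hM, Equiv.mulLeft₀_apply, pow_succ']; ring
    rw [this, hwq, one_mul]
  have hsD : Perm.sign D = 1 := by
    have := congrArg Perm.sign hDq
    rw [map_pow, map_one] at this
    rcases Int.units_eq_one_or (Perm.sign D) with h' | h'
    · exact h'
    · rw [h', C.odd_q.neg_one_pow] at this; exact absurd this (by decide)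
  rw [hAB, hA', map_mul, map_mul, map_mul, map_mul, hsD, one_mul]
  rcases Int.units_eq_one_or (Perm.sign ν) with h' | h' <;>
    rcases Int.units_eq_one_or (Perm.sign B) with h'' | h'' <;> simp [h', h'']

theorem sign_neg : Perm.sign (Equiv.neg (ZMod p)) = -1 := by
  set ν : Perm (ZMod p) := Equiv.neg (ZMod p) with hν
  have h2 : ν ^ 2 = 1 := by ext x; simp [hν, sq]
  have hfix : Function.fixedPoints ν = {0} := by
    ext x
    simp only [Function.mem_fixedPoints_iff, hν, Equiv.neg_apply, Set.mem_singleton_iff]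
    exact ⟨fun h => (mul_eq_zero.1
      (show (2 : ZMod p) * x = 0 by linear_combination -h)).resolve_left C.two_ne,
      fun h => by rw [h, neg_zero]⟩
  rw [Perm.sign_of_pow_two_eq_one h2, ← Nat.card_eq_fintype_card (α := Function.fixedPoints ν), hfix,
    Nat.card_coe_set_eq, Set.ncard_singleton, ZMod.card,
    show (p - 1) / 2 = q by have := C.hp; omega, C.odd_q.neg_one_pow]

/-- A semilinear element of `G` preserves the squares. -/
theorem norm_halves {g : Perm (ZMod p)} {r : ℕ} (hg : g ∈ G) (h : Norm g r) :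
    (g 1) ^ q = 1 ∧ (g (-1)) ^ q = -1 := by
  have h0 := (C.norm_zero h).1
  have hne1 : g 1 ≠ 0 := fun h' => one_ne_zero (g.injective (h'.trans h0.symm))
  have hne : g (-1) ≠ 0 := fun h' => by simpa using g.injective (h'.trans h0.symm)
  obtain ⟨hS, hN⟩ := C.norm_shape h
  have hdiff : (g 1) ^ q ≠ (g (-1)) ^ q := by
    intro he
    obtain ⟨j, hj⟩ := C.exists_pow (x := g (-1) * (g 1)⁻¹) (by rw [mul_pow, inv_pow, ← he]; field_simp)
    -- hit `g (-1)` from the squares
    have := Fact.mk C.hq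
    set i := ((j : ZMod q) * (r : ZMod q)⁻¹).val with hi
    have h1 : g ((4 : ZMod p) ^ i * 1) = g (-1) := by
      rw [h.iter, C.four_pow_eq (n := j), ← hj]
      · field_simp
      · rw [Nat.cast_mul, hi, ZMod.natCast_zmod_val, mul_comm (j : ZMod q), ← mul_assoc,
          mul_inv_cancel₀ (C.norm_zero h).2, one_mul]
    have h2 := congrArg (· ^ q) (g.injective h1)
    simp only [mul_one] at h2
    rw [← pow_mul, mul_comm, pow_mul, C.four_pow_q, one_pow, C.odd_q.neg_one_pow] at h2
    exact C.neg_one_ne h2.symm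
  rcases C.pow_cases hne1 with h1 | h1
  · exact ⟨h1, (C.pow_cases hne).resolve_left fun h' => hdiff (h1.trans h'.symm)⟩
  exfalso
  have h2 : (g (-1)) ^ q = 1 :=
    (C.pow_cases hne).resolve_right fun h' => hdiff (h1.trans h'.symm)
  have hν : Norm (Equiv.neg (ZMod p) * g) r := fun x => by
    rw [Perm.mul_apply, Perm.mul_apply, h]; simp
  have := C.sign_half hν (by rw [Perm.mul_apply]; simp [C.neg_pow_q, h1])
    (by rw [Perm.mul_apply]; simp [C.neg_pow_q, h2])
  rw [map_mul, C.sign_eq hg, C.sign_neg, mul_one] at this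
  exact absurd this (by decide)

/-- The centraliser of the multiplication by `4` consists of multiplications. -/
theorem centralizer_eq {g : Perm (ZMod p)} (hg : g ∈ G) (h : Norm g 1) : ∀ x, g x = g 1 * x := by
  obtain ⟨h1, h2⟩ := C.norm_halves hg h
  obtain ⟨hS, hN⟩ := C.norm_shape h
  have h0 := (C.norm_zero h).1
  set u := g 1 with hu
  set w := -g (-1) with hw
  have hu0 := C.ne_zero_of_pow one_ne_zero h1
  have hgN : ∀ x, x ^ q = -1 → g x = w * x := fun x hx => by rw [hN x hx, pow_one, hw]; ring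
  by_contra hcon
  obtain ⟨d, hd, hdx⟩ := C.exists_dil (k := u⁻¹) (by rw [inv_pow, h1, inv_one])
  set f := d * g with hf
  set t := u⁻¹ * w with ht
  have hfS : ∀ x, x ^ q ≠ -1 → f x = x := by
    intro x hx
    rw [hf, Perm.mul_apply, hdx]
    rcases eq_or_ne x 0 with rfl | hx0
    · rw [h0, mul_zero]
    · rw [hS x ((C.pow_cases hx0).resolve_right hx), pow_one]; field_simp
  have hfN : ∀ x, x ^ q = -1 → f x = t * x := fun x hx => by
    rw [hf, Perm.mul_apply, hdx, hgN x hx, ht, mul_assoc]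
  have htq : t ^ q = 1 := by
    rw [ht, mul_pow, inv_pow, h1, hw, C.neg_pow_q, h2]; simp
  have hpow : ∀ (n : ℕ) x, x ^ q = -1 → (f ^ n) x = t ^ n * x := by
    intro n
    induction n with
    | zero => simp
    | succ n ih =>
      intro x hx
      rw [pow_succ', Perm.mul_apply, ih x hx, hfN _ (by rw [mul_pow, ← pow_mul, mul_comm n, pow_mul,
        htq, one_pow, one_mul, hx]), pow_succ']
      simp only [ht]; ring
  have hfq : f ^ q = 1 := by
    ext x
    by_cases hx : x ^ q = -1
    · rw [hpow q x hx, htq, one_mul, Perm.one_apply]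
    · exact Perm.pow_apply_eq_self_of_apply_eq_self (hfS x hx) q
  have hf1 : f ≠ 1 := by
    intro h'
    refine hcon fun x => ?_
    have h'' := congrArg (fun e : Perm (ZMod p) => e x) h'
    simp only [hf, Perm.mul_apply, hdx, Perm.one_apply] at h''
    calc g x = u * (u⁻¹ * g x) := by field_simp
      _ = u * x := by rw [h'']
  have := Fact.mk C.hq
  have hord : orderOf f = q := orderOf_eq_prime hfq hf1
  have hsub : f.support ⊆ Finset.univ.filter fun x : ZMod p => x ^ q = -1 := fun x hx => by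
    simp only [Finset.mem_filter, Finset.mem_univ, true_and]
    by_contra h'
    exact (Perm.mem_support.1 hx) (hfS x h')
  have hle : f.support.card ≤ q := by
    refine (Finset.card_le_card hsub).trans ?_
    have hsub' : (Finset.univ.filter fun x : ZMod p => x ^ q = -1) ⊆
        ((Polynomial.X ^ q - Polynomial.C (-1 : ZMod p)).roots).toFinset := by
      intro x hx
      simp only [Finset.mem_filter, Finset.mem_univ, true_and] at hx
      rw [Multiset.mem_toFinset, Polynomial.mem_roots (Polynomial.X_pow_sub_C_ne_zero C.hq.pos _)]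
      simp [hx]
    refine (Finset.card_le_card hsub').trans ((Multiset.toFinset_card_le _).trans ?_)
    exact (Polynomial.card_roots' _).trans (by rw [Polynomial.natDegree_X_pow_sub_C])
  have hcyc : f.IsCycle := Perm.isCycle_of_prime_order (by rw [hord]; exact C.hq)
    (by rw [hord]; have := C.hq.pos; omega)
  have hcard : f.support.card = q := by rw [← hcyc.orderOf, hord]
  exact C.proper (Cfsg.Agent.S0713.result G C.preprimitive C.hq
    (by rw [ZMod.card]; have := C.p_ge; omega)
    (by rw [ZMod.card]; have := C.hp; have := C.hq11; omega) hcyc hcard (G.mul_mem hd hg))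

theorem eq_of_norm {g g' : Perm (ZMod p)} {r r' : ℕ} (hg : g ∈ G) (hg' : g' ∈ G)
    (h : Norm g r) (h' : Norm g' r') (hr : (r : ZMod q) = r') (h1 : g 1 = g' 1) : g = g' := by
  have hn : Norm (g'⁻¹ * g) 1 := fun x => by
    rw [Perm.mul_apply, Perm.mul_apply, pow_one, Perm.inv_def, Equiv.symm_apply_eq, h' _,
      Equiv.apply_symm_apply, h x, C.four_pow_eq hr]
  have hc := C.centralizer_eq (G.mul_mem (G.inv_mem hg') hg) hn
  ext x
  have h2 := hc x
  rw [Perm.mul_apply, Perm.mul_apply, h1, Perm.inv_def, Equiv.symm_apply_apply, one_mul,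
    Equiv.symm_apply_eq] at h2
  exact h2

end Ctx

end CfsgLib.PrimeFour
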