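import Cfsg.Agent.Lib.PrimeFour.Local
import Cfsg.Agent.Lib.PrimeFour.CaseSplit

/-!
# Simplicity, the multiplier group and the common constant
-/

set_option autoImplicit false

open MulAction Subgroup Equiv
open scoped Classical

namespace CfsgLib.PrimeFour

variable {p q : ℕ} [Fact p.Prime]

namespace Ctx

variable {G : Subgroup (Perm (ZMod p))} (C : Ctx q G)

include C

theorem tr_pow {σ : Perm (ZMod p)} (hσ : ∀ x, σ x = x + 1) (n : ℕ) (x : ZMod p) :
    (σ ^ n) x = x + n := by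
  induction n with
  | zero => simp
  | succ n ih => rw [pow_succ', Perm.mul_apply, ih, hσ]; push_cast; ring

theorem orderOf_tr {σ : Perm (ZMod p)} (hσ : ∀ x, σ x = x + 1) : orderOf σ = p := by
  refine orderOf_eq_prime (Equiv.ext fun x => ?_) fun h => ?_
  · rw [C.tr_pow hσ, ZMod.natCast_self, add_zero, Perm.one_apply]
  · have := congrArg (fun f : Perm (ZMod p) => f 0) h
    simp [hσ] at this

/-- Elements normalising the translations are affine with square multiplier. -/
theorem affine_of_normal {σ g : Perm (ZMod p)} (hσ : ∀ x, σ x = x + 1) (hg : g ∈ G) {n : ℕ}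
    (h : g * σ * g⁻¹ = σ ^ n) : ∃ k : ZMod p, k ^ q = 1 ∧ ∀ x, g x = k * x + g 0 := by
  have h' : ∀ x, g (x + 1) = g x + n := fun x => by
    have := congrArg (fun f : Perm (ZMod p) => f (g x)) h
    simpa [Perm.mul_apply, hσ, C.tr_pow hσ, Perm.inv_def] using this
  have hlin : ∀ j : ℕ, g (j : ZMod p) = (n : ZMod p) * j + g 0 := by
    intro j
    induction j with
    | zero => simp
    | succ j ih => push_cast; rw [h', ih]; ring
  have hall : ∀ x, g x = (n : ZMod p) * x + g 0 := fun x => by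
    have := hlin x.val
    rwa [ZMod.natCast_zmod_val] at this
  set k : ZMod p := (n : ZMod p) with hk
  refine ⟨k, ?_, hall⟩
  have hk0 : k ≠ 0 := fun h0 => by
    refine one_ne_zero (g.injective (a₁ := (1 : ZMod p)) ?_)
    rw [hall 1, h0, zero_mul, zero_add]
  refine (C.pow_cases hk0).resolve_right fun hneg => ?_
  obtain ⟨d, hd, hdx⟩ := C.aff' (k := -k⁻¹)
    (by rw [C.neg_pow_q, inv_pow, hneg]; simp [inv_neg]) (k⁻¹ * g 0)
  have he : d * g = Equiv.neg (ZMod p) := by
    ext x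
    rw [Perm.mul_apply, hdx, hall, Equiv.neg_apply]
    field_simp; ring
  have := C.sign_eq (G.mul_mem hd hg)
  rw [he, C.sign_neg] at this
  exact absurd this (by decide)

/-- The group is simple. -/
theorem isSimpleGroup : IsSimpleGroup G := by
  have := C.trans
  have hp := (Fact.out : p.Prime)
  have : Nontrivial G := by
    by_contra h
    have := not_nontrivial_iff_subsingleton.1 h
    exact C.insol inferInstance
  refine ⟨fun K hK => ?_⟩
  by_contra hcon
  simp only [not_or] at hcon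
  obtain ⟨hbot, htop⟩ := hcon
  have htrK := CfsgLib.PermGroup.transitive_of_normal (ZMod.card p) G K hbot
  set K' := K.map G.subtype with hK'
  have htrK' : IsPretransitive K' (ZMod p) := ⟨fun x y => by
    obtain ⟨k, hk⟩ := htrK.exists_smul_eq x y
    exact ⟨⟨_, Subgroup.mem_map_of_mem _ k.2⟩, hk⟩⟩
  obtain ⟨σ, hσG, hσ⟩ := C.exists_tr 1
  set s : G := ⟨σ, hσG⟩ with hs
  have hos : orderOf s = p := (Subgroup.orderOf_coe s).symm.trans (C.orderOf_tr hσ)
  obtain ⟨P, hP⟩ := (IsPGroup.of_card (p := p) (G := Subgroup.zpowers s) (n := 1)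
    (by rw [Nat.card_zpowers, hos, pow_one])).exists_le_sylow
  have hPeq : Subgroup.zpowers s = (P : Subgroup G) := Subgroup.eq_of_le_of_card_ge hP
    (by rw [Nat.card_zpowers, hos, CfsgLib.PermGroup.card_sylow_eq (ZMod.card p) G P])
  -- the translations lie in `K`
  have hsK : s ∈ K := by
    have hdvd : p ∣ Nat.card K := by
      have h1 := CfsgLib.PermGroup.prime_dvd_card (p := p) (ZMod.card p) K'
      rwa [Nat.card_congr (Subgroup.equivMapOfInjective K G.subtype G.subtype_injective).toEquiv.symm] at h1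
    obtain ⟨k, hk⟩ := exists_prime_orderOf_dvd_card' (G := K) p hdvd
    obtain ⟨P', hP'⟩ := (IsPGroup.of_card (p := p) (G := Subgroup.zpowers (k : G)) (n := 1)
      (by rw [Nat.card_zpowers, Subgroup.orderOf_coe, hk, pow_one])).exists_le_sylow
    have hP'eq : Subgroup.zpowers (k : G) = (P' : Subgroup G) := Subgroup.eq_of_le_of_card_ge hP'
      (by rw [Nat.card_zpowers, Subgroup.orderOf_coe, hk,
        CfsgLib.PermGroup.card_sylow_eq (ZMod.card p) G P'])
    obtain ⟨g, hg⟩ := MulAction.exists_smul_eq G P' P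
    have hsP : s ∈ (P : Subgroup G) := hPeq ▸ Subgroup.mem_zpowers s
    rw [← hg, Sylow.coe_subgroup_smul, Subgroup.mem_pointwise_smul_iff_inv_smul_mem, ← hP'eq,
      Subgroup.mem_zpowers_iff] at hsP
    obtain ⟨i, hi⟩ := hsP
    have : (MulAut.conj g)⁻¹ • s ∈ K := hi ▸ K.zpow_mem k.2 i
    have h2 := hK.conj_mem _ this g
    simpa [MulAut.smul_def, mul_assoc] using h2
  have hσK' : σ ∈ K' := ⟨s, hsK, rfl⟩
  set s' : K' := ⟨σ, hσK'⟩ with hs'
  have hos' : orderOf s' = p := (Subgroup.orderOf_coe s').symm.trans (C.orderOf_tr hσ)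
  obtain ⟨R, hR⟩ := (IsPGroup.of_card (p := p) (G := Subgroup.zpowers s') (n := 1)
    (by rw [Nat.card_zpowers, hos', pow_one])).exists_le_sylow
  have hReq : Subgroup.zpowers s' = (R : Subgroup K') := Subgroup.eq_of_le_of_card_ge hR
    (by rw [Nat.card_zpowers, hos', CfsgLib.PermGroup.card_sylow_eq (ZMod.card p) K' R])
  have haffK : ∀ g : K', g ∈ normalizer ((R : Subgroup K') : Set K') →
      ∃ k : ZMod p, k ^ q = 1 ∧ ∀ x, (g : Perm (ZMod p)) x = k * x + (g : Perm (ZMod p)) 0 := by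
    intro g hg
    obtain ⟨n, hn⟩ : ∃ n : ℕ, s' ^ n = g * s' * g⁻¹ := by
      have h1 := (Subgroup.mem_normalizer_iff.1 hg s').1 (hReq ▸ Subgroup.mem_zpowers s')
      rw [← hReq] at h1
      exact (isOfFinOrder_of_finite s').mem_powers_iff_mem_zpowers.2 h1
    refine C.affine_of_normal hσ (n := n) ?_ (congrArg Subtype.val hn).symm
    obtain ⟨g₀, -, hg₀⟩ := g.2
    rw [← hg₀]
    exact g₀.2
  by_cases hslope : ∀ g : K', g ∈ normalizer ((R : Subgroup K') : Set K') →
      ∀ x, (g : Perm (ZMod p)) x = x + (g : Perm (ZMod p)) 0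
  · have hNR : normalizer ((R : Subgroup K') : Set K') ≤ (R : Subgroup K') := by
      intro g hg
      rw [← hReq, Subgroup.mem_zpowers_iff]
      refine ⟨(((g : Perm (ZMod p)) 0).val : ℤ), Subtype.ext (Equiv.ext fun x => ?_)⟩
      rw [zpow_natCast, Subgroup.coe_pow, hs', C.tr_pow hσ, ZMod.natCast_zmod_val, hslope g hg x]
    have hcard : Nat.card K' = p := CfsgLib.PermGroup.card_eq_of_self_normalizing (ZMod.card p) K' R
      (by rw [le_antisymm hNR le_normalizer, CfsgLib.PermGroup.card_sylow_eq (ZMod.card p) K' R])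
    have hK'eq : Subgroup.zpowers σ = K' := Subgroup.eq_of_le_of_card_ge
      (Subgroup.zpowers_le.2 hσK') (by rw [Nat.card_zpowers, C.orderOf_tr hσ, hcard])
    refine C.insol (CfsgLib.PermGroup.solvable_of_affine G (Equiv.refl (ZMod p)) fun g hg => ?_)
    have hmem : g * σ * g⁻¹ ∈ K' :=
      ⟨⟨g, hg⟩ * s * ⟨g, hg⟩⁻¹, hK.conj_mem _ hsK _, rfl⟩
    rw [← hK'eq] at hmem
    obtain ⟨n, hn⟩ := (isOfFinOrder_of_finite σ).mem_powers_iff_mem_zpowers.2 hmem
    obtain ⟨k, -, hk⟩ := C.affine_of_normal hσ hg hn.symm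
    exact ⟨k, g 0, fun j => hk j⟩
  · push Not at hslope
    obtain ⟨g, hg, x₀, hgx⟩ := hslope
    obtain ⟨k, hkq, hk⟩ := haffK g hg
    have hk1 : k ≠ 1 := fun h => hgx (by rw [hk x₀, h, one_mul])
    obtain ⟨j, hj⟩ := C.exists_pow hkq
    have hj0 : (j : ZMod q) ≠ 0 := fun h0 => hk1 (by
      rw [hj, C.four_pow_eq (n := 0) (by simpa using h0), pow_zero])
    -- all half affine maps are in `K`
    have hall : ∀ (f : G) (a v : ZMod p), a ^ q = 1 → (∀ x, (f : Perm (ZMod p)) x = a * x + v) →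
        f ∈ K := by
      intro f a v ha hf
      obtain ⟨i, hi⟩ := C.exists_pow ha
      have := Fact.mk C.hq
      obtain ⟨g₀, hg₀K, hg₀⟩ := g.2
      set l := ((i : ZMod q) * (j : ZMod q)⁻¹).val with hl
      have hl' : a = k ^ l := by
        rw [hi, hj, ← pow_mul]
        refine C.four_pow_eq ?_
        rw [Nat.cast_mul, hl, ZMod.natCast_zmod_val, mul_comm (i : ZMod q), ← mul_assoc,
          mul_inv_cancel₀ hj0, one_mul]
      have hpow : ∀ n : ℕ, ∀ x, ((g₀ ^ n : G) : Perm (ZMod p)) x =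
          k ^ n * x + ((g₀ ^ n : G) : Perm (ZMod p)) 0 := by
        intro n
        induction n with
        | zero => simp
        | succ n ih =>
          intro x
          rw [pow_succ', Subgroup.coe_mul, Perm.mul_apply, Perm.mul_apply, ih x]
          rw [show (g₀ : Perm (ZMod p)) = (g : Perm (ZMod p)) from hg₀, hk,
            hk (((g₀ ^ n : G) : Perm (ZMod p)) 0), pow_succ']
          ring
      have hmem : f = s ^ ((v - ((g₀ ^ l : G) : Perm (ZMod p)) 0).val) * g₀ ^ l := by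
        refine Subtype.ext (Equiv.ext fun x => ?_)
        rw [Subgroup.coe_mul, Perm.mul_apply, Subgroup.coe_pow, hs, C.tr_pow hσ,
          ZMod.natCast_zmod_val, hpow l x, hf, hl']
        ring
      rw [hmem]
      exact K.mul_mem (K.pow_mem hsK _) (K.pow_mem hg₀K _)
    have hNK : normalizer ((P : Subgroup G) : Set G) ≤ K := by
      intro f hf
      have h1 := (Subgroup.mem_normalizer_iff.1 hf s).1 (hPeq ▸ Subgroup.mem_zpowers s)
      rw [← hPeq] at h1
      obtain ⟨n, hn⟩ := (isOfFinOrder_of_finite s).mem_powers_iff_mem_zpowers.2 h1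
      obtain ⟨a, ha, hax⟩ := C.affine_of_normal hσ f.2 (n := n) (congrArg Subtype.val hn).symm
      exact hall f a _ ha hax
    have h2 : normalizer ((P : Subgroup G) : Set G) ⊔ K = ⊤ :=
      Sylow.normalizer_sup_eq_top' (N := K) P (le_trans le_normalizer hNK)
    rw [sup_eq_right.2 hNK] at h2
    exact htop h2

theorem norm_congr {g : Perm (ZMod p)} {r r' : ℕ} (h : (r : ZMod q) = r') (hg : Norm g r) :
    Norm g r' := fun x => by rw [hg, C.four_pow_eq h]

/-- The multiplication by `4` generates a self-centralising Sylow subgroup. -/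
theorem exists_sylow_q : ∃ (m : G) (Q : Sylow q G), (∀ x, (m : Perm (ZMod p)) x = 4 * x) ∧
    orderOf m = q ∧ (Q : Subgroup G) = Subgroup.zpowers m ∧
    Nat.card Q = q ∧ Subgroup.centralizer ((Q : Subgroup G) : Set G) = (Q : Subgroup G) := by
  have := Fact.mk C.hq
  obtain ⟨m₀, hm₀, hmx⟩ := C.exists_m
  set m : G := ⟨m₀, hm₀⟩ with hm
  have hpow : ∀ (n : ℕ) x, ((m ^ n : G) : Perm (ZMod p)) x = 4 ^ n * x := by
    intro n
    induction n with
    | zero => simp
    | succ n ih =>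
      intro x
      rw [pow_succ', Subgroup.coe_mul, Perm.mul_apply, ih, hm, hmx, pow_succ']; ring
  have hom : orderOf m = q := by
    refine orderOf_eq_prime (Subtype.ext (Equiv.ext fun x => ?_)) fun h => C.four_ne_one ?_
    · rw [hpow, C.four_pow_q, one_mul, OneMemClass.coe_one, Perm.one_apply]
    · have := congrArg (fun f : G => (f : Perm (ZMod p)) 1) h
      simpa [hm, hmx] using this
  have hcent : ∀ f : G, f * m = m * f → f ∈ Subgroup.zpowers m := by
    intro f hf
    have hn : Norm (f : Perm (ZMod p)) 1 := fun x => by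
      have := congrArg (fun e : G => (e : Perm (ZMod p)) x) hf
      simpa [hm, hmx, Perm.mul_apply] using this
    obtain ⟨j, hj⟩ := C.exists_pow (C.norm_halves f.2 hn).1
    refine Subgroup.mem_zpowers_iff.2 ⟨(j : ℤ), Subtype.ext (Equiv.ext fun x => ?_)⟩
    rw [zpow_natCast, hpow, C.centralizer_eq f.2 hn x, ← hj]
  obtain ⟨Q, hQ⟩ := (IsPGroup.of_card (p := q) (G := Subgroup.zpowers m) (n := 1)
    (by rw [Nat.card_zpowers, hom, pow_one])).exists_le_sylow
  have hmQ : m ∈ (Q : Subgroup G) := hQ (Subgroup.mem_zpowers m)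
  have hQeq : (Q : Subgroup G) = Subgroup.zpowers m := by
    refine le_antisymm (fun f hf => hcent f ?_) hQ
    have : Nontrivial (Q : Subgroup G) := ⟨⟨⟨m, hmQ⟩, 1, fun h => by
      have h' : m = 1 := congrArg Subtype.val h
      rw [h', orderOf_one] at hom
      exact C.hq.one_lt.ne hom⟩⟩
    have := Q.isPGroup'.center_nontrivial
    obtain ⟨⟨z, hz⟩, hz1⟩ := exists_ne (1 : Subgroup.center (Q : Subgroup G))
    have hzm : (z : G) ∈ Subgroup.zpowers m := hcent z
      (congrArg Subtype.val (Subgroup.mem_center_iff.1 hz ⟨m, hmQ⟩)).symm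
    have hzne : (z : G) ≠ 1 := fun h => hz1 (Subtype.ext (Subtype.ext h))
    have hgen : Subgroup.zpowers (z : G) = Subgroup.zpowers m := by
      refine Subgroup.eq_of_le_of_card_ge (Subgroup.zpowers_le.2 hzm) ?_
      rw [Nat.card_zpowers, Nat.card_zpowers, hom]
      exact Nat.le_of_eq (((Nat.dvd_prime C.hq).1
        ((orderOf_dvd_of_mem_zpowers hzm).trans (dvd_of_eq hom))).resolve_left
        (fun h => hzne (orderOf_eq_one_iff.1 h))).symm
    obtain ⟨i, hi⟩ := Subgroup.mem_zpowers_iff.1 (hgen ▸ Subgroup.mem_zpowers m)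
    have hcomm : Commute f (z : G) :=
      congrArg Subtype.val (Subgroup.mem_center_iff.1 hz ⟨f, hf⟩)
    rw [← hi]
    exact (hcomm.zpow_right i).eq
  refine ⟨m, Q, hmx, hom, hQeq, by rw [hQeq, Nat.card_zpowers, hom], le_antisymm ?_ ?_⟩
  · intro f hf
    rw [hQeq]
    exact hcent f (Subgroup.mem_centralizer_iff.1 hf m hmQ).symm
  · rw [hQeq]
    exact fun f hf => Subgroup.mem_centralizer_iff.2 fun y hy => by
      obtain ⟨i, rfl⟩ := Subgroup.mem_zpowers_iff.1 hf
      obtain ⟨l, rfl⟩ := Subgroup.mem_zpowers_iff.1 hy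
      exact (Commute.zpow_zpow_self m l i).eq

theorem norm_inv {g : Perm (ZMod p)} {r r' : ℕ} (hg : Norm g r) (h : (r : ZMod q) * r' = 1) :
    Norm g⁻¹ r' := fun x => by
  rw [Perm.inv_def, Equiv.symm_apply_eq, hg.iter, Equiv.apply_symm_apply,
    C.four_pow_eq (n := 1) (by rw [Nat.cast_mul, h, Nat.cast_one]), pow_one]

/-- The multipliers of the normaliser of the Sylow `q`-subgroup. -/
noncomputable def mult : Subgroup (ZMod q)ˣ where
  carrier := {u | ∃ g ∈ G, Norm g (u : ZMod q).val}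
  one_mem' := ⟨1, G.one_mem, fun x => by
    have := Fact.mk C.hq
    rw [Units.val_one, ZMod.val_one]; simp⟩
  mul_mem' := by
    rintro u v ⟨g, hg, hgu⟩ ⟨h, hh, hhv⟩
    have : NeZero q := ⟨C.hq.ne_zero⟩
    exact ⟨g * h, G.mul_mem hg hh, C.norm_congr (by simp) (hgu.mul hhv)⟩
  inv_mem' := by
    rintro u ⟨g, hg, hgu⟩
    have : NeZero q := ⟨C.hq.ne_zero⟩
    exact ⟨g⁻¹, G.inv_mem hg, C.norm_inv hgu (by simp)⟩

theorem inMult_iff {r : ℕ} : InMult C.mult r ↔ ∃ g ∈ G, Norm g r := by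
  have := Fact.mk C.hq
  constructor
  · rintro ⟨u, ⟨g, hg, hgu⟩, hu⟩
    exact ⟨g, hg, C.norm_congr (by simp [hu]) hgu⟩
  · rintro ⟨g, hg, hgr⟩
    refine ⟨Units.mk0 _ (C.norm_zero hgr).2, ⟨g, hg, C.norm_congr (by simp) hgr⟩, rfl⟩

theorem exists_normalised {r : ℕ} (h : InMult C.mult r) : ∃ g ∈ G, Norm g r ∧ g 1 = 1 := by
  obtain ⟨g, hg, hgr⟩ := C.inMult_iff.1 h
  have h1 := (C.norm_halves hg hgr).1
  obtain ⟨d, hd, hdx⟩ := C.exists_dil (k := (g 1)⁻¹) (by rw [inv_pow, h1, inv_one])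
  refine ⟨d * g, G.mul_mem hd hg, fun x => ?_, ?_⟩
  · rw [Perm.mul_apply, Perm.mul_apply, hgr, hdx, hdx]; ring
  · rw [Perm.mul_apply, hdx, inv_mul_cancel₀ (C.ne_zero_of_pow one_ne_zero h1)]

theorem mult_ne_bot : C.mult ≠ ⊥ := by
  intro hbot
  have := Fact.mk C.hq
  have := C.isSimpleGroup
  have := C.trans
  obtain ⟨m, Q, hmx, hom, hQeq, hQc, hcent⟩ := C.exists_sylow_q
  have hle : normalizer ((Q : Subgroup G) : Set G) ≤ centralizer ((Q : Subgroup G) : Set G) := by
    intro f hf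
    rw [hQeq] at hf ⊢
    have h1 := (Subgroup.mem_normalizer_iff.1 hf m).1 (Subgroup.mem_zpowers m)
    obtain ⟨n, hn⟩ := (isOfFinOrder_of_finite m).mem_powers_iff_mem_zpowers.2 h1
    have hpow : ∀ (n : ℕ) x, ((m ^ n : G) : Perm (ZMod p)) x = 4 ^ n * x := by
      intro n
      induction n with
      | zero => simp
      | succ n ih => intro x; rw [pow_succ', Subgroup.coe_mul, Perm.mul_apply, ih, hmx, pow_succ']; ring
    have hn' : f * m = m ^ n * f := by
      simp only at hn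
      rw [hn, inv_mul_cancel_right]
    have hN : Norm (f : Perm (ZMod p)) n := fun x => by
      have h := congrArg (fun e : G => (e : Perm (ZMod p)) x) hn'
      simp only [Subgroup.coe_mul, Perm.mul_apply, hmx, hpow] at h
      exact h
    obtain ⟨u, hu, hun⟩ := C.inMult_iff.2 ⟨_, f.2, hN⟩
    rw [hbot, Subgroup.mem_bot] at hu
    subst hu
    have hn1 : m ^ n = m := by
      refine Subtype.ext (Equiv.ext fun x => ?_)
      rw [hpow, hmx, C.four_pow_eq (n := 1) (by rw [← hun]; simp), pow_one]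
    rw [hn1] at hn'
    refine Subgroup.mem_centralizer_iff.2 fun y hy => ?_
    obtain ⟨i, rfl⟩ := Subgroup.mem_zpowers_iff.1 hy
    exact ((show Commute m f from hn'.symm).zpow_left i).eq
  have hc := MonoidHom.ker_transferSylow_isComplement' Q hle
  rcases ((MonoidHom.transferSylow Q hle).normal_ker).eq_bot_or_eq_top with h | h
  · rw [h] at hc
    have h2 := Subgroup.isComplement'_bot_left.1 hc
    have h3 : Nat.card G = q := by rw [← Subgroup.card_top (G := G), ← h2, hQc]
    have h4 := CfsgLib.PermGroup.prime_dvd_card (p := p) (ZMod.card p) G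
    rw [h3] at h4
    have := Nat.le_of_dvd C.hq.pos h4
    have := C.hp
    omega
  · rw [h] at hc
    have h2 := Subgroup.isComplement'_top_left.1 hc
    rw [h2, Subgroup.card_bot] at hQc
    exact C.hq.one_lt.ne hQc

/-- The common constant of the normalised elements. -/
theorem exists_const : ∃ c : ZMod p, c ^ q = -1 ∧ ∀ (r : ℕ) (g : Perm (ZMod p)), g ∈ G →
    Norm g r → g 1 = 1 → ∀ x, g x = pw q r (c * (c ^ r)⁻¹) x := by
  have := Fact.mk C.hq
  obtain ⟨u, hu, hu1⟩ := C.mult.bot_or_exists_ne_one.resolve_left C.mult_ne_bot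
  set r₀ := (u : ZMod q).val with hr₀
  obtain ⟨g₀, hg₀, hn₀, h₀1⟩ := C.exists_normalised (r := r₀) ⟨u, hu, by rw [hr₀, ZMod.natCast_zmod_val]⟩
  have hr1 : (r₀ : ZMod q) - 1 ≠ 0 := by
    rw [hr₀, ZMod.natCast_zmod_val, sub_ne_zero]
    exact fun h => hu1 (Units.ext h)
  have hneg := (C.norm_halves hg₀ hn₀).2
  obtain ⟨l, hl⟩ := C.exists_pow (x := -g₀ (-1)) (by rw [C.neg_pow_q, hneg, neg_neg])
  have hN : ∀ j : ℕ, g₀ (-4 ^ j) = -4 ^ (r₀ * j + l) := fun j => by
    rw [show -(4 : ZMod p) ^ j = 4 ^ j * (-1) by ring, hn₀.iter, pow_add,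
      show g₀ (-1) = -(4 : ZMod p) ^ l by rw [← hl, neg_neg]]
    ring
  have huniq : ∀ i j : ℕ, g₀ (-4 ^ i) = -4 ^ i → g₀ (-4 ^ j) = -4 ^ j → (i : ZMod q) = j := by
    intro i j hi hj
    rw [hN] at hi hj
    have e1 := C.four_pow_inj (neg_injective hi)
    have e2 := C.four_pow_inj (neg_injective hj)
    push_cast at e1 e2
    exact mul_left_cancel₀ hr1 (by linear_combination e1 - e2)
  set i₀ := (-(l : ZMod q) * ((r₀ : ZMod q) - 1)⁻¹).val with hi₀
  set c : ZMod p := -4 ^ i₀ with hc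
  have hcfix : g₀ c = c := by
    rw [hc, hN]
    congr 1
    refine C.four_pow_eq ?_
    have e : (i₀ : ZMod q) * ((r₀ : ZMod q) - 1) = -l := by
      rw [hi₀, ZMod.natCast_zmod_val, mul_assoc, inv_mul_cancel₀ hr1, mul_one]
    push_cast
    linear_combination e
  have hcq : c ^ q = -1 := by
    rw [hc, C.neg_pow_q, ← pow_mul, mul_comm, pow_mul, C.four_pow_q, one_pow]
  refine ⟨c, hcq, fun r g hg hn h1 => ?_⟩
  have hcomm : g₀ * g = g * g₀ := C.eq_of_norm (G.mul_mem hg₀ hg) (G.mul_mem hg hg₀) (hn₀.mul hn)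
    (hn.mul hn₀) (by push_cast; ring) (by rw [Perm.mul_apply, Perm.mul_apply, h1, h₀1, h1])
  have hgc : g c = c := by
    have hfix : g₀ (g c) = g c := by
      have := congrArg (fun e : Perm (ZMod p) => e c) hcomm
      simpa [Perm.mul_apply, hcfix] using this
    obtain ⟨-, hgN⟩ := C.norm_shape hn
    have hgcq : (g c) ^ q = -1 := by
      rw [hgN c hcq, mul_pow, (C.norm_halves hg hn).2, ← pow_mul, mul_comm r q, pow_mul, C.neg_pow_q,
        hcq, neg_neg, one_pow, mul_one]
    obtain ⟨j, hj⟩ := C.exists_pow (x := -g c) (by rw [C.neg_pow_q, hgcq, neg_neg])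
    have hgj : g c = -4 ^ j := by rw [← hj, neg_neg]
    have := huniq j i₀ (by rw [← hgj]; exact hfix) hcfix
    rw [hgj, hc, C.four_pow_eq this]
  obtain ⟨hS, -⟩ := C.norm_shape hn
  have hr0 : r ≠ 0 := fun h => (C.norm_zero hn).2 (by rw [h, Nat.cast_zero])
  intro x
  rcases eq_or_ne x 0 with rfl | hx0
  · rw [(C.norm_zero hn).1, pw, zero_pow hr0, zero_pow (by omega)]; ring
  rcases C.pow_cases hx0 with hx | hx
  · rw [hS x hx, h1, pw, pow_add, hx]
    have := C.two_ne
    field_simp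
    ring
  · obtain ⟨j, hj⟩ := C.exists_pow (x := x * c⁻¹) (by rw [mul_pow, inv_pow, hx, hcq]; simp)
    have hc0 := C.ne_zero_of_pow (by simp) hcq
    have hxj : x = 4 ^ j * c := by rw [← hj]; field_simp
    rw [pw, pow_add, hx]
    have e : g x = c * (c ^ r)⁻¹ * x ^ r := by
      rw [hxj, hn.iter, hgc, mul_pow, ← pow_mul, mul_comm r j]
      field_simp
    rw [e]
    have := C.two_ne
    field_simp
    ring

/-- The constant cannot be `-1`: inversion and translations give a three-cycle. -/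
theorem const_ne_neg_one (g : Perm (ZMod p)) (hg : g ∈ G) (hgx : ∀ x, g x = x⁻¹) : False := by
  obtain ⟨t, ht, htx⟩ := C.exists_tr 1
  obtain ⟨t', ht', htx'⟩ := C.exists_tr (-1)
  set h := g * t * g * t' * g * t with hh
  have hmem : h ∈ G := G.mul_mem (G.mul_mem (G.mul_mem (G.mul_mem (G.mul_mem hg ht) hg) ht') hg) ht
  have hval : ∀ x, h x = ((((x + 1)⁻¹ + (-1))⁻¹ + 1))⁻¹ := fun x => by
    simp [hh, Perm.mul_apply, hgx, htx, htx']
  have hgen : ∀ x : ZMod p, x ≠ 0 → x ≠ 1 → x ≠ -1 → h x = -x := by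
    intro x h0 _ h1
    have h1' : x + 1 ≠ 0 := fun e => h1 (by linear_combination e)
    rw [hval]
    have e1 : (x + 1)⁻¹ + -1 = -x / (x + 1) := by field_simp; ring
    rw [e1, inv_div]
    have e2 : (x + 1) / -x + 1 = -x⁻¹ := by field_simp; ring
    rw [e2, inv_neg, inv_inv]
  have hm1 : h (-1) = 0 := by rw [hval]; simp
  have h00 : h 0 = 1 := by rw [hval]; simp
  have hp1 : h 1 = -1 := by
    rw [hval]
    have := C.two_ne
    have e1 : ((1 : ZMod p) + 1)⁻¹ + -1 = -1 / 2 := by rw [one_add_one_eq_two]; field_simp; ring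
    rw [e1, inv_div]
    have e2 : (2 : ZMod p) / -1 + 1 = -1 := by ring
    rw [e2, inv_neg, inv_one]
  have hne1 := C.neg_one_ne
  have h3 : (h * h).IsThreeCycle := by
    refine card_support_eq_three_iff.1 ?_
    have hsupp : (h * h).support = {0, 1, -1} := by
      ext x
      simp only [Perm.mem_support, Perm.mul_apply, Finset.mem_insert, Finset.mem_singleton]
      constructor
      · intro hx
        by_contra hcon
        simp only [not_or] at hcon
        obtain ⟨a, b, d⟩ := hcon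
        refine hx ?_
        rw [hgen x a b d, hgen (-x) (neg_ne_zero.2 a) (fun e => d (by rw [← e, neg_neg]))
          (fun e => b (neg_injective e)), neg_neg]
      · rintro (rfl | rfl | rfl)
        · rw [h00, hp1]; simp
        · rw [hp1, hm1]; simp
        · rw [hm1, h00]; exact fun e => hne1 e.symm
    rw [hsupp, Finset.card_insert_of_notMem (by simp), Finset.card_insert_of_notMem
      (by simpa using hne1.symm), Finset.card_singleton]
  exact C.proper (Equiv.Perm.alternatingGroup_le_of_isPreprimitive_of_isThreeCycle_mem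
    C.preprimitive h3 (G.mul_mem hmem hmem))

/-- If all moment forms outside a proper multiplier group containing `-1` vanish, absurd. -/
theorem no_proper_mult (hneg : (-1 : (ZMod q)ˣ) ∈ C.mult) (hne : C.mult ≠ ⊤)
    (hforms : ∀ g ∈ G, ∀ k, k < q → 0 < k → ¬ InMult C.mult k → bForm (fun x => g x) k = 0) :
    False := by
  have := Fact.mk C.hq
  obtain ⟨c, hc, hform⟩ := C.exists_const
  have hc0 := C.ne_zero_of_pow (by simp) hc
  have hm1 : InMult C.mult (q - 1) := ⟨-1, hneg, by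
    rw [Nat.cast_sub C.hq.one_le, ZMod.natCast_self]; simp⟩
  have hz : ∀ r : ℕ, InMult C.mult r →
      ∃ g : ZMod p ≃ ZMod p, ∀ x, g x = pw q r (c * (c ^ r)⁻¹) x := fun r hr => by
    obtain ⟨g, hg, hn, h1⟩ := C.exists_normalised hr
    exact ⟨g, hform r g hg hn h1⟩
  have hmem : ∀ (r : ℕ) (g : ZMod p ≃ ZMod p), InMult C.mult r →
      (∀ x, g x = pw q r (c * (c ^ r)⁻¹) x) → g ∈ G ∧ Norm g r ∧ g 1 = 1 := fun r g hr h => by
    obtain ⟨g', hg', hn, h1⟩ := C.exists_normalised hr
    have : g = g' := Equiv.ext fun x => by rw [h, hform r g' hg' hn h1]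
    exact this ▸ ⟨hg', hn, h1⟩
  have hzinv : ∀ g : ZMod p ≃ ZMod p, (∀ x, g x = pw q (q - 1) (c * (c ^ (q - 1))⁻¹) x) →
      ∀ x, g (g x) = x := by
    intro g hg
    obtain ⟨hgG, hn, h1⟩ := hmem _ g hm1 hg
    have : g * g = 1 := C.eq_of_norm (r' := 1) (G.mul_mem hgG hgG) G.one_mem (hn.mul hn)
      (fun x => by simp) (by rw [Nat.cast_mul, Nat.cast_sub C.hq.one_le, ZMod.natCast_self]; simp)
      (by rw [Perm.mul_apply, h1, h1, Perm.one_apply])
    exact fun x => congrArg (fun e : Perm (ZMod p) => e x) this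
  have hB : ∀ (r s : ℕ) (g : ZMod p ≃ ZMod p), InMult C.mult r → InMult C.mult s →
      (∀ x, g x = pw q s (c * (c ^ s)⁻¹) x) → ∀ v : ZMod p, ∀ k, k < q → 0 < k →
      ¬ InMult C.mult k → bForm (fun x => pw q r (c * (c ^ r)⁻¹) (g x + v)) k = 0 := by
    intro r s g hr hs hg v k hk hk0 hkm
    obtain ⟨hgG, -, -⟩ := hmem s g hs hg
    obtain ⟨gr, hgr⟩ := hz r hr
    obtain ⟨hgrG, -, -⟩ := hmem r gr hr hgr
    obtain ⟨t, ht, htx⟩ := C.exists_tr v
    have h := hforms (gr * t * g) (G.mul_mem (G.mul_mem hgrG ht) hgG) k hk hk0 hkm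
    simpa [Perm.mul_apply, htx, hgr] using h
  have hc1 : c = -1 := eq_neg_one_of_forms C.hp C.hq11 hc C.mult hneg hne hz hzinv hB
  obtain ⟨g, hg⟩ := hz _ hm1
  obtain ⟨hgG, -, -⟩ := hmem _ g hm1 hg
  refine C.const_ne_neg_one g hgG fun x => ?_
  rw [hg, hc1]
  obtain ⟨a, ha⟩ := C.odd_q
  have hκ : (-1 : ZMod p) * ((-1) ^ (q - 1))⁻¹ = -1 := by
    rw [show q - 1 = 2 * a by omega, pow_mul]; simp
  rcases eq_or_ne x 0 with rfl | hx0
  · rw [pw, zero_pow (by have := C.hq11; omega), zero_pow (by have := C.hq11; omega)]; simp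
  rw [hκ, pw]
  have hxq : x ^ (q - 1) * x = x ^ q := by rw [← pow_succ]; congr 1; omega
  have h2 := C.two_ne
  rcases C.pow_cases hx0 with hx | hx <;> rw [hx] at hxq <;> rw [pow_add, hx] <;> field_simp
  · linear_combination 2 * hxq
  · linear_combination (-2 : ZMod p) * hxq

end Ctx

end CfsgLib.PrimeFour
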