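import Cfsg.Agent.Lib.PrimeFour.Blocks
import Mathlib.RingTheory.Polynomial.Cyclotomic.Roots
import Mathlib.FieldTheory.Minpoly.IsIntegrallyClosed

/-!
# Orthogonality between classes, read modulo `p`

The eigenfunctions of the half affine group lying in different constituents stay orthogonal
after moving one of them by any group element; modulo `p` this is a moment form.
-/

set_option autoImplicit false
set_option linter.unusedSectionVars false

open MulAction Subgroup Equiv
open Cfsg CfsgLib.Characters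
open scoped Classical Pointwise

namespace CfsgLib.PrimeFour

variable {p q : ℕ} [Fact p.Prime] [Fact q.Prime]

/-- The squared difference of a pair. -/
noncomputable def sqd (z : Pair p) : ZMod p :=
  2⁻¹ * ∑ x ∈ (z : Finset (ZMod p)), ∑ y ∈ (z : Finset (ZMod p)), (x - y) ^ 2

/-- The coordinate of a pair in the multipliers. -/
noncomputable def dd (q : ℕ) (z : Pair p) : ZMod q := (2 : ZMod q)⁻¹ * lg q (sqd z)

/-- The eigenfunctions of the half affine group. -/
noncomputable def ef [NeZero q] (b : ZMod q) (z : Pair p) : ℂ := ZMod.stdAddChar (-(b * dd q z))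

/-- The projection to the constituent `ψ`. -/
noncomputable def proj {G : Subgroup (Perm (ZMod p))} (ψ : ↥G → ℂ) (f : Pair p → ℂ) (z : Pair p) : ℂ :=
  ψ 1 / (Nat.card G : ℂ) * ∑ g : G, (starRingEnd ℂ) (ψ g) * f (g⁻¹ • z)

namespace Ctx

variable {G : Subgroup (Perm (ZMod p))} (C : Ctx q G)

include C

theorem sqd_eq {z : Pair p} {a b : ZMod p} (hab : a ≠ b) (hz : (z : Finset (ZMod p)) = {a, b}) :
    sqd z = (a - b) ^ 2 := by
  rw [sqd, hz, Finset.sum_pair hab, Finset.sum_pair hab, Finset.sum_pair hab]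
  have := C.two_ne
  field_simp
  ring

theorem exists_coords (z : Pair p) :
    ∃ a b : ZMod p, a ≠ b ∧ (z : Finset (ZMod p)) = {a, b} := Finset.card_eq_two.1 z.2

theorem sqd_pow (z : Pair p) : sqd z ^ q = 1 := by
  obtain ⟨a, b, hab, hz⟩ := C.exists_coords z
  rw [C.sqd_eq hab hz, ← pow_mul, show 2 * q = p - 1 by have := C.hp; omega]
  exact ZMod.pow_card_sub_one_eq_one (sub_ne_zero.2 hab)

theorem two_ne_q : (2 : ZMod q) ≠ 0 := by
  have h : ((2 : ℕ) : ZMod q) ≠ 0 := by
    rw [Ne, ZMod.natCast_eq_zero_iff]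
    exact fun h => absurd (Nat.le_of_dvd (by norm_num) h) (by have := C.hq11; omega)
  simpa using h

theorem sqd_smul (n : C.nor) (z : Pair p) :
    sqd ((n : G) • z) = slope ((n : G) : Perm (ZMod p)) ^ 2 * sqd z := by
  obtain ⟨a, b, hab, hz⟩ := C.exists_coords z
  obtain ⟨hk, hn⟩ := C.nor_spec n
  have hne : ((n : G) : Perm (ZMod p)) a ≠ ((n : G) : Perm (ZMod p)) b :=
    ((n : G) : Perm (ZMod p)).injective.ne hab
  have hz' : (((n : G) • z : Pair p) : Finset (ZMod p)) =
      {((n : G) : Perm (ZMod p)) a, ((n : G) : Perm (ZMod p)) b} := by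
    rw [smul_pair, hz, Finset.image_insert, Finset.image_singleton]
  rw [C.sqd_eq hne hz', C.sqd_eq hab hz, hn a, hn b]
  ring

theorem dd_smul (n : C.nor) (z : Pair p) :
    dd q ((n : G) • z) = lg q (slope ((n : G) : Perm (ZMod p))) + dd q z := by
  obtain ⟨hk, -⟩ := C.nor_spec n
  have hk2 : (slope ((n : G) : Perm (ZMod p)) ^ 2) ^ q = 1 := by
    rw [← pow_mul, mul_comm, pow_mul, hk, one_pow]
  rw [dd, dd, C.sqd_smul, C.lg_mul hk2 (C.sqd_pow z), sq, C.lg_mul hk hk]
  have := C.two_ne_q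
  field_simp
  ring

theorem ef_smul (b : ZMod q) (n : C.nor) (z : Pair p) :
    ef b ((n : G) • z) = (starRingEnd ℂ) (C.linHom b n : ℂ) * ef b z := by
  rw [C.linHom_apply, conj_stdAddChar, ef, ef, C.dd_smul, ← AddChar.map_add_eq_mul]
  congr 1
  ring

theorem ef_unit (b : ZMod q) (z : Pair p) : ef b z * (starRingEnd ℂ) (ef b z) = 1 := by
  rw [ef, conj_stdAddChar, neg_neg, ← AddChar.map_add_eq_mul, neg_add_cancel,
    AddChar.map_zero_eq_one]

theorem proj_smul {ψ : G → ℂ} (hψ : IsClassFunction G ψ) (b : ZMod q) (n : C.nor) (z : Pair p) :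
    proj ψ (ef b) ((n : G) • z) = (starRingEnd ℂ) (C.linHom b n : ℂ) * proj ψ (ef b) z := by
  rw [proj, proj, ← mul_assoc, mul_comm _ (ψ 1 / (Nat.card G : ℂ)), mul_assoc]
  congr 1
  rw [Finset.mul_sum]
  refine Finset.sum_equiv (MulAut.conj ((n : G)⁻¹)).toEquiv (fun g => by simp) fun g _ => ?_
  simp only [MulEquiv.toEquiv_eq_coe, EquivLike.coe_coe, MulAut.conj_apply]
  rw [hψ g ((n : G)⁻¹), ← mul_assoc, mul_comm _ ((starRingEnd ℂ) (ψ g)), mul_assoc, ← C.ef_smul]
  congr 2
  rw [smul_smul, smul_smul]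
  congr 1
  group

theorem sum_conj_pairChar (ψ : IrrCharacter G) (n : G) :
    ∑ g : G, (starRingEnd ℂ) ((ψ : G → ℂ) g) * pairChar (g * n) =
      classInner pairChar (ψ : G → ℂ) * ((Nat.card G : ℂ) * (ψ : G → ℂ) n / (ψ : G → ℂ) 1) := by
  obtain ⟨m, hdec, hm, -⟩ := CfsgLib.Chars17.exists_decomp (isCharacter_pairChar (G := G))
  have h1 : ∀ g : G, (starRingEnd ℂ) ((ψ : G → ℂ) g) * pairChar (g * n) =
      ∑ φ : IrrCharacter G, (m φ : ℂ) * ((ψ : G → ℂ) g⁻¹ * (φ : G → ℂ) (n * g)) := by
    intro g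
    rw [congrFun hdec, Finset.sum_apply, Finset.mul_sum]
    refine Finset.sum_congr rfl fun φ _ => ?_
    rw [Pi.smul_apply, smul_eq_mul, classFunction_mul_comm (irr_isClassFunction φ) g n, irr_apply_inv]
    ring
  rw [Finset.sum_congr rfl fun g _ => h1 g, Finset.sum_comm]
  simp only [← Finset.mul_sum, CfsgLib.Chars17.sum_inv_mul_irr]
  rw [Finset.sum_eq_single ψ (fun φ _ hφ => by rw [if_neg (Ne.symm hφ), mul_zero])
    (fun h => absurd (Finset.mem_univ _) h), if_pos rfl, hm]

theorem corr_eq (b : ZMod q) (g : G) :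
    ∑ z : Pair p, ef b (g⁻¹ • z) * (starRingEnd ℂ) (ef b z) =
      ∑ n : C.nor, (starRingEnd ℂ) (C.linHom b n : ℂ) * pairChar (g * (n : G)) := by
  have h1 : ∀ n : C.nor, pairChar (g * (n : G)) =
      ∑ z : Pair p, if (n : G) • z = g⁻¹ • z then (1 : ℂ) else 0 := by
    intro n
    rw [pairChar, CfsgLib.PermChar.fixCount, Finset.sum_boole, Nat.card_eq_fintype_card,
      Fintype.card_subtype]
    congr 2
    refine Finset.filter_congr fun z _ => ?_
    rw [mul_smul]
    exact ⟨fun h => eq_inv_smul_iff.2 h, fun h => by rw [h, smul_inv_smul]⟩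
  simp only [h1, Finset.mul_sum]
  rw [Finset.sum_comm]
  refine Finset.sum_congr rfl fun z _ => ?_
  obtain ⟨n, hn, hu⟩ := C.nor_trans z (g⁻¹ • z)
  simp only at hn hu
  rw [Finset.sum_eq_single n (fun m _ hm => by rw [if_neg (fun h => hm (hu m h)), mul_zero])
    (fun h => absurd (Finset.mem_univ _) h), if_pos hn, mul_one, ← hn, C.ef_smul, mul_assoc,
    C.ef_unit, mul_one]

/-- The eigenfunctions are eigenfunctions of the projections. -/
theorem proj_ef (b' b : ZMod q) (z : Pair p) :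
    proj (C.own b' : G → ℂ) (ef b) z = C.aC (C.own b' : G → ℂ) b * ef b z := by
  set ψ := C.own b' with hψ
  have hcl := irr_isClassFunction ψ
  have hconst : ∀ w : Pair p, proj (ψ : G → ℂ) (ef b) w * (starRingEnd ℂ) (ef b w) =
      proj (ψ : G → ℂ) (ef b) z * (starRingEnd ℂ) (ef b z) := by
    intro w
    obtain ⟨n, hn, -⟩ := C.nor_trans z w
    rw [← hn, C.proj_smul hcl, C.ef_smul, map_mul, starRingEnd_self_apply]
    have hu : (C.linHom b n : ℂ) * (starRingEnd ℂ) (C.linHom b n : ℂ) = 1 := by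
      rw [C.linHom_apply, conj_stdAddChar, ← AddChar.map_add_eq_mul, add_neg_cancel,
        AddChar.map_zero_eq_one]
    linear_combination (proj (ψ : G → ℂ) (ef b) z * (starRingEnd ℂ) (ef b z)) * hu
  have hpq : ((p : ℂ) * q) ≠ 0 := mul_ne_zero (Nat.cast_ne_zero.2 (Fact.out : p.Prime).ne_zero)
    (Nat.cast_ne_zero.2 C.hq.ne_zero)
  have hG : (Nat.card G : ℂ) ≠ 0 := Nat.cast_ne_zero.2 Nat.card_pos.ne'
  have h1 : (ψ : G → ℂ) 1 ≠ 0 := by
    rw [← CfsgLib.Chars17.cast_irrDegree]
    exact Nat.cast_ne_zero.2 (CfsgLib.Chars17.irrDegree_pos ψ).ne'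
  have hsum : ∑ w : Pair p, proj (ψ : G → ℂ) (ef b) w * (starRingEnd ℂ) (ef b w) =
      (p : ℂ) * q * C.aC (ψ : G → ℂ) b := by
    simp only [proj, mul_assoc, Finset.sum_mul, ← Finset.mul_sum]
    rw [Finset.sum_comm]
    simp only [← Finset.mul_sum, C.corr_eq]
    simp only [Finset.mul_sum]
    rw [Finset.sum_comm, aC, classInner, C.card_nor, Nat.cast_mul, ← mul_assoc (p : ℂ),
      ← mul_assoc ((p : ℂ) * q), mul_inv_cancel₀ hpq, one_mul]
    refine Finset.sum_congr rfl fun n _ => ?_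
    have h := C.sum_conj_pairChar ψ (n : G)
    rw [hψ, C.own_mult, one_mul, ← hψ] at h
    calc ∑ g : G, (ψ : G → ℂ) 1 / (Nat.card G : ℂ) * ((starRingEnd ℂ) ((ψ : G → ℂ) g) *
        ((starRingEnd ℂ) (C.linHom b n : ℂ) * pairChar (g * (n : G))))
        = (ψ : G → ℂ) 1 / (Nat.card G : ℂ) * (starRingEnd ℂ) (C.linHom b n : ℂ) *
          ∑ g : G, (starRingEnd ℂ) ((ψ : G → ℂ) g) * pairChar (g * (n : G)) := by
          rw [Finset.mul_sum]; exact Finset.sum_congr rfl fun g _ => by ring
      _ = _ := by rw [h]; field_simp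
  rw [Finset.sum_congr rfl fun w _ => hconst w, Finset.sum_const, Finset.card_univ,
    ← Nat.card_eq_fintype_card, C.card_pairs, nsmul_eq_mul, Nat.cast_mul] at hsum
  rw [← mul_left_cancel₀ hpq hsum, mul_assoc, mul_comm ((starRingEnd ℂ) _), C.ef_unit, mul_one]

/-- Moved eigenfunctions of different classes are orthogonal. -/
theorem orth {b b' : ZMod q} (hne : C.own b' ≠ C.own b) (h : G) :
    ∑ z : Pair p, ef b (h • z) * (starRingEnd ℂ) (ef b' z) = 0 := by
  set ψ := C.own b with hψ
  have hE : ∀ w : Pair p, ef b w = proj (ψ : G → ℂ) (ef b) w := fun w => by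
    rw [hψ, C.proj_ef, C.own_self, one_mul]
  have hE' : ∀ w : Pair p, proj (ψ : G → ℂ) (ef b') w = 0 := fun w => by
    rw [hψ, C.proj_ef, C.aC_own, if_neg hne, zero_mul]
  have hc : (starRingEnd ℂ) ((ψ : G → ℂ) 1 / (Nat.card G : ℂ)) =
      (ψ : G → ℂ) 1 / (Nat.card G : ℂ) := by
    rw [map_div₀, CfsgLib.Chars17.conj_irr_one, map_natCast]
  calc ∑ z : Pair p, ef b (h • z) * (starRingEnd ℂ) (ef b' z)
      = ∑ z : Pair p, ∑ g : G, (ψ : G → ℂ) 1 / (Nat.card G : ℂ) * (starRingEnd ℂ) ((ψ : G → ℂ) g) *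
          ef b (g⁻¹ • h • z) * (starRingEnd ℂ) (ef b' z) := by
        refine Finset.sum_congr rfl fun z _ => ?_
        rw [hE, proj, Finset.mul_sum, Finset.sum_mul]
        exact Finset.sum_congr rfl fun g _ => by ring
    _ = ∑ g : G, ∑ u : Pair p, (ψ : G → ℂ) 1 / (Nat.card G : ℂ) *
          (starRingEnd ℂ) ((ψ : G → ℂ) g) * ef b (h • u) * (starRingEnd ℂ) (ef b' (g • u)) := by
        rw [Finset.sum_comm]
        refine Finset.sum_equiv (MulAut.conj h⁻¹).toEquiv (fun g => by simp) fun g _ => ?_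
        simp only [MulEquiv.toEquiv_eq_coe, MulEquiv.coe_toEquiv, EquivLike.coe_coe,
          MulAut.conj_apply]
        rw [irr_isClassFunction ψ g h⁻¹]
        refine (Fintype.sum_equiv (MulAction.toPerm (h⁻¹ * g * h⁻¹⁻¹)) _ _ fun u => ?_).symm
        rw [MulAction.toPerm_apply]
        congr 2
        congr 1
        rw [smul_smul, smul_smul]
        congr 1
        group
    _ = ∑ u : Pair p, ef b (h • u) * (starRingEnd ℂ) (proj (ψ : G → ℂ) (ef b') u) := by
        rw [Finset.sum_comm]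
        refine Finset.sum_congr rfl fun u _ => ?_
        rw [proj, map_mul, map_sum, hc, Finset.mul_sum, Finset.mul_sum]
        refine Finset.sum_equiv (Equiv.inv G) (fun g => by simp) fun g _ => ?_
        rw [Equiv.inv_apply, map_mul, starRingEnd_self_apply, irr_apply_inv, inv_inv]
        ring
    _ = 0 := by simp only [hE', map_zero, mul_zero, Finset.sum_const_zero]

omit C in
theorem stdAddChar_pow (x : ZMod q) :
    (ZMod.stdAddChar x : ℂ) = (ZMod.stdAddChar (1 : ZMod q) : ℂ) ^ x.val := by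
  rw [← AddChar.map_nsmul_eq_pow, nsmul_one, ZMod.natCast_zmod_val]

/-- A vanishing sum of characters gives a vanishing sum of powers of any root of order `q`. -/
theorem eval_zero {ι : Type*} [Fintype ι] (e : ι → ZMod q)
    (h : ∑ i, ZMod.stdAddChar (e i) = 0) {w : ZMod p} (hw : w ^ q = 1) (hw1 : w ≠ 1) :
    ∑ i, w ^ (e i).val = 0 := by
  set ζ : ℂ := ZMod.stdAddChar (1 : ZMod q) with hζ
  have hprim : IsPrimitiveRoot ζ q := by
    rw [IsPrimitiveRoot.iff_orderOf]
    refine orderOf_eq_prime ?_ ?_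
    · rw [hζ, ← AddChar.map_nsmul_eq_pow, nsmul_one, ZMod.natCast_self, AddChar.map_zero_eq_one]
    · intro h1
      have h2 : ZMod.stdAddChar (1 : ZMod q) = ZMod.stdAddChar (0 : ZMod q) := by
        rw [← hζ, h1, AddChar.map_zero_eq_one]
      exact one_ne_zero (ZMod.injective_stdAddChar h2)
  set A : Polynomial ℤ := ∑ i, Polynomial.X ^ (e i).val with hA
  have haeval : Polynomial.aeval ζ A = 0 := by
    simp only [hA, map_sum, map_pow, Polynomial.aeval_X, hζ, ← stdAddChar_pow]
    exact h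
  have hdvd : Polynomial.cyclotomic q ℤ ∣ A := by
    rw [Polynomial.cyclotomic_eq_minpoly hprim C.hq.pos]
    exact minpoly.isIntegrallyClosed_dvd (hprim.isIntegral C.hq.pos) haeval
  obtain ⟨B, hB⟩ := hdvd
  have h2 := congrArg (Polynomial.eval₂ (Int.castRingHom (ZMod p)) w) hB
  rw [Polynomial.eval₂_mul, Polynomial.cyclotomic_prime ℤ q, hA, Polynomial.eval₂_finsetSum,
    Polynomial.eval₂_finsetSum] at h2
  simp only [Polynomial.eval₂_pow, Polynomial.eval₂_X] at h2
  rw [h2]
  have hg : (∑ i ∈ Finset.range q, w ^ i) = 0 := by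
    have := geom_sum_mul w q
    rw [hw, sub_self] at this
    exact (mul_eq_zero.1 this).resolve_right (sub_ne_zero.2 hw1)
  rw [hg, zero_mul]

theorem sum_over_pairs (T : ZMod p → ZMod p → ZMod p) (hT : ∀ x, T x x = 0) :
    ∑ z : Pair p, ∑ x ∈ (z : Finset (ZMod p)), ∑ y ∈ (z : Finset (ZMod p)), T x y =
      ∑ x, ∑ y, T x y := by
  have h1 : ∀ z : Pair p, ∑ x ∈ (z : Finset (ZMod p)), ∑ y ∈ (z : Finset (ZMod p)), T x y =
      ∑ x, ∑ y, if x ∈ (z : Finset (ZMod p)) ∧ y ∈ (z : Finset (ZMod p)) then T x y else 0 := by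
    intro z
    simp only [ite_and]
    rw [← Finset.sum_filter_add_sum_filter_not Finset.univ (fun x => x ∈ (z : Finset (ZMod p)))]
    rw [Finset.filter_mem_eq_inter, Finset.univ_inter]
    have h0 : ∑ x ∈ Finset.univ.filter (fun x => x ∉ (z : Finset (ZMod p))),
        ∑ y, (if x ∈ (z : Finset (ZMod p)) then if y ∈ (z : Finset (ZMod p)) then T x y else 0
          else 0) = 0 := Finset.sum_eq_zero fun x hx => by
      simp only [Finset.mem_filter] at hx
      simp [hx.2]
    rw [h0, add_zero]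
    refine Finset.sum_congr rfl fun x hx => ?_
    simp only [hx, if_true]
    rw [← Finset.sum_filter, Finset.filter_mem_eq_inter, Finset.univ_inter]
  simp only [h1]
  rw [Finset.sum_comm]
  refine Finset.sum_congr rfl fun x _ => ?_
  rw [Finset.sum_comm]
  refine Finset.sum_congr rfl fun y _ => ?_
  rcases eq_or_ne x y with rfl | hxy
  · simp [hT]
  · rw [Finset.sum_eq_single (⟨{x, y}, Finset.card_pair hxy⟩ : Pair p)]
    · simp
    · intro z _ hz
      refine if_neg fun ⟨hx, hy⟩ => hz (Subtype.ext ?_)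
      refine (Finset.eq_of_subset_of_card_le ?_ ?_).symm
      · intro t ht
        rcases Finset.mem_insert.1 ht with rfl | ht
        · exact hx
        · rw [Finset.mem_singleton.1 ht]; exact hy
      · rw [Finset.card_pair hxy]; exact le_of_eq z.2
    · exact fun h => absurd (Finset.mem_univ _) h

/-- **The moment forms.** -/
theorem forms {g : Perm (ZMod p)} (hg : g ∈ G) {k : ℕ} (hk0 : 0 < k) (hk : k < q)
    (hne : C.own (-(k : ZMod q)) ≠ C.own 1) : bForm (fun x => g x) k = 0 := by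
  set h : G := ⟨g, hg⟩ with hh
  have h2q := C.two_ne_q
  have h0 := congrArg (starRingEnd ℂ) (C.orth hne h)
  rw [map_sum, map_zero] at h0
  have h1 : ∑ z : Pair p, ZMod.stdAddChar (dd q (h • z) + (k : ZMod q) * dd q z) = 0 := by
    rw [← h0]
    refine Finset.sum_congr rfl fun z _ => ?_
    rw [ef, ef, map_mul, conj_stdAddChar, conj_stdAddChar, conj_stdAddChar,
      ← AddChar.map_add_eq_mul]
    congr 1
    ring
  have hw : ((4 : ZMod p) ^ 2) ^ q = 1 := by rw [← pow_mul, mul_comm, pow_mul, C.four_pow_q, one_pow]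
  have hw1 : (4 : ZMod p) ^ 2 ≠ 1 := fun h' => C.two_ne_q (by
    have := C.four_pow_inj (h'.trans (pow_zero (4 : ZMod p)).symm)
    simpa using this)
  have h3 := C.eval_zero _ h1 hw hw1
  have h4 : ∀ z : Pair p, ((4 : ZMod p) ^ 2) ^ (dd q (h • z) + (k : ZMod q) * dd q z).val =
      sqd (h • z) * sqd z ^ k := by
    intro z
    obtain ⟨i, hi⟩ := C.exists_pow (C.sqd_pow (h • z))
    obtain ⟨j, hj⟩ := C.exists_pow (C.sqd_pow z)
    rw [hi, hj, ← pow_mul, ← pow_mul, ← pow_add]
    refine C.four_pow_eq ?_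
    rw [Nat.cast_mul, ZMod.natCast_zmod_val, dd, dd, hi, hj, C.lg_pow, C.lg_pow]
    push_cast
    field_simp
  simp only [h4] at h3
  -- back to ordered pairs
  set T : ZMod p → ZMod p → ZMod p := fun x y => (g x - g y) ^ 2 * (x - y) ^ (2 * k) with hT
  have h5 : ∀ z : Pair p, ∑ x ∈ (z : Finset (ZMod p)), ∑ y ∈ (z : Finset (ZMod p)), T x y =
      2 * (sqd (h • z) * sqd z ^ k) := by
    intro z
    obtain ⟨a, b, hab, hz⟩ := C.exists_coords z
    have hz' : ((h • z : Pair p) : Finset (ZMod p)) = {g a, g b} := by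
      rw [smul_pair, hz, Finset.image_insert, Finset.image_singleton]
    rw [C.sqd_eq (g.injective.ne hab) hz', C.sqd_eq hab hz, hz, Finset.sum_pair hab,
      Finset.sum_pair hab, Finset.sum_pair hab, ← pow_mul]
    simp only [hT, sub_self, zero_pow two_ne_zero, zero_mul, zero_add, add_zero]
    rw [show (b - a) ^ (2 * k) = (a - b) ^ (2 * k) by rw [pow_mul, pow_mul]; ring,
      show (g b - g a) ^ 2 = (g a - g b) ^ 2 by ring]
    ring
  have h6 := C.sum_over_pairs T fun x => by simp [hT]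
  simp only [h5, ← Finset.mul_sum, h3, mul_zero] at h6
  have hpow : ∀ x : ZMod p, ∑ y : ZMod p, (x - y) ^ (2 * k) = 0 := by
    intro x
    refine (Equiv.sum_comp (Equiv.subLeft x) (fun y : ZMod p => y ^ (2 * k))).trans ?_
    rw [sum_pow_eq C.hp (by omega), if_neg]
    intro hd
    have := Nat.le_of_dvd (by omega) hd
    omega
  have h7 : ∑ x, ∑ y, T x y = -2 * bForm (fun x => g x) k := by
    have e : ∀ x y : ZMod p, T x y = g x ^ 2 * (x - y) ^ (2 * k) + g y ^ 2 * (x - y) ^ (2 * k) +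
        (-2) * (g x * g y * (x - y) ^ (2 * k)) := fun x y => by simp only [hT]; ring
    simp only [e, Finset.sum_add_distrib, ← Finset.mul_sum, hpow, mul_zero, Finset.sum_const_zero,
      zero_add]
    rw [show ∑ x : ZMod p, ∑ y : ZMod p, g y ^ 2 * (x - y) ^ (2 * k) = 0 from ?_, zero_add]
    · rfl
    · rw [Finset.sum_comm]
      refine Finset.sum_eq_zero fun y _ => ?_
      rw [← Finset.mul_sum]
      have : ∑ x : ZMod p, (x - y) ^ (2 * k) = 0 := by
        rw [← hpow y]
        exact Finset.sum_congr rfl fun x _ => by rw [pow_mul, pow_mul]; ring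
      rw [this, mul_zero]
  rw [h7] at h6
  exact (mul_eq_zero.1 h6.symm).resolve_left (neg_ne_zero.2 C.two_ne)

/-- `-1` fixes every class. -/
theorem neg_one_mem_cls : (-1 : (ZMod q)ˣ) ∈ C.cls := by
  rw [C.mem_cls, Units.val_neg, Units.val_one]
  by_contra hne
  have hM : ∀ g ∈ G, ∑ x : ZMod p, x * g x = 0 := by
    intro g hg
    have h := C.forms hg (k := 1) one_pos C.hq.one_lt (by simpa using hne)
    have hid : ∑ x : ZMod p, x = 0 := by
      have := sum_pow_eq C.hp (n := 1) one_pos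
      simp only [pow_one] at this
      rw [this, if_neg]
      intro hd
      have := Nat.le_of_dvd one_pos hd
      have := C.hq.two_le; omega
    have hgs : ∑ x : ZMod p, g x = 0 := by rw [Equiv.sum_comp g (fun x => x)]; exact hid
    have e : bForm (fun x => g x) 1 = -2 * (∑ x : ZMod p, x * g x) ^ 2 := by
      have e1 : ∀ x y : ZMod p, g x * g y * (x - y) ^ (2 * 1) =
          (x ^ 2 * g x) * g y + g x * (y ^ 2 * g y) + (-2) * ((x * g x) * (y * g y)) := fun x y => by
        ring
      simp only [bForm, e1, Finset.sum_add_distrib, ← Finset.mul_sum, ← Finset.sum_mul, hgs]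
      ring
    rw [e, mul_eq_zero, sq_eq_zero_iff] at h
    exact h.resolve_left (neg_ne_zero.2 C.two_ne)
  have := C.trans
  let W : Subrepresentation (Cfsg.permRep (ZMod p) G (ZMod p)) :=
    { toSubmodule :=
        { carrier := {f | (∑ x, f x = 0) ∧ ∀ g ∈ G, ∑ x : ZMod p, x * f (g x) = 0}
          add_mem' := fun {f f'} hf hf' => ⟨by
              simp only [Pi.add_apply, Finset.sum_add_distrib, hf.1, hf'.1, add_zero],
            fun g hg => by
              simp only [Pi.add_apply, mul_add, Finset.sum_add_distrib, hf.2 g hg, hf'.2 g hg,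
                add_zero]⟩
          zero_mem' := ⟨by simp, fun g _ => by simp⟩
          smul_mem' := fun c f hf => ⟨by
              simp only [Pi.smul_apply, smul_eq_mul, ← Finset.mul_sum, hf.1, mul_zero],
            fun g hg => by
              simp only [Pi.smul_apply, smul_eq_mul, mul_left_comm _ c, ← Finset.mul_sum, hf.2 g hg,
                mul_zero]⟩ }
      apply_mem_toSubmodule := fun g f hf => ⟨by
          show ∑ x, f (g⁻¹ • x) = 0
          exact (Fintype.sum_equiv (MulAction.toPerm g⁻¹) (fun x => f (g⁻¹ • x)) f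
            fun x => rfl).trans hf.1,
        fun u hu => hf.2 (((g⁻¹ : G) : Perm (ZMod p)) * u) (G.mul_mem (g⁻¹ : G).2 hu)⟩ }
  have hid : (fun x : ZMod p => x) ∈ W.toSubmodule := by
    refine ⟨?_, hM⟩
    have := sum_pow_eq C.hp (n := 1) one_pos
    simp only [pow_one] at this
    rw [this, if_neg]
    intro hd
    have := Nat.le_of_dvd one_pos hd
    have := C.hq.two_le; omega
  rcases CfsgLib.PermGroup.heart_irreducible (ZMod p) (ZMod.card p) G C.insol W
      (by
        intro f hf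
        obtain ⟨c, rfl⟩ := Submodule.mem_span_singleton.1 hf
        refine ⟨by simp, fun g _ => ?_⟩
        simp only [Pi.smul_apply, smul_eq_mul, mul_one, ← Finset.sum_mul]
        rw [hid.1, zero_mul])
      (fun f hf => hf.1) with hW | hW
  · rw [hW] at hid
    obtain ⟨c, hc⟩ := Submodule.mem_span_singleton.1 hid
    have h0 := congrFun hc 0
    have h1 := congrFun hc 1
    simp only [Pi.smul_apply, smul_eq_mul, mul_one] at h0 h1
    exact zero_ne_one (h0.symm.trans h1)
  · have hf : (fun x : ZMod p => x⁻¹) ∈ W.toSubmodule := by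
      rw [hW]
      show ∑ x : ZMod p, x⁻¹ = 0
      rw [Fintype.sum_equiv (Equiv.inv (ZMod p)) (fun x : ZMod p => x⁻¹) (fun x => x) fun x => rfl]
      exact hid.1
    have h := hf.2 1 G.one_mem
    simp only [Perm.one_apply] at h
    rw [← Finset.add_sum_erase _ _ (Finset.mem_univ (0 : ZMod p)), zero_mul, zero_add,
      Finset.sum_congr rfl fun x hx => mul_inv_cancel₀ (Finset.ne_of_mem_erase hx),
      Finset.sum_const, Finset.card_erase_of_mem (Finset.mem_univ _), Finset.card_univ, ZMod.card,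
      nsmul_one, Nat.cast_sub (Fact.out : p.Prime).one_le, ZMod.natCast_self, Nat.cast_one,
      zero_sub, neg_eq_zero] at h
    exact one_ne_zero h

/-- **A single class.** -/
theorem cls_eq_top : C.cls = ⊤ := by
  by_contra hne
  have hcm := C.cls_eq_mult hne
  refine C.no_proper_mult (hcm ▸ C.neg_one_mem_cls) (hcm ▸ hne) fun g hg k hk hk0 hkm =>
    C.forms hg hk0 hk ?_
  intro hown
  have hk' : (k : ZMod q) ≠ 0 := fun h => by
    rw [ZMod.natCast_eq_zero_iff] at h
    have := Nat.le_of_dvd hk0 h; omega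
  refine hkm ?_
  rw [← hcm, C.inMult_cls]
  have hu : -Units.mk0 _ hk' ∈ C.cls := by
    rw [C.mem_cls, Units.val_neg, Units.val_mk0]; exact hown
  have h2 := C.cls.mul_mem C.neg_one_mem_cls hu
  rw [neg_one_mul, neg_neg, C.mem_cls, Units.val_mk0] at h2
  exact h2

theorem own_eq_one {b : ZMod q} (hb : b ≠ 0) : C.own b = C.own 1 := by
  have h : Units.mk0 b hb ∈ C.cls := by rw [C.cls_eq_top]; trivial
  exact h

/-- The single constituent: its values on the translations and its degree. -/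
theorem exists_single : ∃ e : ℤ, (e = 0 ∨ e = 1 ∨ e = -1) ∧
    (∀ v : ZMod p, v ≠ 0 → (C.own 1 : G → ℂ) (C.el (0, v) : G) = e) ∧
    (C.own 1 : G → ℂ) 1 = 2 * (q : ℂ) * (q - 1 - e) + (q - 1) := by
  obtain ⟨e, hval, hdeg⟩ := C.exists_e
  refine ⟨e, C.e_bound hval hdeg, hval, ?_⟩
  have hc : (Nat.card C.cls : ℂ) = (q : ℂ) - 1 := by
    rw [C.cls_eq_top, Subgroup.card_top, Nat.card_eq_fintype_card, ZMod.card_units,
      Nat.cast_sub C.hq.one_le, Nat.cast_one]
  have hp : (p : ℂ) = 2 * q + 1 := by exact_mod_cast C.hp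
  rw [hc, hp] at hdeg
  linear_combination hdeg

end Ctx

end CfsgLib.PrimeFour
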