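import Cfsg.Agent.Lib.PrimeFour.Pairs
import Cfsg.Agent.Lib.Characters.PermTwo

/-!
# The constituent owning each linear character, and its Galois twists
-/

set_option autoImplicit false
set_option linter.unusedSectionVars false

open MulAction Subgroup Equiv
open Cfsg CfsgLib.Characters
open scoped Classical Pointwise

namespace CfsgLib.PrimeFour

variable {p q : ℕ} [Fact p.Prime] [Fact q.Prime]

namespace Ctx

variable {G : Subgroup (Perm (ZMod p))} (C : Ctx q G)

include C

/-- There is exactly one constituent of the pair character containing a given linear character. -/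
theorem exists_owner (b : ZMod q) : ∃ ψ : IrrCharacter G, classInner pairChar (ψ : G → ℂ) = 1 ∧
    C.aC (ψ : G → ℂ) b = 1 ∧
    ∀ φ : IrrCharacter G, classInner pairChar (φ : G → ℂ) ≠ 0 → φ ≠ ψ →
      C.aC (φ : G → ℂ) b = 0 := by
  obtain ⟨m, hdec, hm, -⟩ := CfsgLib.Chars17.exists_decomp (isCharacter_pairChar (G := G))
  choose a ha using fun ψ : IrrCharacter G => C.aC_nat (irr_isCharacter ψ) b
  have hsum : ∑ ψ : IrrCharacter G, m ψ * a ψ = 1 := by
    have h := C.aC_pairChar b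
    rw [aC, show (fun n : C.nor => pairChar (n : G)) =
      ∑ ψ : IrrCharacter G, (m ψ : ℂ) • (fun n : C.nor => (ψ : G → ℂ) (n : G)) from
        funext fun n => by rw [congrFun hdec (n : G)]; simp [Finset.sum_apply],
      classInner_sum_left, Finset.sum_congr rfl fun ψ _ => by rw [classInner_smul_left]] at h
    have h' : ∑ ψ : IrrCharacter G, (m ψ : ℂ) * C.aC (ψ : G → ℂ) b = 1 := h
    simp only [ha] at h'
    exact_mod_cast h'
  obtain ⟨ψ, -, hψ⟩ := Finset.exists_ne_zero_of_sum_ne_zero (by rw [hsum]; exact one_ne_zero)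
  have hle : m ψ * a ψ ≤ 1 := by
    rw [← hsum]
    exact Finset.single_le_sum (f := fun χ => m χ * a χ) (fun χ _ => Nat.zero_le _)
      (Finset.mem_univ ψ)
  have h1 : m ψ * a ψ = 1 := by omega
  obtain ⟨hm1, ha1⟩ := mul_eq_one.1 h1
  refine ⟨ψ, by rw [hm, hm1, Nat.cast_one], by rw [ha, ha1, Nat.cast_one], fun φ hφ hne => ?_⟩
  have hz : m φ * a φ = 0 := by
    have h2 := Finset.add_sum_erase Finset.univ (fun χ => m χ * a χ) (Finset.mem_univ ψ)
    simp only [hsum, h1] at h2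
    have h3 : ∑ χ ∈ Finset.univ.erase ψ, m χ * a χ = 0 := by omega
    exact Finset.sum_eq_zero_iff.1 h3 φ (Finset.mem_erase.2 ⟨hne, Finset.mem_univ _⟩)
  rw [hm, Nat.cast_ne_zero] at hφ
  rw [ha, (mul_eq_zero.1 hz).resolve_left hφ, Nat.cast_zero]

/-- The constituent owning the `b`th linear character. -/
noncomputable def own (b : ZMod q) : IrrCharacter G := Classical.choose (C.exists_owner b)

theorem own_mult (b : ZMod q) : classInner pairChar (C.own b : G → ℂ) = 1 :=
  (Classical.choose_spec (C.exists_owner b)).1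

theorem own_self (b : ZMod q) : C.aC (C.own b : G → ℂ) b = 1 :=
  (Classical.choose_spec (C.exists_owner b)).2.1

theorem own_unique {b : ZMod q} {φ : IrrCharacter G} (hφ : classInner pairChar (φ : G → ℂ) ≠ 0)
    (h : C.aC (φ : G → ℂ) b ≠ 0) : φ = C.own b :=
  Classical.not_not.1 fun hne => h ((Classical.choose_spec (C.exists_owner b)).2.2 φ hφ hne)

theorem aC_own (b b' : ZMod q) :
    C.aC (C.own b' : G → ℂ) b = if C.own b = C.own b' then 1 else 0 := by
  split_ifs with h
  · rw [← h, C.own_self]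
  · by_contra hne
    exact h (C.own_unique (by rw [C.own_mult]; exact one_ne_zero) hne).symm

theorem pairChar_inner_one : classInner pairChar (principalIrr G : G → ℂ) = 1 := by
  have hq : Nat.card (Quotient (orbitRel G (Pair p))) = 1 := by
    have : Nonempty (Pair p) := Finite.card_pos_iff.1 (by
      rw [C.card_pairs]; exact Nat.mul_pos (Fact.out : p.Prime).pos C.hq.pos)
    rw [Nat.card_eq_one_iff_unique]
    refine ⟨⟨fun x y => ?_⟩, ?_⟩
    · induction x using Quotient.inductionOn' with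
      | h a =>
        induction y using Quotient.inductionOn' with
        | h b => exact Quotient.sound' (C.two_transitive_of_pairs (z := b) (w := a))
    · exact ⟨Quotient.mk'' (Classical.arbitrary (Pair p))⟩
  rw [classInner]
  have h := CfsgLib.PermTwo.sum_fixedBy (G := G) (Pair p)
  rw [hq, Nat.cast_one, one_mul] at h
  rw [Finset.sum_congr rfl fun g _ => show pairChar g * (starRingEnd ℂ) ((principalIrr G : G → ℂ) g) =
      (Nat.card (fixedBy (Pair p) g) : ℂ) by rw [principalIrr_apply, map_one, mul_one]; rfl,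
    h, inv_mul_cancel₀]
  exact Nat.cast_ne_zero.2 Nat.card_pos.ne'

theorem own_zero : C.own 0 = principalIrr G := by
  refine (C.own_unique (by rw [C.pairChar_inner_one]; exact one_ne_zero) ?_).symm
  rw [show ((principalIrr G : IrrCharacter G) : G → ℂ) = fun _ => 1 from funext principalIrr_apply,
    C.aC_one, if_pos rfl]
  exact one_ne_zero

theorem own_one_ne {b : ZMod q} (hb : b ≠ 0) : C.own b ≠ principalIrr G := fun h => by
  have h1 := C.own_self b
  rw [h, show ((principalIrr G : IrrCharacter G) : G → ℂ) = fun _ => 1 from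
    funext principalIrr_apply, C.aC_one, if_neg hb] at h1
  exact zero_ne_one h1

theorem not_sq_dvd_q : ¬ q * q ∣ Nat.card G := fun h => by
  obtain ⟨m, Q, -, -, -, hQ, -⟩ := C.exists_sylow_q
  have h1 := Q.pow_dvd_card_of_pow_dvd_card (n := 2) (by rw [sq]; exact h)
  rw [hQ] at h1
  have := Nat.le_of_dvd C.hq.pos h1
  nlinarith [C.hq.two_le]

theorem dvd_card : p ∣ Nat.card G ∧ q ∣ Nat.card G := by
  have := C.trans
  refine ⟨CfsgLib.PermGroup.prime_dvd_card (ZMod.card p) G, ?_⟩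
  obtain ⟨m, Q, -, -, -, hQ, -⟩ := C.exists_sylow_q
  exact hQ ▸ Subgroup.card_subgroup_dvd_card (Q : Subgroup G)

omit C in
theorem exists_coprime_of_exact {N r l : ℕ} (hr : r.Prime) (hdvd : r ∣ N) (hN : N ≠ 0)
    (hsq : ¬ r * r ∣ N) (hl : l.Prime) (hlr : l ≠ r) (hlN : l ∣ N) {s : ZMod r} (hs : s ≠ 0) :
    ∃ n : ℕ, n.Coprime N ∧ (n : ZMod r) = s ∧ (n : ZMod l) = 1 := by
  have : NeZero r := ⟨hr.ne_zero⟩
  obtain ⟨M, rfl⟩ := hdvd
  have hrM : r.Coprime M := hr.coprime_iff_not_dvd.2 fun h => hsq (Nat.mul_dvd_mul_left r h)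
  obtain ⟨n, hn1, hn2⟩ := Nat.chineseRemainder hrM s.val 1
  have hns : (n : ZMod r) = s := by
    rw [(ZMod.natCast_eq_natCast_iff _ _ _).2 hn1, ZMod.natCast_zmod_val]
  refine ⟨n, Nat.Coprime.mul_right ?_ ?_, hns, ?_⟩
  · rw [Nat.coprime_comm, hr.coprime_iff_not_dvd]
    exact fun h => hs (hns ▸ (ZMod.natCast_eq_zero_iff n r).2 h)
  · exact (Nat.ModEq.gcd_eq hn2).trans (Nat.gcd_one_left _)
  · have hlM : l ∣ M := ((hl.dvd_mul).1 hlN).resolve_left fun h =>
      hlr ((Nat.prime_dvd_prime_iff_eq hl hr).1 h)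
    rw [(ZMod.natCast_eq_natCast_iff _ _ _).2 (Nat.ModEq.of_dvd hlM hn2), Nat.cast_one]

theorem p_ne_q : p ≠ q := by have := C.hp; have := C.hq.pos; omega

theorem exists_coprime_q {s : ZMod q} (hs : s ≠ 0) :
    ∃ n : ℕ, n.Coprime (Nat.card G) ∧ (n : ZMod q) = s ∧ (n : ZMod p) = 1 :=
  exists_coprime_of_exact C.hq C.dvd_card.2 Nat.card_pos.ne' C.not_sq_dvd_q (Fact.out : p.Prime)
    C.p_ne_q C.dvd_card.1 hs

theorem exists_coprime_p {t : ZMod p} (ht : t ≠ 0) :
    ∃ n : ℕ, n.Coprime (Nat.card G) ∧ (n : ZMod p) = t ∧ (n : ZMod q) = 1 :=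
  exists_coprime_of_exact (Fact.out : p.Prime) C.dvd_card.1 Nat.card_pos.ne'
    (CfsgLib.PermGroup.sq_not_dvd_card (ZMod.card p) G) C.hq C.p_ne_q.symm C.dvd_card.2 ht

theorem natCast_ne_zero {n : ℕ} (hn : n.Coprime (Nat.card G)) :
    (n : ZMod q) ≠ 0 ∧ (n : ZMod p) ≠ 0 := by
  constructor <;> intro h <;> rw [ZMod.natCast_eq_zero_iff] at h
  · exact C.hq.one_lt.ne' (Nat.eq_one_of_dvd_coprimes hn h C.dvd_card.2)
  · exact (Fact.out : p.Prime).one_lt.ne' (Nat.eq_one_of_dvd_coprimes hn h C.dvd_card.1)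

theorem el_pow_trans (v : ZMod p) (n : ℕ) :
    (C.el (0, v) : G) ^ n = (C.el (0, (n : ZMod p) * v) : G) := by
  induction n with
  | zero => rw [pow_zero, Nat.cast_zero, zero_mul, C.el_zero_zero]
  | succ n ih =>
    rw [pow_succ', ih]
    refine Subtype.ext (Equiv.ext fun x => ?_)
    rw [Subgroup.coe_mul, Perm.mul_apply, C.el_apply, C.el_apply, C.el_apply, ZMod.val_zero,
      pow_zero]
    push_cast; ring

theorem el_pow_dil (i : ZMod q) (n : ℕ) :
    (C.el (i, 0) : G) ^ n = (C.el ((n : ZMod q) * i, 0) : G) := by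
  induction n with
  | zero => rw [pow_zero, Nat.cast_zero, zero_mul, C.el_zero_zero]
  | succ n ih =>
    rw [pow_succ', ih]
    refine Subtype.ext (Equiv.ext fun x => ?_)
    rw [Subgroup.coe_mul, Perm.mul_apply, C.el_apply, C.el_apply, C.el_apply, add_zero, add_zero,
      add_zero, ← mul_assoc, ← pow_add]
    congr 1
    refine C.four_pow_eq ?_
    rw [Nat.cast_add, ZMod.natCast_zmod_val, ZMod.natCast_zmod_val, ZMod.natCast_zmod_val]
    push_cast; ring

/-- Twisting shifts the linear characters. -/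
theorem aC_twist {ψ φ : G → ℂ} (hψ : IsClassFunction G ψ) (hφ : IsClassFunction G φ) {n : ℕ}
    (hn : n.Coprime (Nat.card G)) (h : ∀ g, φ g = ψ (g ^ n)) (b : ZMod q) :
    C.aC φ ((n : ZMod q) * b) = C.aC ψ b := by
  obtain ⟨hnq, hnp⟩ := C.natCast_ne_zero hn
  refine mul_left_cancel₀ (mul_ne_zero (Nat.cast_ne_zero.2 (Fact.out : p.Prime).ne_zero)
    (Nat.cast_ne_zero.2 C.hq.ne_zero) : (p : ℂ) * q ≠ 0) ?_
  rw [C.aC_formula hφ, C.aC_formula hψ]
  congr 1
  · simp only [h, C.el_pow_trans]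
    exact Equiv.sum_comp (Equiv.mulLeft₀ (n : ZMod p) hnp) fun v => ψ (C.el (0, v) : G)
  · congr 1
    refine Finset.sum_equiv (Equiv.mulLeft₀ (n : ZMod q) hnq) (fun i => by simp [hnq]) fun i _ => ?_
    rw [h, C.el_pow_dil, Equiv.mulLeft₀_apply]
    congr 2
    ring

theorem exists_twist {n : ℕ} (hn : n.Coprime (Nat.card G)) (ψ : IrrCharacter G) :
    ∃ φ : IrrCharacter G, (∀ g, (φ : G → ℂ) g = (ψ : G → ℂ) (g ^ n)) ∧
      classInner pairChar (φ : G → ℂ) = classInner pairChar (ψ : G → ℂ) := by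
  refine ⟨⟨_, CfsgLib.CharGalois.isIrrCharacter_pow ψ.2 hn⟩, fun g => rfl, ?_⟩
  have hfix : ∀ g : G, pairChar (g ^ n) = pairChar g := by
    intro g
    unfold pairChar CfsgLib.PermChar.fixCount
    congr 1
    refine Nat.card_congr (Equiv.subtypeEquivRight fun z => ⟨fun h => ?_, fun h => ?_⟩)
    · obtain ⟨k, hk⟩ := exists_pow_eq_self_of_coprime (x := g) (n := n)
        (hn.coprime_dvd_right (orderOf_dvd_natCard g))
      rw [← hk]
      exact MulAction.mem_stabilizer_iff.1 (Subgroup.pow_mem _ (MulAction.mem_stabilizer_iff.2 h) k)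
    · exact MulAction.mem_stabilizer_iff.1 (Subgroup.pow_mem _ (MulAction.mem_stabilizer_iff.2 h) n)
  rw [classInner, classInner]
  congr 1
  exact Finset.sum_equiv (powCoprime hn.symm) (fun g => by simp) fun g _ => by
    simp [powCoprime, hfix]

theorem own_twist {n : ℕ} (hn : n.Coprime (Nat.card G)) (b : ZMod q) :
    ∀ g, (C.own ((n : ZMod q) * b) : G → ℂ) g = (C.own b : G → ℂ) (g ^ n) := by
  obtain ⟨φ, hφ, hm⟩ := C.exists_twist hn (C.own b)
  have h1 : C.aC (φ : G → ℂ) ((n : ZMod q) * b) = 1 := by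
    rw [C.aC_twist (irr_isClassFunction (C.own b)) (irr_isClassFunction φ) hn hφ, C.own_self]
  have heq : φ = C.own ((n : ZMod q) * b) :=
    C.own_unique (by rw [hm, C.own_mult]; exact one_ne_zero) (by rw [h1]; exact one_ne_zero)
  exact fun g => heq ▸ hφ g

theorem own_mul {b b' : ZMod q} (h : C.own b = C.own b') {s : ZMod q} (hs : s ≠ 0) :
    C.own (s * b) = C.own (s * b') := by
  obtain ⟨n, hn, hns, -⟩ := C.exists_coprime_q hs
  refine Subtype.ext (funext fun g => ?_)
  rw [← hns, C.own_twist hn, C.own_twist hn, h]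

/-- The multipliers fixing the constituent. -/
def cls : Subgroup (ZMod q)ˣ where
  carrier := {s | C.own (s : ZMod q) = C.own 1}
  one_mem' := rfl
  mul_mem' := by
    intro s t hs ht
    show C.own ((s * t : (ZMod q)ˣ) : ZMod q) = C.own 1
    rw [Units.val_mul, C.own_mul (s := (s : ZMod q)) ht s.ne_zero, mul_one]
    exact hs
  inv_mem' := by
    intro s hs
    show C.own ((s⁻¹ : (ZMod q)ˣ) : ZMod q) = C.own 1
    have := C.own_mul (s := ((s⁻¹ : (ZMod q)ˣ) : ZMod q)) hs (Units.ne_zero _)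
    rw [mul_one, Units.inv_mul] at this
    exact this.symm

theorem mem_cls {s : (ZMod q)ˣ} : s ∈ C.cls ↔ C.own (s : ZMod q) = C.own 1 := Iff.rfl

theorem inMult_cls {k : ℕ} : InMult C.cls k ↔ C.own (k : ZMod q) = C.own 1 := by
  constructor
  · rintro ⟨u, hu, hu'⟩
    rw [← hu']
    exact hu
  · intro h
    have hk : (k : ZMod q) ≠ 0 := fun h0 => by
      rw [h0, C.own_zero] at h
      exact C.own_one_ne one_ne_zero h.symm
    exact ⟨Units.mk0 _ hk, h, rfl⟩

theorem norm_conj {g : G} {r : ℕ} (h : Norm (g : Perm (ZMod p)) r) (i : ZMod q) :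
    g * (C.el (i, 0) : G) * g⁻¹ = (C.el ((r : ZMod q) * i, 0) : G) := by
  rw [mul_inv_eq_iff_eq_mul]
  refine Subtype.ext (Equiv.ext fun x => ?_)
  rw [Subgroup.coe_mul, Subgroup.coe_mul, Perm.mul_apply, Perm.mul_apply, C.el_apply, C.el_apply,
    add_zero, add_zero, h.iter, C.four_pow_eq (n := ((r : ZMod q) * i).val) (by simp)]

theorem mult_le_cls : C.mult ≤ C.cls := by
  rintro u ⟨g, hg, hgu⟩
  set r := (u : ZMod q).val with hr
  have hru : (r : ZMod q) = u := ZMod.natCast_zmod_val _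
  refine (C.own_unique (by rw [C.own_mult]; exact one_ne_zero) ?_).symm
  have hkey : C.aC (C.own 1 : G → ℂ) (u : ZMod q) = C.aC (C.own 1 : G → ℂ) 1 := by
    refine mul_left_cancel₀ (mul_ne_zero (Nat.cast_ne_zero.2 (Fact.out : p.Prime).ne_zero)
      (Nat.cast_ne_zero.2 C.hq.ne_zero) : (p : ℂ) * q ≠ 0) ?_
    have hψ := irr_isClassFunction (C.own 1)
    rw [C.aC_formula hψ, C.aC_formula hψ]
    congr 2
    refine Finset.sum_equiv (Equiv.mulLeft₀ (u : ZMod q) u.ne_zero) (fun i => by simp) fun i _ => ?_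
    rw [Equiv.mulLeft₀_apply, ← hru, ← C.norm_conj (g := ⟨g, hg⟩) hgu i, hψ, hru]
    congr 2
    ring
  rw [hkey, C.own_self]
  exact one_ne_zero

theorem card_class : (Finset.univ.filter fun b : ZMod q => C.own b = C.own 1).card =
    Nat.card C.cls := by
  rw [Nat.card_eq_fintype_card, ← Finset.card_univ]
  refine (Finset.card_bij (fun (u : C.cls) _ => ((u : (ZMod q)ˣ) : ZMod q)) ?_ ?_ ?_).symm
  · intro u _
    simp only [Finset.mem_filter, Finset.mem_univ, true_and]
    exact u.2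
  · intro u _ u' _ h
    exact Subtype.ext (Units.ext h)
  · intro b hb
    simp only [Finset.mem_filter, Finset.mem_univ, true_and] at hb
    have hb0 : b ≠ 0 := fun h0 => C.own_one_ne one_ne_zero (by rw [← hb, h0, C.own_zero])
    exact ⟨⟨Units.mk0 b hb0, hb⟩, Finset.mem_univ _, rfl⟩

/-- The values on the translations are one rational integer `e`, and `deg + (p - 1) e = p d`. -/
theorem exists_e : ∃ e : ℤ, (∀ v : ZMod p, v ≠ 0 → (C.own 1 : G → ℂ) (C.el (0, v) : G) = e) ∧
    (C.own 1 : G → ℂ) 1 + ((p : ℂ) - 1) * e = p * (Nat.card C.cls) := by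
  set ψ := C.own 1 with hψ
  have hconst : ∀ n : ℕ, n.Coprime (Nat.card G) → (n : ZMod q) = 1 →
      ∀ g, (ψ : G → ℂ) (g ^ n) = (ψ : G → ℂ) g := by
    intro n hn hn1 g
    have := C.own_twist hn 1 g
    rw [hn1, mul_one] at this
    exact this.symm
  have hv : ∀ v : ZMod p, v ≠ 0 → (ψ : G → ℂ) (C.el (0, v) : G) = (ψ : G → ℂ) (C.el (0, 1) : G) := by
    intro v hv
    obtain ⟨n, hn, hnp, hnq⟩ := C.exists_coprime_p hv
    rw [← hconst n hn hnq (C.el (0, 1) : G), C.el_pow_trans, hnp, mul_one]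
  obtain ⟨r, hr⟩ := CfsgLib.CharGalois.exists_rat_char (irr_isCharacter ψ) (C.el (0, 1) : G)
    fun m hm => by rw [C.el_pow_trans, mul_one, hv _ (C.natCast_ne_zero hm).2]
  obtain ⟨e, he⟩ := exists_int_of_isIntegral_rat (q := r) (by
    rw [← hr]; exact isIntegral_of_isCharacter (irr_isCharacter ψ) _)
  have hval : ∀ v : ZMod p, v ≠ 0 → (ψ : G → ℂ) (C.el (0, v) : G) = e := fun v h => by
    rw [hv v h, hr, ← he, Rat.cast_intCast]
  refine ⟨e, hval, ?_⟩
  have hsum : ∑ b : ZMod q, (p : ℂ) * q * C.aC (ψ : G → ℂ) b =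
      (p : ℂ) * q * Nat.card C.cls := by
    rw [← Finset.mul_sum, hψ]
    simp only [C.aC_own]
    rw [Finset.sum_boole, C.card_class]
  simp only [C.aC_formula (irr_isClassFunction ψ)] at hsum
  rw [Finset.sum_add_distrib, Finset.sum_const, Finset.card_univ, ZMod.card, ← Finset.mul_sum,
    Finset.sum_comm] at hsum
  have hzero : ∑ i ∈ Finset.univ.erase (0 : ZMod q), ∑ b : ZMod q,
      (ψ : G → ℂ) (C.el (i, 0) : G) * ZMod.stdAddChar (-(b * i)) = 0 := by
    refine Finset.sum_eq_zero fun i hi => ?_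
    rw [← Finset.mul_sum, Finset.sum_congr rfl fun b _ => by
      rw [show -(b * i) = -i * b by ring], sum_std,
      if_neg (neg_ne_zero.2 (Finset.ne_of_mem_erase hi)), mul_zero]
  rw [hzero, mul_zero, add_zero, nsmul_eq_mul] at hsum
  have hq0 : (q : ℂ) ≠ 0 := Nat.cast_ne_zero.2 C.hq.ne_zero
  have h2 : ∑ v : ZMod p, (ψ : G → ℂ) (C.el (0, v) : G) = p * Nat.card C.cls :=
    mul_left_cancel₀ hq0 (by rw [hsum]; ring)
  rw [← h2, ← Finset.add_sum_erase _ _ (Finset.mem_univ (0 : ZMod p)), C.el_zero_zero,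
    Finset.sum_congr rfl fun v hv' => hval v (Finset.ne_of_mem_erase hv'), Finset.sum_const,
    Finset.card_erase_of_mem (Finset.mem_univ _), Finset.card_univ, ZMod.card, nsmul_eq_mul,
    Nat.cast_sub (Fact.out : p.Prime).one_le, Nat.cast_one]

end Ctx

end CfsgLib.PrimeFour
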