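import Cfsg.Agent.Lib.PrimeFour.Multiplier
import Cfsg.Agent.Lib.WeightedSum.Regular
import Cfsg.Agent.Lib.Chars17.Constituents
import Cfsg.Agent.Lib.Characters.Counting
import Cfsg.Agent.Lib.Characters.Galois
import Mathlib.NumberTheory.LegendreSymbol.AddCharacter
import Mathlib.Analysis.SpecialFunctions.Complex.CircleAddChar

/-!
# The action on unordered pairs and the half affine group

The half affine group is regular on unordered pairs, so each of its linear characters lies in
exactly one constituent of the character of that action.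
-/

set_option autoImplicit false
set_option linter.unusedSectionVars false

open MulAction Subgroup Equiv
open Cfsg CfsgLib.Characters
open scoped Classical Pointwise

namespace CfsgLib.PrimeFour

variable {p q : ℕ} [Fact p.Prime] [Fact q.Prime]

/-- The exponent of a power of `4`. -/
noncomputable def lg (q : ℕ) (k : ZMod p) : ZMod q :=
  if h : ∃ j : ℕ, k = 4 ^ j then ((Classical.choose h : ℕ) : ZMod q) else 0

/-- The slope of an affine map. -/
def slope (g : Perm (ZMod p)) : ZMod p := g 1 - g 0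

/-- The unordered pairs. -/
abbrev Pair (p : ℕ) := Set.powersetCard (ZMod p) 2

/-- The character of the action on unordered pairs. -/
noncomputable def pairChar {G : Subgroup (Perm (ZMod p))} : ↥G → ℂ := fun g =>
  (CfsgLib.PermChar.fixCount (Pair p) g : ℂ)

theorem smul_pair {G : Subgroup (Perm (ZMod p))} (g : G) (z : Pair p) :
    ((g • z : Pair p) : Finset (ZMod p)) = (z : Finset (ZMod p)).image (g : Perm (ZMod p)) := by
  ext x
  simp only [Finset.mem_image]
  refine Finset.mem_smul_finset.trans ?_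
  rfl

namespace Ctx

variable {G : Subgroup (Perm (ZMod p))} (C : Ctx q G)

include C

theorem lg_pow (j : ℕ) : lg q ((4 : ZMod p) ^ j) = (j : ZMod q) := by
  have h : ∃ i : ℕ, (4 : ZMod p) ^ j = 4 ^ i := ⟨j, rfl⟩
  rw [lg, dif_pos h]
  exact (C.four_pow_inj (Classical.choose_spec h)).symm

theorem lg_one : lg q (1 : ZMod p) = 0 := by simpa using C.lg_pow 0

theorem pow_lg {k : ZMod p} (hk : k ^ q = 1) : (4 : ZMod p) ^ (lg q k).val = k := by
  obtain ⟨j, rfl⟩ := C.exists_pow hk
  rw [C.lg_pow]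
  exact C.four_pow_eq (by simp)

theorem lg_mul {k l : ZMod p} (hk : k ^ q = 1) (hl : l ^ q = 1) :
    lg q (k * l) = lg q k + lg q l := by
  obtain ⟨i, rfl⟩ := C.exists_pow hk
  obtain ⟨j, rfl⟩ := C.exists_pow hl
  rw [← pow_add, C.lg_pow, C.lg_pow, C.lg_pow, Nat.cast_add]

theorem slope_eq {g : Perm (ZMod p)} {k v : ZMod p} (h : ∀ x, g x = k * x + v) :
    slope g = k ∧ g 0 = v := by
  constructor
  · rw [slope, h, h]; ring
  · rw [h]; ring

/-- The half affine group inside `G`. -/
def nor : Subgroup G where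
  carrier := {g | ∃ k v : ZMod p, k ^ q = 1 ∧ ∀ x, (g : Perm (ZMod p)) x = k * x + v}
  one_mem' := ⟨1, 0, one_pow q, fun x => by simp⟩
  mul_mem' := by
    rintro g h ⟨k, v, hk, hg⟩ ⟨l, w, hl, hh⟩
    refine ⟨k * l, k * w + v, by rw [mul_pow, hk, hl, mul_one], fun x => ?_⟩
    rw [Subgroup.coe_mul, Perm.mul_apply, hh, hg]; ring
  inv_mem' := by
    rintro g ⟨k, v, hk, hg⟩
    have hk0 := C.ne_zero_of_pow one_ne_zero hk
    refine ⟨k⁻¹, -k⁻¹ * v, by rw [inv_pow, hk, inv_one], fun x => ?_⟩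
    rw [Subgroup.coe_inv, Perm.inv_def, Equiv.symm_apply_eq, hg]
    field_simp; ring

theorem mem_nor {g : G} : g ∈ C.nor ↔
    ∃ k v : ZMod p, k ^ q = 1 ∧ ∀ x, (g : Perm (ZMod p)) x = k * x + v := Iff.rfl

theorem nor_spec (n : C.nor) : (slope ((n : G) : Perm (ZMod p))) ^ q = 1 ∧
    ∀ x, ((n : G) : Perm (ZMod p)) x =
      slope ((n : G) : Perm (ZMod p)) * x + ((n : G) : Perm (ZMod p)) 0 := by
  obtain ⟨k, v, hk, h⟩ := C.mem_nor.1 n.2
  obtain ⟨e1, e2⟩ := C.slope_eq h
  exact ⟨e1.symm ▸ hk, fun x => by rw [e1, e2, h]⟩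

/-- The half affine map `x ↦ 4 ^ i * x + v`. -/
noncomputable def el (iv : ZMod q × ZMod p) : C.nor :=
  ⟨⟨Classical.choose (C.aff' (k := (4 : ZMod p) ^ iv.1.val)
      (by rw [← pow_mul, mul_comm, pow_mul, C.four_pow_q, one_pow]) iv.2),
    (Classical.choose_spec (C.aff' (k := (4 : ZMod p) ^ iv.1.val)
      (by rw [← pow_mul, mul_comm, pow_mul, C.four_pow_q, one_pow]) iv.2)).1⟩,
    (4 : ZMod p) ^ iv.1.val, iv.2, by rw [← pow_mul, mul_comm, pow_mul, C.four_pow_q, one_pow],
    (Classical.choose_spec (C.aff' (k := (4 : ZMod p) ^ iv.1.val)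
      (by rw [← pow_mul, mul_comm, pow_mul, C.four_pow_q, one_pow]) iv.2)).2⟩

theorem el_apply (i : ZMod q) (v x : ZMod p) :
    ((C.el (i, v) : G) : Perm (ZMod p)) x = 4 ^ i.val * x + v :=
  (Classical.choose_spec (C.aff' (k := (4 : ZMod p) ^ i.val)
    (by rw [← pow_mul, mul_comm, pow_mul, C.four_pow_q, one_pow]) v)).2 x

theorem el_bij : Function.Bijective C.el := by
  constructor
  · rintro ⟨i, v⟩ ⟨j, w⟩ h
    have h' : ∀ x, (4 : ZMod p) ^ i.val * x + v = 4 ^ j.val * x + w := fun x => by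
      rw [← C.el_apply i v x, h, C.el_apply]
    have e2 : v = w := by simpa using h' 0
    have e1 : (4 : ZMod p) ^ i.val = 4 ^ j.val := by simpa [e2] using h' 1
    have := C.four_pow_inj e1
    simp only [ZMod.natCast_zmod_val] at this
    rw [this, e2]
  · intro n
    obtain ⟨hk, hn⟩ := C.nor_spec n
    refine ⟨(lg q (slope ((n : G) : Perm (ZMod p))), ((n : G) : Perm (ZMod p)) 0), ?_⟩
    refine Subtype.ext (Subtype.ext (Equiv.ext fun x => ?_))
    rw [C.el_apply, C.pow_lg hk, ← hn]

theorem card_nor : Nat.card C.nor = p * q := by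
  rw [← Nat.card_eq_of_bijective _ C.el_bij, Nat.card_prod, Nat.card_zmod, Nat.card_zmod, mul_comm]

theorem lin_el (i : ZMod q) (v : ZMod p) :
    lg q (slope ((C.el (i, v) : G) : Perm (ZMod p))) = i := by
  rw [(C.slope_eq (C.el_apply i v)).1, C.lg_pow, ZMod.natCast_zmod_val]

/-- The linear character `x ↦ 4 ^ i * x + v ↦ ζ ^ (b * i)` of the half affine group. -/
noncomputable def linHom (b : ZMod q) : C.nor →* ℂˣ := MonoidHom.toHomUnits
  { toFun := fun n => ZMod.stdAddChar (b * lg q (slope ((n : G) : Perm (ZMod p))))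
    map_one' := by
      have h1 : slope (((1 : C.nor) : G) : Perm (ZMod p)) = (1 : ZMod p) := by simp [slope]
      rw [h1, C.lg_one, mul_zero, AddChar.map_zero_eq_one]
    map_mul' := fun m n => by
      obtain ⟨hm1, hm⟩ := C.nor_spec m
      obtain ⟨hn1, hn⟩ := C.nor_spec n
      have hs : slope (((m * n : C.nor) : G) : Perm (ZMod p)) =
          slope ((m : G) : Perm (ZMod p)) * slope ((n : G) : Perm (ZMod p)) := by
        refine (C.slope_eq (v := slope ((m : G) : Perm (ZMod p)) * ((n : G) : Perm (ZMod p)) 0 +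
          ((m : G) : Perm (ZMod p)) 0) fun x => ?_).1
        rw [Subgroup.coe_mul, Subgroup.coe_mul, Perm.mul_apply, hm, hn]; ring
      rw [hs, C.lg_mul hm1 hn1, mul_add, AddChar.map_add_eq_mul] }

theorem linHom_apply (b : ZMod q) (n : C.nor) :
    (C.linHom b n : ℂ) = ZMod.stdAddChar (b * lg q (slope ((n : G) : Perm (ZMod p)))) := rfl

theorem linHom_el (b i : ZMod q) (v : ZMod p) :
    (C.linHom b (C.el (i, v)) : ℂ) = ZMod.stdAddChar (b * i) := by
  rw [C.linHom_apply, C.lin_el]

/-- The multiplicity of the linear character in the restriction. -/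
noncomputable def aC (ψ : ↥G → ℂ) (b : ZMod q) : ℂ :=
  classInner (fun n : C.nor => ψ (n : G)) (fun n => (C.linHom b n : ℂ))

theorem aC_nat {ψ : ↥G → ℂ} (hψ : IsCharacter G ψ) (b : ZMod q) : ∃ n : ℕ, C.aC ψ b = n :=
  classInner_char_nat (CfsgLib.CharGalois.isCharacter_comp hψ C.nor.subtype)
    (isCharacter_of_irr (linearIrr (C.linHom b)).2)

omit C in
theorem conj_stdAddChar (x : ZMod q) :
    (starRingEnd ℂ) (ZMod.stdAddChar x) = ZMod.stdAddChar (-x) := by
  rw [AddChar.map_neg_eq_inv]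
  exact (Complex.inv_eq_conj (AddChar.norm_apply _ _)).symm

omit C in
theorem sum_std (b : ZMod q) :
    ∑ i : ZMod q, ZMod.stdAddChar (b * i) = if b = 0 then (q : ℂ) else 0 := by
  have h := AddChar.sum_mulShift b (ZMod.isPrimitive_stdAddChar q)
  rw [ZMod.card] at h
  rw [Finset.sum_congr rfl fun i _ => by rw [mul_comm], h]
  split_ifs <;> simp

theorem el_conj {i : ZMod q} (hi : i ≠ 0) (v : ZMod p) :
    ∃ t : G, (C.el (i, v) : G) = t * (C.el (i, 0) : G) * t⁻¹ := by
  have hk : (4 : ZMod p) ^ i.val ≠ 1 := fun h => hi (by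
    have := C.four_pow_inj (h.trans (pow_zero (4 : ZMod p)).symm)
    simpa using this)
  set k : ZMod p := (4 : ZMod p) ^ i.val with hkd
  refine ⟨(C.el (0, v * (1 - k)⁻¹) : G), Subtype.ext (Equiv.ext fun x => ?_)⟩
  have h1 : (1 : ZMod p) - k ≠ 0 := sub_ne_zero.2 hk.symm
  rw [Subgroup.coe_mul, Subgroup.coe_mul, Subgroup.coe_inv, Perm.mul_apply, Perm.mul_apply,
    C.el_apply, C.el_apply, C.el_apply, ZMod.val_zero, pow_zero, ← hkd]
  have e : ((C.el ((0 : ZMod q), v * (1 - k)⁻¹) : G) : Perm (ZMod p))⁻¹ x = x - v * (1 - k)⁻¹ := by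
    rw [Perm.inv_def, Equiv.symm_apply_eq, C.el_apply, ZMod.val_zero, pow_zero]; ring
  rw [e]
  field_simp; ring

/-- The multiplicity formula. -/
theorem aC_formula {ψ : ↥G → ℂ} (hψ : IsClassFunction G ψ) (b : ZMod q) :
    (p : ℂ) * q * C.aC ψ b = ∑ v : ZMod p, ψ (C.el (0, v) : G) +
      (p : ℂ) * ∑ i ∈ Finset.univ.erase (0 : ZMod q),
        ψ (C.el (i, 0) : G) * ZMod.stdAddChar (-(b * i)) := by
  have hpq : (p : ℂ) * q ≠ 0 := mul_ne_zero (Nat.cast_ne_zero.2 (Fact.out : p.Prime).ne_zero)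
    (Nat.cast_ne_zero.2 C.hq.ne_zero)
  rw [aC, classInner, C.card_nor, Nat.cast_mul, ← mul_assoc, mul_inv_cancel₀ hpq, one_mul,
    ← (Equiv.ofBijective _ C.el_bij).sum_comp, Fintype.sum_prod_type,
    ← Finset.add_sum_erase _ _ (Finset.mem_univ (0 : ZMod q))]
  simp only [Equiv.ofBijective_apply, C.linHom_el, conj_stdAddChar, mul_zero,
    AddChar.map_zero_eq_one, map_one, mul_one]
  congr 1
  rw [Finset.mul_sum]
  refine Finset.sum_congr rfl fun i hi => ?_
  have hi' : i ≠ 0 := Finset.ne_of_mem_erase hi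
  have hc : ∀ v, ψ (C.el (i, v) : G) = ψ (C.el (i, 0) : G) := fun v => by
    obtain ⟨t, ht⟩ := C.el_conj hi' v
    rw [ht, hψ]
  simp only [hc, Finset.sum_const, Finset.card_univ, ZMod.card, nsmul_eq_mul]

theorem el_zero_zero : (C.el (0, 0) : G) = 1 :=
  Subtype.ext (Equiv.ext fun x => by rw [C.el_apply]; simp)

theorem aC_one (b : ZMod q) : C.aC (fun _ => 1) b = if b = 0 then 1 else 0 := by
  have h := C.aC_formula (ψ := fun _ => 1) (fun _ _ => rfl) b
  simp only [Finset.sum_const, Finset.card_univ, ZMod.card, nsmul_one, one_mul] at h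
  have hs := sum_std (-b)
  rw [← Finset.add_sum_erase _ _ (Finset.mem_univ (0 : ZMod q)), mul_zero,
    AddChar.map_zero_eq_one] at hs
  simp only [neg_mul, neg_eq_zero] at hs
  have hp0 : (p : ℂ) ≠ 0 := Nat.cast_ne_zero.2 (Fact.out : p.Prime).ne_zero
  have hq0 : (q : ℂ) ≠ 0 := Nat.cast_ne_zero.2 C.hq.ne_zero
  refine mul_left_cancel₀ (mul_ne_zero hp0 hq0) ?_
  rw [h]
  split_ifs at hs ⊢ <;> linear_combination (p : ℂ) * hs

theorem two_transitive_of_pairs {z w : Pair p} : ∃ g : G, g • z = w := by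
  have h2 := C.two_trans
  obtain ⟨z, hz⟩ := z
  obtain ⟨w, hw⟩ := w
  obtain ⟨a, b, hab, rfl⟩ := Finset.card_eq_two.1 hz
  obtain ⟨c, d, hcd, rfl⟩ := Finset.card_eq_two.1 hw
  obtain ⟨g, hga, hgb⟩ := is_two_pretransitive_iff.1 h2 hab hcd
  refine ⟨g, Subtype.ext ?_⟩
  rw [smul_pair]
  simp only [Finset.image_insert, Finset.image_singleton]
  rw [show (g : Perm (ZMod p)) a = c from hga, show (g : Perm (ZMod p)) b = d from hgb]

/-- A half affine map fixing a pair is trivial. -/
theorem nor_fix (n : C.nor) (z : Pair p) (h : (n : G) • z = z) : n = 1 := by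
  obtain ⟨z, hz⟩ := z
  obtain ⟨a, b, hab, rfl⟩ := Finset.card_eq_two.1 hz
  obtain ⟨hk, hn⟩ := C.nor_spec n
  have h' := congrArg Subtype.val h
  rw [smul_pair] at h'
  simp only [Finset.image_insert, Finset.image_singleton] at h'
  set f : Perm (ZMod p) := ((n : G) : Perm (ZMod p)) with hf
  have ha : f a = a ∨ f a = b := by
    have : f a ∈ ({a, b} : Finset (ZMod p)) := h' ▸ Finset.mem_insert_self _ _
    simpa using this
  have hb : f b = a ∨ f b = b := by
    have : f b ∈ ({a, b} : Finset (ZMod p)) :=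
      h' ▸ Finset.mem_insert_of_mem (Finset.mem_singleton_self _)
    simpa using this
  have hsub : a - b ≠ 0 := sub_ne_zero.2 hab
  rcases ha with ha | ha <;> rcases hb with hb | hb
  · exact absurd (f.injective (ha.trans hb.symm)) hab
  · have hk1 : slope f = 1 := by
      refine mul_left_cancel₀ hsub ?_
      rw [hn] at ha hb
      linear_combination ha - hb
    have hv : f 0 = 0 := by
      rw [hn, hk1] at ha
      linear_combination ha
    refine Subtype.ext (Subtype.ext (Equiv.ext fun x => ?_))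
    show f x = x
    rw [hn, hk1, hv]; ring
  · exfalso
    have hk1 : slope f = -1 := by
      refine mul_left_cancel₀ hsub ?_
      rw [hn] at ha hb
      linear_combination ha - hb
    rw [hk1, C.odd_q.neg_one_pow] at hk
    exact C.neg_one_ne hk
  · exact absurd (f.injective (ha.trans hb.symm)) hab

theorem card_pairs : Nat.card (Pair p) = p * q := by
  rw [Set.powersetCard.card, Nat.card_zmod, Nat.choose_two_right,
    show p - 1 = 2 * q by have := C.hp; omega, ← mul_assoc, mul_comm p 2, mul_assoc,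
    Nat.mul_div_cancel_left _ (by norm_num)]

/-- The half affine group is transitive on pairs. -/
theorem nor_trans (z w : Pair p) : ∃! n : C.nor, (n : G) • z = w := by
  have hinj : Function.Injective fun n : C.nor => (n : G) • z := fun m n h => by
    have h1 : ((n⁻¹ * m : C.nor) : G) • z = z := by
      simp only at h
      rw [Subgroup.coe_mul, mul_smul, h, Subgroup.coe_inv, inv_smul_smul]
    exact (inv_mul_eq_one.1 (C.nor_fix _ z h1)).symm
  have hbij := hinj.bijective_of_nat_card_le (by rw [C.card_pairs, C.card_nor])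
  exact hbij.existsUnique w

theorem pairChar_nor (n : C.nor) :
    pairChar (n : G) = if n = 1 then (p : ℂ) * q else 0 := by
  rw [pairChar, CfsgLib.PermChar.fixCount]
  split_ifs with h
  · subst h
    rw [Nat.card_congr (Equiv.subtypeUnivEquiv fun z => by simp), C.card_pairs, Nat.cast_mul]
  · rw [Nat.cast_eq_zero, Finite.card_eq_zero_iff]
    exact ⟨fun z => h (C.nor_fix n z.1 z.2)⟩

omit C in
theorem isCharacter_pairChar : IsCharacter G (pairChar (G := G)) :=
  CfsgLib.WeightedSum.isCharacter_fixCount (Pair p)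

theorem aC_pairChar (b : ZMod q) : C.aC pairChar b = 1 := by
  rw [aC, classInner, Finset.sum_eq_single (1 : C.nor)
    (fun n _ hn => by rw [C.pairChar_nor, if_neg hn, zero_mul])
    (fun h => absurd (Finset.mem_univ _) h), C.pairChar_nor, if_pos rfl, map_one, Units.val_one,
    map_one, mul_one, C.card_nor, Nat.cast_mul, inv_mul_cancel₀]
  exact mul_ne_zero (Nat.cast_ne_zero.2 (Fact.out : p.Prime).ne_zero)
    (Nat.cast_ne_zero.2 C.hq.ne_zero)

end Ctx

end CfsgLib.PrimeFour
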