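import Cfsg.Agent.Lib.PrimeFour.PowerSums
import Mathlib.Data.Nat.Choose.Central
import Mathlib.Tactic.FieldSimp

/-!
# Moment equations for compositions of piecewise powers

If the quadratic moment form of `x ↦ z_r (z_2 x + v)` vanishes at an index `k`, where `z_r` is the
piecewise power map with exponent `r`, then a hypergeometric sum in the parameter `c` vanishes.
-/

set_option autoImplicit false

open Finset

namespace CfsgLib.PrimeFour

variable {p q : ℕ} [Fact p.Prime]

/-- The quadratic moment form. -/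
def bForm (g : ZMod p → ZMod p) (k : ℕ) : ZMod p := ∑ x, ∑ y, g x * g y * (x - y) ^ (2 * k)

/-- The moments. -/
def mom (g : ZMod p → ZMod p) (j : ℕ) : ZMod p := ∑ x, x ^ j * g x

theorem bForm_eq (g : ZMod p → ZMod p) (k : ℕ) :
    bForm g k = ∑ j ∈ range (2 * k + 1),
      (-1) ^ j * ((2 * k).choose j : ZMod p) * mom g j * mom g (2 * k - j) := by
  have h : ∀ x y : ZMod p, g x * g y * (x - y) ^ (2 * k) = ∑ j ∈ range (2 * k + 1),
      (-1) ^ j * ((2 * k).choose j : ZMod p) * (x ^ j * g x) * (y ^ (2 * k - j) * g y) := by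
    intro x y
    rw [sub_pow, Finset.mul_sum]
    refine Finset.sum_congr rfl fun j _ => ?_
    rw [show (-1 : ZMod p) ^ (j + 2 * k) = (-1) ^ j by rw [pow_add, pow_mul]; simp]
    ring
  simp only [bForm, h]
  rw [Finset.sum_congr rfl fun x _ => Finset.sum_comm, Finset.sum_comm]
  refine Finset.sum_congr rfl fun j _ => ?_
  simp only [mom, Finset.mul_sum, Finset.sum_mul]
  exact Finset.sum_comm

theorem sum_range_split (f : ℕ → ZMod p) (k : ℕ) :
    ∑ j ∈ range (2 * k + 1), f j =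
      ∑ i ∈ range (k + 1), f (2 * i) + ∑ i ∈ range k, f (2 * i + 1) := by
  induction k with
  | zero => simp
  | succ k ih =>
    rw [show 2 * (k + 1) + 1 = 2 * k + 1 + 1 + 1 by ring, sum_range_succ _ (2 * k + 1 + 1),
      sum_range_succ _ (2 * k + 1), ih, sum_range_succ (fun i => f (2 * i)) (k + 1),
      sum_range_succ (fun i => f (2 * i + 1)) k,
      show 2 * (k + 1) = 2 * k + 1 + 1 by ring]
    ring

/-- The piecewise power map: `x ^ r` on squares and `κ * x ^ r` on non-squares. -/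
def pw (q r : ℕ) (κ x : ZMod p) : ZMod p :=
  (1 + κ) / 2 * x ^ r + (1 - κ) / 2 * x ^ (r + q)

theorem two_ne_zero' (hp : p = 2 * q + 1) (hq : 0 < q) : (2 : ZMod p) ≠ 0 := by
  have := natCast_ne_zero_of_lt (p := p) (show 0 < 2 by norm_num) (by omega)
  exact_mod_cast this

theorem pow_q_cases (hp : p = 2 * q + 1) {x : ZMod p} (hx : x ≠ 0) : x ^ q = 1 ∨ x ^ q = -1 := by
  refine sq_eq_one_iff.1 ?_
  rw [← pow_mul, show q * 2 = p - 1 by omega, ZMod.pow_card_sub_one_eq_one hx]

/-- Inverting the squaring map on moments. -/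
theorem pow_eq_pw_two (hp : p = 2 * q + 1) (hq : Odd q) {c : ZMod p} (hc : c ^ q = -1) {j m : ℕ}
    {ε : ZMod p} (hm : 0 < m) (hj : 2 * m = j ∧ ε = 1 ∨ 2 * m = j + q ∧ ε = -1) (x : ZMod p) :
    x ^ j = (1 + ε * c ^ m) / 2 * pw q 2 c⁻¹ x ^ m + (1 - ε * c ^ m) / 2 * pw q 2 c⁻¹ x ^ (m + q) := by
  obtain ⟨a, rfl⟩ := hq
  have h2 := two_ne_zero' hp (by omega)
  have hc0 : c ≠ 0 := fun h => by rw [h, zero_pow (by omega)] at hc; exact one_ne_zero (by linear_combination hc)
  rcases eq_or_ne x 0 with rfl | hx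
  · have hj0 : j ≠ 0 := by rcases hj with ⟨h, -⟩ | ⟨h, -⟩ <;> omega
    simp [pw, zero_pow hj0, zero_pow hm.ne']
  rcases pow_q_cases hp hx with h | h
  · have hy : pw (2 * a + 1) 2 c⁻¹ x = x ^ 2 := by
      rw [pw, pow_add, h]; field_simp; ring
    have hyq : (x ^ 2) ^ (m + (2 * a + 1)) = (x ^ 2) ^ m := by
      rw [pow_add, ← pow_mul x 2 (2 * a + 1), mul_comm 2 (2 * a + 1), pow_mul, h, one_pow, mul_one]
    rw [hy, hyq]
    have hxm : (x ^ 2) ^ m = x ^ j := by
      rcases hj with ⟨e, -⟩ | ⟨e, -⟩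
      · rw [← pow_mul, e]
      · rw [← pow_mul, e, pow_add, h, mul_one]
    rw [hxm]; field_simp; ring
  · have hy : pw (2 * a + 1) 2 c⁻¹ x = c⁻¹ * x ^ 2 := by
      rw [pw, pow_add, h]; field_simp; ring
    have hyq : (c⁻¹ * x ^ 2) ^ (m + (2 * a + 1)) = -(c⁻¹ * x ^ 2) ^ m := by
      rw [pow_add, mul_pow c⁻¹ _ (2 * a + 1), inv_pow, hc, ← pow_mul x 2 (2 * a + 1),
        mul_comm 2 (2 * a + 1), pow_mul, h]
      norm_num
    rw [hy, hyq, mul_pow, inv_pow]
    have hxm : (x ^ 2) ^ m = ε * x ^ j := by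
      rcases hj with ⟨e, he⟩ | ⟨e, he⟩
      · rw [← pow_mul, e, he, one_mul]
      · rw [← pow_mul, e, pow_add, h, he]; ring
    have hε : ε * ε = 1 := by rcases hj with ⟨-, he⟩ | ⟨-, he⟩ <;> rw [he] <;> ring
    rw [hxm]
    have hcm : c ^ m ≠ 0 := pow_ne_zero _ hc0
    field_simp
    linear_combination (-2 * c ^ m) * hε

/-- The moments of `z_r ∘ (· + v) ∘ z_2`. -/
theorem mom_eq (hp : p = 2 * q + 1) (hq : Odd q) {c κ v : ZMod p} (hc : c ^ q = -1) {r j m : ℕ}
    {ε : ZMod p} (g2 : ZMod p ≃ ZMod p) (h2 : ∀ x, g2 x = pw q 2 c⁻¹ x) (hm : 0 < m)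
    (hmr : m + r < q) (hj : 2 * m = j ∧ ε = 1 ∨ 2 * m = j + q ∧ ε = -1) :
    mom (fun x => pw q r κ (g2 x + v)) j =
      -((1 - ε * c ^ m) / 2 * ((1 - κ) / 2) * ((r + q).choose (q - m) : ZMod p) * v ^ (r + m)) := by
  rw [← moment_eq hp v ((1 + ε * c ^ m) / 2) ((1 - ε * c ^ m) / 2) ((1 + κ) / 2) ((1 - κ) / 2) hm hmr,
    mom]
  conv_rhs => rw [← g2.sum_comp]
  refine Finset.sum_congr rfl fun x _ => ?_
  rw [pow_eq_pw_two hp hq hc hm hj x, h2]
  rfl

theorem mom_zero (hp : p = 2 * q + 1) {r : ℕ} (hr : 0 < r) (hrq : r < q) (κ v : ZMod p)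
    (g2 : ZMod p ≃ ZMod p) : mom (fun x => pw q r κ (g2 x + v)) 0 = 0 := by
  simp only [mom, pow_zero, one_mul]
  rw [g2.sum_comp (fun y => pw q r κ (y + v)),
    show ∑ y, pw q r κ (y + v) = ∑ y, pw q r κ y from
      Equiv.sum_comp (Equiv.addRight v) (fun y => pw q r κ y)]
  simp only [pw, Finset.sum_add_distrib, ← Finset.mul_sum]
  rw [sum_pow_eq hp hr, sum_pow_eq hp (show 0 < r + q by omega),
    if_neg (fun h => by have := Nat.le_of_dvd hr h; omega),
    if_neg (fun h => by have := Nat.le_of_dvd (by omega) h; omega)]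
  ring

/-- The hypergeometric weight. -/
def wt (k r i : ℕ) : ZMod p := (k.choose i : ZMod p) * ((k + 2 * r).choose (r + i) : ZMod p)

theorem choose_eq_wt (hp : p = 2 * q + 1) {k r i : ℕ} (hi : i ≤ k) (hk : 2 * k + 2 * r < p) :
    ((2 * k).choose (2 * i) : ZMod p) * ((r + q).choose (r + i) : ZMod p) *
      ((r + q).choose (r + (k - i)) : ZMod p) * ((k.factorial : ZMod p) * ((k + 2 * r).factorial : ZMod p) * (-4) ^ k) =
    ((((r + q).choose r : ZMod p) * (r.factorial : ZMod p)) ^ 2 * ((2 * k).factorial : ZMod p)) * wt k r i := by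
  obtain ⟨l, rfl⟩ := Nat.exists_eq_add_of_le hi
  rw [Nat.add_sub_cancel_left]
  have h1 := choose_half (p := p) hp r i (by omega)
  have h2 := choose_half (p := p) hp r l (by omega)
  have e1 : ((i + l).choose i : ZMod p) * i.factorial * l.factorial = (i + l).factorial := by
    have := Nat.choose_mul_factorial_mul_factorial (Nat.le_add_right i l)
    rw [Nat.add_sub_cancel_left] at this
    have := congrArg (Nat.cast : ℕ → ZMod p) this
    push_cast at this
    exact this
  have e2 : ((i + l + 2 * r).choose (r + i) : ZMod p) * (r + i).factorial * (r + l).factorial =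
      (i + l + 2 * r).factorial := by
    have := Nat.choose_mul_factorial_mul_factorial (show r + i ≤ i + l + 2 * r by omega)
    rw [show i + l + 2 * r - (r + i) = r + l by omega] at this
    have := congrArg (Nat.cast : ℕ → ZMod p) this
    push_cast at this
    exact this
  have e3 : ((2 * (i + l)).choose (2 * i) : ZMod p) * (2 * i).factorial * (2 * l).factorial =
      (2 * (i + l)).factorial := by
    have := Nat.choose_mul_factorial_mul_factorial (show 2 * i ≤ 2 * (i + l) by omega)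
    rw [show 2 * (i + l) - 2 * i = 2 * l by omega] at this
    have := congrArg (Nat.cast : ℕ → ZMod p) this
    push_cast at this
    exact this
  rw [wt, ← e1, ← e2, ← e3, pow_add]
  linear_combination
    ((2 * (i + l)).choose (2 * i) : ZMod p) * ((i + l).choose i : ZMod p) *
      ((i + l + 2 * r).choose (r + i) : ZMod p) *
      (((r + q).choose (r + l) : ZMod p) * (r + l).factorial * l.factorial * (-4) ^ l) * h1 +
    ((2 * (i + l)).choose (2 * i) : ZMod p) * ((i + l).choose i : ZMod p) *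
      ((i + l + 2 * r).choose (r + i) : ZMod p) *
      (((r + q).choose r : ZMod p) * r.factorial * (2 * i).factorial) * h2

/-- The vanishing of the form gives the hypergeometric equation. -/
theorem weight_eq_zero (hp : p = 2 * q + 1) (hq : Odd q) {c κ : ZMod p} (hc : c ^ q = -1) (hκ : κ ≠ 1)
    {r k : ℕ} (hr : 0 < r) (hkr : 2 * (k + r) < q) (g2 : ZMod p ≃ ZMod p)
    (h2 : ∀ x, g2 x = pw q 2 c⁻¹ x)
    (hB : ∀ v : ZMod p, bForm (fun x => pw q r κ (g2 x + v)) k = 0) :
    ∑ i ∈ range (k + 1), wt k r i * ((1 - c ^ i) * (1 - c ^ (k - i))) = 0 := by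
  obtain ⟨a, ha⟩ := hq
  have hodd : Odd q := ⟨a, ha⟩
  have h2' := two_ne_zero' hp (by omega)
  set b := (1 - κ) / 2 with hb
  have hb0 : b ≠ 0 := by
    rw [hb]
    exact div_ne_zero (fun h => hκ (by linear_combination -h)) h2'
  set S := fun i : ℕ => (1 - c ^ i) / 2 * b * ((r + q).choose (r + i) : ZMod p) with hS
  set U := fun i : ℕ => (1 + c ^ (i + (a + 1))) / 2 * b * ((r + q).choose (q - (i + (a + 1))) : ZMod p)
    with hU
  have heven : ∀ v : ZMod p, ∀ i, i ≤ k →
      mom (fun x => pw q r κ (g2 x + v)) (2 * i) = -(S i * v ^ (r + i)) := by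
    intro v i hi
    rcases Nat.eq_zero_or_pos i with rfl | hpos
    · rw [mul_zero, mom_zero hp hr (by omega), hS]
      simp
    · rw [mom_eq (κ := κ) (r := r) (j := 2 * i) (ε := 1) hp hodd hc g2 h2 hpos (by omega) (Or.inl ⟨rfl, rfl⟩), one_mul,
        Nat.choose_symm_of_eq_add (show r + q = (q - i) + (r + i) by omega)]
  have hoddm : ∀ v : ZMod p, ∀ i, i < k →
      mom (fun x => pw q r κ (g2 x + v)) (2 * i + 1) = -(U i * v ^ (r + (i + (a + 1)))) := by
    intro v i hi
    rw [mom_eq (κ := κ) (r := r) (j := 2 * i + 1) (ε := -1) hp hodd hc g2 h2 (show 0 < i + (a + 1) by omega) (by omega)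
      (Or.inr ⟨by omega, rfl⟩)]
    simp only [hU]
    ring
  set E := ∑ i ∈ range (k + 1), ((2 * k).choose (2 * i) : ZMod p) * (S i * S (k - i)) with hE
  set O := ∑ i ∈ range k, ((2 * k).choose (2 * i + 1) : ZMod p) * (U i * U (k - 1 - i)) with hO
  have key : ∀ v : ZMod p, bForm (fun x => pw q r κ (g2 x + v)) k =
      v ^ (2 * r + k) * E - v ^ (2 * r + k + q) * O := by
    intro v
    rw [bForm_eq, sum_range_split, hE, hO, Finset.mul_sum, Finset.mul_sum, sub_eq_add_neg,
      ← Finset.sum_neg_distrib]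
    congr 1
    · refine Finset.sum_congr rfl fun i hi => ?_
      rw [mem_range] at hi
      rw [show 2 * k - 2 * i = 2 * (k - i) by omega, heven v i (by omega), heven v (k - i) (by omega),
        show 2 * r + k = (r + i) + (r + (k - i)) by omega, pow_add, pow_mul (-1 : ZMod p)]
      ring
    · refine Finset.sum_congr rfl fun i hi => ?_
      rw [mem_range] at hi
      rw [pow_succ (-1 : ZMod p) (2 * i), pow_mul (-1 : ZMod p),
        show 2 * k - (2 * i + 1) = 2 * (k - 1 - i) + 1 by omega, hoddm v i hi,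
        hoddm v (k - 1 - i) (by omega),
        show 2 * r + k + q = (r + (i + (a + 1))) + (r + (k - 1 - i + (a + 1))) by omega, pow_add]
      ring
  have k1 := (key 1).symm.trans (hB 1)
  have k2 := (key (-1)).symm.trans (hB (-1))
  simp only [one_pow, one_mul] at k1
  rw [pow_add _ (2 * r + k) q, hodd.neg_one_pow] at k2
  have hE0 : E = 0 := by
    rcases neg_one_pow_eq_or (ZMod p) (2 * r + k) with h | h <;> rw [h] at k2
    · exact (mul_eq_zero.1 (show (2 : ZMod p) * E = 0 by linear_combination k1 + k2)).resolve_left h2'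
    · exact (mul_eq_zero.1 (show (2 : ZMod p) * E = 0 by linear_combination k1 - k2)).resolve_left h2'
  set D := (((r + q).choose r : ZMod p) * (r.factorial : ZMod p)) ^ 2 * ((2 * k).factorial : ZMod p) with hD
  have hD0 : D ≠ 0 := by
    refine mul_ne_zero (pow_ne_zero _ (mul_ne_zero ?_ (factorial_ne_zero (by omega))))
      (factorial_ne_zero (by omega))
    intro h
    have e : ((r + q).choose r : ZMod p) * r.factorial * q.factorial = (r + q).factorial := by
      have := Nat.choose_mul_factorial_mul_factorial (Nat.le_add_right r q)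
      rw [Nat.add_sub_cancel_left] at this
      have := congrArg (Nat.cast : ℕ → ZMod p) this
      push_cast at this
      exact this
    rw [h, zero_mul, zero_mul] at e
    exact factorial_ne_zero (p := p) (show r + q < p by omega) e.symm
  have hsum : D * b ^ 2 * ∑ i ∈ range (k + 1), wt k r i * ((1 - c ^ i) * (1 - c ^ (k - i))) =
      4 * ((k.factorial : ZMod p) * ((k + 2 * r).factorial : ZMod p) * (-4) ^ k) * E := by
    rw [hE, Finset.mul_sum, Finset.mul_sum]
    refine Finset.sum_congr rfl fun i hi => ?_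
    rw [mem_range] at hi
    have h := choose_eq_wt (p := p) hp (show i ≤ k by omega) (show 2 * k + 2 * r < p by omega)
    simp only [hS]
    rw [hD]
    field_simp
    linear_combination (-4 * ((1 - c ^ i) * (1 - c ^ (k - i)))) * h
  rw [hE0, mul_zero] at hsum
  exact (mul_eq_zero.1 hsum).resolve_left (mul_ne_zero hD0 (pow_ne_zero _ hb0))

theorem choose_up {n a : ℕ} (h : a ≤ n) :
    (((n + 2).choose (a + 1) : ℕ) : ZMod p) * (((a : ZMod p) + 1) * ((n : ZMod p) - a + 1)) =
      (n.choose a : ZMod p) * (((n : ZMod p) + 2) * ((n : ZMod p) + 1)) := by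
  obtain ⟨b, rfl⟩ := Nat.exists_eq_add_of_le h
  have e1 := Nat.add_one_mul_choose_eq (a + b + 1) a
  have e2 := Nat.choose_mul_succ_eq (a + b) a
  rw [show a + b + 1 - a = b + 1 by omega] at e2
  have e1' := congrArg (Nat.cast : ℕ → ZMod p) e1
  have e2' := congrArg (Nat.cast : ℕ → ZMod p) e2
  push_cast at e1' e2' ⊢
  linear_combination -((b : ZMod p) + 1) * e1' - ((a : ZMod p) + (b : ZMod p) + 2) * e2'

/-- The generating polynomial of the weights. -/
def gen (k r : ℕ) (c : ZMod p) : ZMod p := ∑ i ∈ range (k + 1), wt k r i * c ^ i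

theorem gen_one (k r : ℕ) : gen (p := p) k r 1 = ((2 * k + 2 * r).choose (k + r) : ZMod p) := by
  rw [← sum_weight k r]
  simp [gen, wt]

theorem weight_split (k r : ℕ) (c : ZMod p) :
    ∑ i ∈ range (k + 1), wt k r i * ((1 - c ^ i) * (1 - c ^ (k - i))) =
      (1 + c ^ k) * gen k r 1 - 2 * gen k r c := by
  have hsymm : ∑ i ∈ range (k + 1), wt (p := p) k r i * c ^ (k - i) = gen k r c := by
    rw [gen, ← Finset.sum_range_reflect]
    refine Finset.sum_congr rfl fun i hi => ?_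
    rw [mem_range] at hi
    simp only [show k + 1 - 1 - i = k - i by omega, show k - (k - i) = i by omega, wt]
    rw [Nat.choose_symm (by omega), Nat.choose_symm_of_eq_add
      (show k + 2 * r = (r + (k - i)) + (r + i) by omega)]
  have h : ∀ i ∈ range (k + 1), wt (p := p) k r i * ((1 - c ^ i) * (1 - c ^ (k - i))) =
      (1 + c ^ k) * (wt k r i * 1 ^ i) - wt k r i * c ^ i - wt k r i * c ^ (k - i) := by
    intro i hi
    rw [mem_range] at hi
    have hck : c ^ k = c ^ i * c ^ (k - i) := by rw [← pow_add]; congr 1; omega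
    rw [hck]; simp; ring
  rw [Finset.sum_congr rfl h, Finset.sum_sub_distrib, Finset.sum_sub_distrib, ← Finset.mul_sum,
    hsymm]
  simp only [gen]
  ring

/-- The contiguous relation. -/
theorem contiguous (k : ℕ) (c : ZMod p) :
    (-(((k : ZMod p) + 3) * ((k : ZMod p) + 4) * ((k : ZMod p) + 7) * ((k : ZMod p) + 8) * c)) * gen k 4 c +
      ((k : ZMod p) + 3) * (-3 + 4 * ((k : ZMod p) + 5) * c - 3 * c ^ 2) * (((k : ZMod p) + 8) * ((k : ZMod p) + 7)) * gen k 3 c +
      (1 - c) ^ 2 * (((k : ZMod p) + 8) * ((k : ZMod p) + 7) * ((k : ZMod p) + 6) * ((k : ZMod p) + 5)) * gen k 2 c = 0 := by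
  set ψ : ZMod p → ZMod p := fun x =>
    -((k : ZMod p) * ((k : ZMod p) + 4) + 3 * c) + 2 * ((k : ZMod p) + 2 + c) * x + (c - 1) * x ^ 2 with hψ
  set T : ℕ → ZMod p := fun i => wt k 4 i * ((i : ZMod p) * ((i : ZMod p) + 4) * ψ i) * c ^ i with hT
  simp only [gen, Finset.mul_sum, ← Finset.sum_add_distrib]
  have hterm : ∀ i ∈ range (k + 1), (-(((k : ZMod p) + 3) * ((k : ZMod p) + 4) * ((k : ZMod p) + 7) * ((k : ZMod p) + 8) * c)) * (wt k 4 i * c ^ i) +
      ((k : ZMod p) + 3) * (-3 + 4 * ((k : ZMod p) + 5) * c - 3 * c ^ 2) * (((k : ZMod p) + 8) * ((k : ZMod p) + 7)) * (wt k 3 i * c ^ i) +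
      (1 - c) ^ 2 * (((k : ZMod p) + 8) * ((k : ZMod p) + 7) * ((k : ZMod p) + 6) * ((k : ZMod p) + 5)) * (wt k 2 i * c ^ i) =
      T (i + 1) - T i := by
    intro i hi
    rw [mem_range] at hi
    have u1 := choose_up (p := p) (show 3 + i ≤ k + 6 by omega)
    have u2 := choose_up (p := p) (show 2 + i ≤ k + 4 by omega)
    rw [show 3 + i + 1 = 4 + i by ring, show k + 6 + 2 = k + 8 by ring] at u1
    rw [show 2 + i + 1 = 3 + i by ring, show k + 4 + 2 = k + 6 by ring] at u2
    have s1 := choose_step (p := p) k i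
    have s2 := choose_step (p := p) (k + 8) (4 + i)
    simp only [hT, hψ, wt, pow_succ, show k + 2 * 4 = k + 8 by ring, show k + 2 * 3 = k + 6 by ring,
      show k + 2 * 2 = k + 4 by ring]
    rw [show 4 + (i + 1) = 4 + i + 1 by ring]
    push_cast at u1 u2 s1 s2 ⊢
    linear_combination
      -(((k : ZMod p) + 3) * (-3 + 4 * ((k : ZMod p) + 5) * c - 3 * c ^ 2) * (k.choose i : ZMod p) * c ^ i +
        (1 - c) ^ 2 * ((3 + (i : ZMod p)) * ((k : ZMod p) + 3 - i)) * (k.choose i : ZMod p) * c ^ i) * u1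
      - ((1 - c) ^ 2 * (((k : ZMod p) + 8) * ((k : ZMod p) + 7)) * (k.choose i : ZMod p) * c ^ i) * u2
      - (((k + 8).choose (4 + i + 1) : ZMod p) * ((i : ZMod p) + 5) *
        (-((k : ZMod p) * ((k : ZMod p) + 4) + 3 * c) + 2 * ((k : ZMod p) + 2 + c) * ((i : ZMod p) + 1) +
          (c - 1) * ((i : ZMod p) + 1) ^ 2) * c ^ i * c) * s1
      - ((k.choose i : ZMod p) * ((k : ZMod p) - i) *
        (-((k : ZMod p) * ((k : ZMod p) + 4) + 3 * c) + 2 * ((k : ZMod p) + 2 + c) * ((i : ZMod p) + 1) +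
          (c - 1) * ((i : ZMod p) + 1) ^ 2) * c ^ i * c) * s2
  rw [Finset.sum_congr rfl hterm, Finset.sum_range_sub]
  simp [hT, wt]

theorem central_step (n : ℕ) :
    ((n : ZMod p) + 1) * ((2 * n + 2).choose (n + 1) : ZMod p) =
      2 * (2 * (n : ZMod p) + 1) * ((2 * n).choose n : ZMod p) := by
  have h := Nat.succ_mul_centralBinom_succ n
  simp only [Nat.centralBinom_eq_two_mul_choose, mul_add, mul_one] at h
  have h' := congrArg (Nat.cast : ℕ → ZMod p) h
  push_cast at h'
  linear_combination h'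

/-- The three equations are incompatible. -/
theorem no_three_powers {k : ℕ} (h2 : 2 ≤ k) (hk : 2 * k + 8 < p) {c : ZMod p} (hc1 : c ≠ 1)
    (hck : 1 + c ^ k ≠ 0)
    (h : ∀ r ∈ ({2, 3, 4} : Finset ℕ),
      ∑ i ∈ range (k + 1), wt k r i * ((1 - c ^ i) * (1 - c ^ (k - i))) = 0) : False := by
  have e : ∀ r ∈ ({2, 3, 4} : Finset ℕ),
      (1 + c ^ k) * gen k r 1 - 2 * gen k r c = 0 := fun r hr => by rw [← weight_split]; exact h r hr
  have e2 := e 2 (by simp)
  have e3 := e 3 (by simp)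
  have e4 := e 4 (by simp)
  have hcon := contiguous k c
  have z : (1 + c ^ k) *
      ((-(((k : ZMod p) + 3) * ((k : ZMod p) + 4) * ((k : ZMod p) + 7) * ((k : ZMod p) + 8) * c)) * gen k 4 1 +
        ((k : ZMod p) + 3) * (-3 + 4 * ((k : ZMod p) + 5) * c - 3 * c ^ 2) * (((k : ZMod p) + 8) * ((k : ZMod p) + 7)) * gen k 3 1 +
        (1 - c) ^ 2 * (((k : ZMod p) + 8) * ((k : ZMod p) + 7) * ((k : ZMod p) + 6) * ((k : ZMod p) + 5)) * gen k 2 1) = 0 := by
    linear_combination 2 * hcon + (-(((k : ZMod p) + 3) * ((k : ZMod p) + 4) * ((k : ZMod p) + 7) * ((k : ZMod p) + 8) * c)) * e4 +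
      ((k : ZMod p) + 3) * (-3 + 4 * ((k : ZMod p) + 5) * c - 3 * c ^ 2) * (((k : ZMod p) + 8) * ((k : ZMod p) + 7)) * e3 +
      (1 - c) ^ 2 * (((k : ZMod p) + 8) * ((k : ZMod p) + 7) * ((k : ZMod p) + 6) * ((k : ZMod p) + 5)) * e2
  have z' := (mul_eq_zero.1 z).resolve_left hck
  rw [gen_one, gen_one, gen_one] at z'
  have s2 := central_step (p := p) (k + 2)
  have s3 := central_step (p := p) (k + 3)
  rw [show 2 * (k + 2) + 2 = 2 * k + 2 * 3 by ring, show k + 2 + 1 = k + 3 by ring,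
    show 2 * (k + 2) = 2 * k + 2 * 2 by ring] at s2
  rw [show 2 * (k + 3) + 2 = 2 * k + 2 * 4 by ring, show k + 3 + 1 = k + 4 by ring,
    show 2 * (k + 3) = 2 * k + 2 * 3 by ring] at s3
  push_cast at s2 s3
  have fin : (((k : ZMod p) + 3) * ((k : ZMod p) + 4) * ((k : ZMod p) + 7) * ((k : ZMod p) + 8) * k * (k - 1) * (1 - c) ^ 2) *
      ((2 * k + 2 * 2).choose (k + 2) : ZMod p) = 0 := by
    linear_combination ((k : ZMod p) + 3) * ((k : ZMod p) + 4) * z' +
      (((k : ZMod p) + 3) * ((k : ZMod p) + 4) * ((k : ZMod p) + 7) * ((k : ZMod p) + 8) * c * (k + 3)) * s3 +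
      (((k : ZMod p) + 3) * ((k : ZMod p) + 4) * ((k : ZMod p) + 7) * ((k : ZMod p) + 8) * c * 2 * (2 * k + 7) -
        ((k : ZMod p) + 3) * (-3 + 4 * ((k : ZMod p) + 5) * c - 3 * c ^ 2) * (((k : ZMod p) + 8) * ((k : ZMod p) + 7)) * ((k : ZMod p) + 4)) * s2
  have hn : ∀ n : ℕ, 0 < n → n < p → (n : ZMod p) ≠ 0 := fun n => natCast_ne_zero_of_lt
  have f3 : (k : ZMod p) + 3 ≠ 0 := by exact_mod_cast hn (k + 3) (by omega) (by omega)
  have f4 : (k : ZMod p) + 4 ≠ 0 := by exact_mod_cast hn (k + 4) (by omega) (by omega)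
  have f7 : (k : ZMod p) + 7 ≠ 0 := by exact_mod_cast hn (k + 7) (by omega) (by omega)
  have f8 : (k : ZMod p) + 8 ≠ 0 := by exact_mod_cast hn (k + 8) (by omega) (by omega)
  have f0 : (k : ZMod p) ≠ 0 := hn k (by omega) (by omega)
  have f1 : (k : ZMod p) - 1 ≠ 0 := by
    have := hn (k - 1) (by omega) (by omega)
    rwa [Nat.cast_sub (by omega), Nat.cast_one] at this
  have hS : ((2 * k + 2 * 2).choose (k + 2) : ZMod p) ≠ 0 := by
    intro h0
    have e := Nat.choose_mul_factorial_mul_factorial (show k + 2 ≤ 2 * k + 2 * 2 by omega)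
    have e' := congrArg (Nat.cast : ℕ → ZMod p) e
    push_cast at e'
    rw [h0, zero_mul, zero_mul] at e'
    exact factorial_ne_zero (p := p) (show 2 * k + 2 * 2 < p by omega) e'.symm
  have f2 : (1 - c) ^ 2 ≠ 0 := pow_ne_zero _ (sub_ne_zero.2 (Ne.symm hc1))
  exact mul_ne_zero (mul_ne_zero (mul_ne_zero (mul_ne_zero (mul_ne_zero (mul_ne_zero
    (mul_ne_zero f3 f4) f7) f8) f0) f1) f2) hS fin

/-- The equation at `k = 3` for `r = 2` excludes everything but `c = ± 1`. -/
theorem no_squaring (hp : 7 < p) {c : ZMod p} (hc1 : c ≠ 1) (hc2 : c ≠ -1)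
    (h : ∑ i ∈ range (3 + 1), wt 3 2 i * ((1 - c ^ i) * (1 - c ^ (3 - i))) = 0) : False := by
  simp [Finset.sum_range_succ, wt, show Nat.choose 7 3 = 35 from rfl,
    show Nat.choose 7 4 = 35 from rfl] at h
  have h' : ((210 : ℕ) : ZMod p) * ((1 - c) ^ 2 * (1 + c)) = 0 := by push_cast; linear_combination h
  have h210 : ((210 : ℕ) : ZMod p) ≠ 0 := by
    rw [Ne, ZMod.natCast_eq_zero_iff, show (210 : ℕ) = 2 * 3 * (5 * 7) from rfl]
    have hP := (Fact.out : p.Prime)
    rw [hP.dvd_mul, hP.dvd_mul, hP.dvd_mul]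
    rintro ((h | h) | (h | h)) <;> exact absurd (Nat.le_of_dvd (by norm_num) h) (by omega)
  rcases mul_eq_zero.1 h' with h' | h'
  · exact h210 h'
  rcases mul_eq_zero.1 h' with h' | h'
  · exact hc1 (sub_eq_zero.1 (pow_eq_zero_iff two_ne_zero |>.1 h')).symm
  · exact hc2 (by linear_combination h')

end CfsgLib.PrimeFour
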