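import Mathlib.FieldTheory.Finite.Basic
import Mathlib.Algebra.Field.ZMod
import Mathlib.Data.Nat.Choose.Sum
import Mathlib.Data.Nat.Prime.Factorial
import Mathlib.Data.Nat.Choose.Vandermonde
import Mathlib.Tactic.Ring
import Mathlib.Tactic.LinearCombination

/-!
# Power sums and binomial coefficients modulo `p = 2q + 1`
-/

set_option autoImplicit false

namespace CfsgLib.PrimeFour

variable {p q : ℕ} [Fact p.Prime]

theorem sum_pow_eq (hp : p = 2 * q + 1) {n : ℕ} (hn : 0 < n) :
    ∑ x : ZMod p, x ^ n = if 2 * q ∣ n then -1 else 0 := by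
  classical
  have h := FiniteField.sum_pow_units (ZMod p) n
  rw [ZMod.card, show p - 1 = 2 * q by omega] at h
  rw [← h, ← Finset.add_sum_erase _ _ (Finset.mem_univ (0 : ZMod p)), zero_pow hn.ne', zero_add]
  refine Finset.sum_bij' (fun x hx => Units.mk0 x (Finset.ne_of_mem_erase hx)) (fun u _ => (u : ZMod p))
    (fun x hx => Finset.mem_univ _)
    (fun u _ => Finset.mem_erase.2 ⟨u.ne_zero, Finset.mem_univ _⟩)
    (fun x hx => rfl) (fun u _ => Units.ext rfl) (fun x hx => by simp)

/-- The only surviving term of a moment of a translated power. -/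
theorem sum_pow_mul_add_pow (hp : p = 2 * q + 1) (v : ZMod p) {n N : ℕ} (hn : 0 < n)
    (hn2 : n ≤ 2 * q) (hnN : n + N < 4 * q) :
    ∑ y : ZMod p, y ^ n * (y + v) ^ N =
      -((N.choose (2 * q - n) : ZMod p) * v ^ (N - (2 * q - n))) := by
  simp only [add_pow, Finset.mul_sum]
  rw [Finset.sum_comm]
  have h : ∀ l ∈ Finset.range (N + 1), ∑ y : ZMod p, y ^ n * (y ^ l * v ^ (N - l) * (N.choose l : ZMod p)) =
      (if 2 * q ∣ n + l then (-1 : ZMod p) else 0) * (v ^ (N - l) * (N.choose l : ZMod p)) := by
    intro l _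
    rw [← sum_pow_eq hp (show 0 < n + l by omega), Finset.sum_mul]
    exact Finset.sum_congr rfl fun y _ => by rw [pow_add]; ring
  rw [Finset.sum_congr rfl h]
  have hiff : ∀ l, l ∈ Finset.range (N + 1) → (2 * q ∣ n + l ↔ l = 2 * q - n) := by
    intro l hl
    rw [Finset.mem_range] at hl
    constructor
    · rintro ⟨c, hc⟩
      rcases c with _ | _ | c
      · omega
      · omega
      · exfalso
        have : 2 * q * 2 ≤ 2 * q * (c + 1 + 1) := Nat.mul_le_mul_left _ (by omega)
        omega
    · rintro rfl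
      exact ⟨1, by omega⟩
  by_cases hle : 2 * q - n ≤ N
  · rw [Finset.sum_eq_single (2 * q - n)]
    · rw [if_pos ((hiff _ (Finset.mem_range.2 (by omega))).2 rfl)]
      ring
    · intro l hl hne
      rw [if_neg (fun h' => hne ((hiff l hl).1 h')), zero_mul]
    · intro h'
      exact absurd (Finset.mem_range.2 (by omega)) h'
  · rw [Nat.choose_eq_zero_of_lt (by omega), Nat.cast_zero, zero_mul, neg_zero]
    refine Finset.sum_eq_zero fun l hl => ?_
    rw [if_neg, zero_mul]
    intro h'
    have := (hiff l hl).1 h'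
    rw [Finset.mem_range] at hl
    omega

/-- The moment of a translated piecewise power against a piecewise power. -/
theorem moment_eq (hp : p = 2 * q + 1) (v A B α β : ZMod p) {m r : ℕ} (hm : 0 < m) (hmr : m + r < q) :
    ∑ y : ZMod p, (A * y ^ m + B * y ^ (m + q)) * (α * (y + v) ^ r + β * (y + v) ^ (r + q)) =
      -(B * β * ((r + q).choose (q - m) : ZMod p) * v ^ (r + m)) := by
  have h1 : ∀ n N, 0 < n → n ≤ 2 * q → n + N < 2 * q → ∑ y : ZMod p, y ^ n * (y + v) ^ N = 0 := by
    intro n N hn hn2 hlt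
    rw [sum_pow_mul_add_pow hp v hn hn2 (by omega), Nat.choose_eq_zero_of_lt (by omega), Nat.cast_zero,
      zero_mul, neg_zero]
  have e1 : ∑ y : ZMod p, (A * y ^ m + B * y ^ (m + q)) * (α * (y + v) ^ r + β * (y + v) ^ (r + q)) =
      A * α * ∑ y : ZMod p, y ^ m * (y + v) ^ r + A * β * ∑ y : ZMod p, y ^ m * (y + v) ^ (r + q) +
      B * α * ∑ y : ZMod p, y ^ (m + q) * (y + v) ^ r +
      B * β * ∑ y : ZMod p, y ^ (m + q) * (y + v) ^ (r + q) := by
    simp only [Finset.mul_sum, ← Finset.sum_add_distrib]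
    exact Finset.sum_congr rfl fun y _ => by ring
  rw [e1, h1 m r hm (by omega) (by omega), h1 m (r + q) hm (by omega) (by omega),
    h1 (m + q) r (by omega) (by omega) (by omega),
    sum_pow_mul_add_pow hp v (show 0 < m + q by omega) (by omega) (by omega),
    show 2 * q - (m + q) = q - m by omega, show r + q - (q - m) = r + m by omega]
  ring

theorem natCast_ne_zero_of_lt {n : ℕ} (h0 : 0 < n) (hn : n < p) : (n : ZMod p) ≠ 0 := by
  rw [Ne, ZMod.natCast_eq_zero_iff]
  exact fun h => absurd (Nat.le_of_dvd h0 h) (by omega)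

theorem two_mul_q (hp : p = 2 * q + 1) : 2 * (q : ZMod p) = -1 := by
  have h : ((2 * q + 1 : ℕ) : ZMod p) = 0 := by rw [← hp, ZMod.natCast_self]
  push_cast at h
  linear_combination h

theorem factorial_ne_zero {n : ℕ} (hn : n < p) : (n.factorial : ZMod p) ≠ 0 := by
  rw [Ne, ZMod.natCast_eq_zero_iff, Nat.Prime.dvd_factorial Fact.out]
  omega

theorem choose_step (N n : ℕ) :
    (N.choose (n + 1) : ZMod p) * ((n : ZMod p) + 1) = (N.choose n : ZMod p) * ((N : ZMod p) - n) := by
  have h := Nat.choose_succ_right_eq N n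
  rcases le_or_gt n N with hle | hlt
  · have h' : ((N.choose (n + 1) * (n + 1) : ℕ) : ZMod p) = ((N.choose n * (N - n) : ℕ) : ZMod p) := by
      rw [h]
    push_cast [Nat.cast_sub hle] at h'
    exact h'
  · rw [Nat.choose_eq_zero_of_lt hlt, Nat.choose_eq_zero_of_lt (by omega)]
    simp

/-- The half integral binomial coefficients. -/
theorem choose_half (hp : p = 2 * q + 1) (r : ℕ) : ∀ i : ℕ, r + i < p →
    ((r + q).choose (r + i) : ZMod p) * ((r + i).factorial : ZMod p) * (i.factorial : ZMod p) *
        (-4) ^ i =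
      ((r + q).choose r : ZMod p) * (r.factorial : ZMod p) * ((2 * i).factorial : ZMod p) := by
  intro i
  induction i with
  | zero => intro _; simp
  | succ i ih =>
    intro hi
    have h1 := choose_step (p := p) (r + q) (r + i)
    have h2 := two_mul_q (p := p) hp
    have h3 := ih (by omega)
    rw [show r + (i + 1) = r + i + 1 by ring, Nat.factorial_succ, Nat.factorial_succ,
      show 2 * (i + 1) = 2 * i + 1 + 1 by ring, Nat.factorial_succ, Nat.factorial_succ]
    push_cast at h1 ⊢
    linear_combination ((r + i).factorial : ZMod p) * (i.factorial : ZMod p) * ((i : ZMod p) + 1) * (-4) ^ (i + 1) * h1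
      - 2 * ((r + q).choose (r + i) : ZMod p) * ((r + i).factorial : ZMod p) * (i.factorial : ZMod p) *
          ((i : ZMod p) + 1) * (-4) ^ i * h2
      + (2 * (i : ZMod p) + 1) * (2 * (i : ZMod p) + 2) * h3

/-- The sum of the weights. -/
theorem sum_weight (k r : ℕ) :
    ∑ i ∈ Finset.range (k + 1), (k.choose i) * (k + 2 * r).choose (r + i) =
      (2 * k + 2 * r).choose (k + r) := by
  have hsplit : 2 * k + 2 * r = k + (k + 2 * r) := by ring
  rw [hsplit, Nat.add_choose_eq, Finset.Nat.sum_antidiagonal_eq_sum_range_succ_mk]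
  rw [← Finset.sum_subset (show Finset.range (k + 1) ⊆ Finset.range (k + r + 1) from
    Finset.range_mono (by omega))
    (fun i _ hi => by
      rw [Finset.mem_range] at hi
      simp [Nat.choose_eq_zero_of_lt (show k < i by omega)])]
  rw [← Finset.sum_range_reflect]
  refine Finset.sum_congr rfl fun i hi => ?_
  rw [Finset.mem_range] at hi
  simp only [show k + 1 - 1 - i = k - i by omega]
  rw [Nat.choose_symm (by omega), show k + r - i = r + (k - i) by omega]

end CfsgLib.PrimeFour
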