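import Cfsg.Agent.Lib.PrimeFour.Four
import Cfsg.Agent.Lib.TwinPrime.Lines
import Cfsg.Agent.Lib.TwinPrime.Orbits

/-!
# The group is triply transitive

Otherwise the triples fall into two orbits symmetric in the coordinates, and then there are at
least seven orbits on pairs of pairs where the character degrees allow six.
-/

set_option autoImplicit false
set_option linter.unusedSectionVars false

open MulAction Subgroup Equiv
open Cfsg CfsgLib.Characters
open scoped Classical Pointwise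

namespace CfsgLib.PrimeFour

open CfsgLib.TwinPrime

section Combinatorics

variable {α : Type*} {R : α → α → α → Prop}

/-- Every four points contain a collinear triple: impossible in a proper linear space. -/
theorem false_of_one_four (hswap : ∀ {a b c}, R a b c → R b a c) (hrot : ∀ {a b c}, R a b c → R a c b)
    (hne : ∀ {a b c}, R a b c → a ≠ b ∧ a ≠ c ∧ b ≠ c)
    (hpos : ∀ {a b c d}, a ≠ b → a ≠ c → a ≠ d → b ≠ c → b ≠ d → c ≠ d →
      R a b c ∨ R a b d ∨ R a c d ∨ R b c d)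
    (htrans : ∀ {a b c d}, R a b c → R a b d → c ≠ d → R a c d ∧ R b c d)
    {a b c : α} (hab : a ≠ b) (hac : a ≠ c) (hbc : b ≠ c) (habc : ¬ R a b c)
    (hd : ∃ d, R a b d) (he : ∃ e, R a c e) : False := by
  obtain ⟨d, hd⟩ := hd
  obtain ⟨e, he⟩ := he
  obtain ⟨-, had, hbd⟩ := hne hd
  obtain ⟨-, hae, hce⟩ := hne he
  have hdc : d ≠ c := fun h => habc (h ▸ hd)
  have heb : e ≠ b := fun h => habc (hrot (h ▸ he))
  -- collinearity with two common points
  have hde : d ≠ e := fun h => by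
    subst h
    exact habc (htrans (hrot hd) (hrot he) hbc).1
  have hcyc : ∀ {x y z}, R x y z → R y z x := fun h => hrot (hswap h)
  rcases hpos hbd hbc heb.symm hdc hde hce with h | h | h | h
  · -- R b d c
    exact habc (hcyc (hcyc (htrans h (hcyc hd) hac.symm).1))
  · -- R b d e
    have h1 : R b e a := (htrans h (hcyc hd) hae.symm).1
    exact habc (htrans (hrot (hcyc (hcyc h1))) (hrot he) hbc).1
  · -- R b c e
    exact habc (hcyc (hcyc (hswap (htrans (hcyc h) (hcyc he) hab.symm).1)))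
  · -- R d c e
    have h3 : R c d a := (htrans (hcyc h) (hcyc he) had.symm).1
    exact habc (hrot (htrans (hswap (hcyc h3)) (hrot hd) hbc.symm).1)

/-- No three points of the link of a point form a triangle or an anti-triangle. -/
theorem false_of_two (t : α → α → α → ℕ) (ht : ∀ a b c, (R a b c → t a b c = 1) ∧ t a b c ≤ 1)
    (hne : ∀ {a b c}, R a b c → a ≠ b ∧ a ≠ c ∧ b ≠ c)
    (hsum : ∀ {a b c d}, a ≠ b → a ≠ c → a ≠ d → b ≠ c → b ≠ d → c ≠ d →
      t a b c + t a b d + t a c d + t b c d = 2)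
    {a x y₁ y₂ y₃ : α} (h1 : R a x y₁) (h2 : R a x y₂) (h3 : R a x y₃)
    (h12 : y₁ ≠ y₂) (h13 : y₁ ≠ y₃) (h23 : y₂ ≠ y₃) : False := by
  obtain ⟨hax, ha1, hx1⟩ := hne h1
  obtain ⟨-, ha2, hx2⟩ := hne h2
  obtain ⟨-, ha3, hx3⟩ := hne h3
  have key : ∀ y z, R a x y → R a x z → a ≠ y → a ≠ z → x ≠ y → x ≠ z → y ≠ z → t a y z = 0 := by
    intro y z hy hz hay haz hxy hxz hyz
    have hs := hsum hax hay haz hxy hxz hyz
    rw [(ht a x y).1 hy, (ht a x z).1 hz] at hs
    omega
  have hs := hsum ha1 ha2 ha3 h12 h13 h23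
  rw [key _ _ h1 h2 ha1 ha2 hx1 hx2 h12, key _ _ h1 h3 ha1 ha3 hx1 hx3 h13,
    key _ _ h2 h3 ha2 ha3 hx2 hx3 h23] at hs
  have := (ht y₁ y₂ y₃).2
  omega

end Combinatorics

variable {p q : ℕ} [Fact p.Prime] [Fact q.Prime]

/-- The two fused orbits, with all their symmetries. -/
structure Fused (G : Subgroup (Perm (ZMod p))) (R R' : ZMod p → ZMod p → ZMod p → Prop) : Prop where
  orb : TripleOrbit G R
  orb' : TripleOrbit G R'
  swap : ∀ {a b c}, R a b c → R b a c
  rot : ∀ {a b c}, R a b c → R a c b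
  swap' : ∀ {a b c}, R' a b c → R' b a c
  rot' : ∀ {a b c}, R' a b c → R' a c b
  cover : ∀ {a b c}, a ≠ b → a ≠ c → b ≠ c → R a b c ∨ R' a b c
  excl : ∀ {a b c}, R a b c → ¬ R' a b c
  three : ∀ {a b}, a ≠ b → ∃ y₁ y₂ y₃, R a b y₁ ∧ R a b y₂ ∧ R a b y₃ ∧
    y₁ ≠ y₂ ∧ y₁ ≠ y₃ ∧ y₂ ≠ y₃
  three' : ∀ {a b}, a ≠ b → ∃ y₁ y₂ y₃, R' a b y₁ ∧ R' a b y₂ ∧ R' a b y₃ ∧
    y₁ ≠ y₂ ∧ y₁ ≠ y₃ ∧ y₂ ≠ y₃

namespace Ctx

variable {G : Subgroup (Perm (ZMod p))} (C : Ctx q G)

include C

theorem move_two {a b a' b' : ZMod p} (h : a ≠ b) (h' : a' ≠ b') :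
    ∃ g ∈ G, g a = a' ∧ g b = b' := by
  obtain ⟨g, h1, h2⟩ := is_two_pretransitive_iff.1 C.two_trans h h'
  exact ⟨g, g.2, h1, h2⟩

theorem not_three_dvd : ¬ 3 ∣ p * p - p := by
  have hp := C.hp
  have hq11 := C.hq11
  have hq3 : q % 3 ≠ 0 := fun h => by
    have := (Nat.prime_dvd_prime_iff_eq Nat.prime_three C.hq).1 (Nat.dvd_of_mod_eq_zero h)
    omega
  have hp3 : p % 3 ≠ 0 := fun h => by
    have := (Nat.prime_dvd_prime_iff_eq Nat.prime_three (Fact.out : p.Prime)).1
      (Nat.dvd_of_mod_eq_zero h)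
    omega
  have e : p * p - p = p * (2 * q) := by
    rw [show 2 * q = p - 1 by omega, Nat.mul_sub, mul_one]
  rw [e, Nat.prime_three.dvd_mul, Nat.prime_three.dvd_mul]
  omega

/-- A symmetric orbit has at least three third points over each pair. -/
theorem three_points {R : ZMod p → ZMod p → ZMod p → Prop} (hR : TripleOrbit G R)
    (hswap : ∀ {a b c}, R a b c → R b a c) (hrot : ∀ {a b c}, R a b c → R a c b)
    (hnon : ∃ a b c, R a b c) {a b : ZMod p} (hab : a ≠ b) :
    ∃ y₁ y₂ y₃, R a b y₁ ∧ R a b y₂ ∧ R a b y₃ ∧ y₁ ≠ y₂ ∧ y₁ ≠ y₃ ∧ y₂ ≠ y₃ := by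
  have h2 : ∀ {a b a' b' : ZMod p}, a ≠ b → a' ≠ b' → ∃ g ∈ G, g a = a' ∧ g b = b' :=
    fun h h' => C.move_two h h'
  have hcyc : ∀ {a b c}, R a b c → R b c a := fun h => hrot (hswap h)
  set T := {t : ZMod p × ZMod p × ZMod p // R t.1 t.2.1 t.2.2}
  let σ : Perm T :=
    { toFun := fun t => ⟨(t.1.2.1, t.1.2.2, t.1.1), hcyc t.2⟩
      invFun := fun t => ⟨(t.1.2.2, t.1.1, t.1.2.1), hcyc (hcyc t.2)⟩
      left_inv := fun t => rfl
      right_inv := fun t => rfl }
  have hσ : σ ^ 3 ^ 1 = 1 := by ext t <;> rfl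
  have hsupp : σ.supportᶜ = ∅ := by
    refine Finset.eq_empty_of_forall_notMem fun t ht => ?_
    rw [Finset.mem_compl, Perm.mem_support, not_not] at ht
    have := congrArg (fun s : T => s.1.1) ht
    exact (hR.ne t.2).1 this.symm
  have : Fact (Nat.Prime 3) := ⟨Nat.prime_three⟩
  have h := Perm.card_compl_support_modEq hσ
  rw [hsupp, Finset.card_empty, Fintype.card_subtype] at h
  have hd : 3 ∣ (p * p - p) * (Finset.univ.filter (R a b)).card := by
    have e := card_triples hR h2 hab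
    rw [Finset.offDiag_card, Finset.card_univ, ZMod.card] at e
    rw [← e]
    exact Nat.modEq_zero_iff_dvd.1 h.symm
  have h3 := (Nat.prime_three.dvd_mul.1 hd).resolve_left C.not_three_dvd
  obtain ⟨a₀, b₀, c₀, h₀⟩ := hnon
  have hpos : 0 < (Finset.univ.filter (R a b)).card := by
    rw [hR.card_section h2 hab (hR.ne h₀).1]
    exact Finset.card_pos.2 ⟨c₀, by simp [h₀]⟩
  have := Nat.le_of_dvd hpos h3
  obtain ⟨y₁, y₂, y₃, m1, m2, m3, e1, e2, e3⟩ := Finset.two_lt_card_iff.1 (show 2 < _ from this)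
  simp only [Finset.mem_filter, Finset.mem_univ, true_and] at m1 m2 m3
  exact ⟨y₁, y₂, y₃, m1, m2, m3, e1, e2, e3⟩

/-- Two orbits on triples are symmetric. -/
theorem exists_fused (h : ¬ IsMultiplyPretransitive G (ZMod p) 3) :
    ∃ R R', Fused G R R' := by
  have := C.trans
  have h2 : ∀ {a b a' b' : ZMod p}, a ≠ b → a' ≠ b' → ∃ g ∈ G, g a = a' ∧ g b = b' :=
    fun h h' => C.move_two h h'
  have h01 : (0 : ZMod p) ≠ 1 := zero_ne_one
  have hnot : ¬ ∀ c c' : ZMod p, c ≠ 0 → c ≠ 1 → c' ≠ 0 → c' ≠ 1 →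
      ∃ g ∈ G, g 0 = 0 ∧ g 1 = 1 ∧ g c = c' := by
    refine fun hall => h ⟨fun x y => ?_⟩
    obtain ⟨u, hu, u0, u1⟩ := h2 (x.injective.ne (show (0 : Fin 3) ≠ 1 by decide)) h01
    obtain ⟨v, hv, v0, v1⟩ := h2 (y.injective.ne (show (0 : Fin 3) ≠ 1 by decide)) h01
    obtain ⟨g, hg, g0, g1, g2⟩ := hall (u (x 2)) (v (y 2))
      (u0 ▸ u.injective.ne (x.injective.ne (by decide))) (u1 ▸ u.injective.ne (x.injective.ne (by decide)))
      (v0 ▸ v.injective.ne (y.injective.ne (by decide))) (v1 ▸ v.injective.ne (y.injective.ne (by decide)))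
    refine ⟨⟨v⁻¹ * g * u, G.mul_mem (G.mul_mem (G.inv_mem hv) hg) hu⟩,
      Function.Embedding.ext fun i => ?_⟩
    rw [Function.Embedding.smul_apply]
    show v⁻¹ (g (u (x i))) = y i
    rw [Perm.inv_def, Equiv.symm_apply_eq]
    fin_cases i
    · show g (u (x 0)) = v (y 0); rw [u0, g0, v0]
    · show g (u (x 1)) = v (y 1); rw [u1, g1, v1]
    · exact g2
  push Not at hnot
  obtain ⟨c₁, c₂, h10, h11, h20, h21, hsep⟩ := hnot
  let R : ZMod p → ZMod p → ZMod p → Prop := fun a b c => ∃ g ∈ G, g 0 = a ∧ g 1 = b ∧ g c₁ = c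
  let R' : ZMod p → ZMod p → ZMod p → Prop := fun a b c => ∃ g ∈ G, g 0 = a ∧ g 1 = b ∧ g c₂ = c
  have mkT : ∀ d : ZMod p, d ≠ 0 → d ≠ 1 →
      TripleOrbit G (fun a b c => ∃ g ∈ G, g 0 = a ∧ g 1 = b ∧ g d = c) := by
    intro d hd0 hd1
    refine ⟨?_, ?_, ?_⟩
    · rintro a b c ⟨g, -, rfl, rfl, rfl⟩
      exact ⟨g.injective.ne h01, g.injective.ne hd0.symm, g.injective.ne hd1.symm⟩
    · rintro h hh a b c ⟨g, hg, rfl, rfl, rfl⟩
      exact ⟨h * g, G.mul_mem hh hg, rfl, rfl, rfl⟩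
    · rintro a b c a' b' c' ⟨g, hg, rfl, rfl, rfl⟩ ⟨g', hg', rfl, rfl, rfl⟩
      exact ⟨g' * g⁻¹, G.mul_mem hg' (G.inv_mem hg), by simp, by simp, by simp⟩
  have hR : TripleOrbit G R := mkT c₁ h10 h11
  have hR' : TripleOrbit G R' := mkT c₂ h20 h21
  have hexcl : ∀ {a b c}, R a b c → ¬ R' a b c := by
    rintro a b c ⟨g, hg, rfl, rfl, rfl⟩ ⟨g', hg', e0, e1, e2⟩
    refine hsep (g'⁻¹ * g) (G.mul_mem (G.inv_mem hg') hg) ?_ ?_ ?_ <;>
      rw [Perm.mul_apply, Perm.inv_def, Equiv.symm_apply_eq]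
    exacts [e0.symm, e1.symm, e2.symm]
  have he : HasHalfAffine G (Equiv.refl (ZMod p)) := C.aff
  have hneg : ¬ IsSquare (-1 : ZMod p) := fun hsq => by
    have h1 := (ZMod.euler_criterion p (neg_ne_zero.2 one_ne_zero)).1 hsq
    rw [show p / 2 = q by have := C.hp; omega, C.odd_q.neg_one_pow] at h1
    exact C.neg_one_ne h1
  have hcover : ∀ {a b c}, a ≠ b → a ≠ c → b ≠ c → R a b c ∨ R' a b c := by
    intro a b c hab hac hbc
    obtain ⟨u, hu, rfl, rfl⟩ := h2 h01 hab
    obtain ⟨d, rfl⟩ := u.surjective c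
    obtain ⟨g, hg, g0, g1, hcases⟩ := two_orbits (ZMod.card p) G C.insol (Equiv.refl (ZMod p)) he hneg
      (c₁ := c₁) (c₂ := c₂) ⟨h10, h11⟩ ⟨h20, h21⟩
      (c₃ := d) ⟨fun h => hac (by rw [h]; rfl), fun h => hbc (by rw [h]; rfl)⟩
    simp only [Equiv.refl_apply] at g0 g1
    rcases hcases with h | h | h
    · exact absurd h (hsep g hg g0 g1)
    · exact Or.inl ⟨u * g, G.mul_mem hu hg, by simp [g0], by simp [g1], by simp [h]⟩
    · exact Or.inr ⟨u * g, G.mul_mem hu hg, by simp [g0], by simp [g1], by simp [h]⟩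
  have hcards : (triples R).card ≠ (triples R').card := by
    rw [card_triples hR h2 h01, card_triples hR' h2 h01]
    intro heq
    have hpos : 0 < (Finset.univ : Finset (ZMod p)).offDiag.card :=
      Finset.card_pos.2 ⟨(0, 1), Finset.mem_offDiag.2 ⟨Finset.mem_univ _, Finset.mem_univ _, h01⟩⟩
    have hsame := Nat.eq_of_mul_eq_mul_left hpos heq
    have hunion : (Finset.univ.filter (R 0 1)).card + (Finset.univ.filter (R' 0 1)).card + 2 = p := by
      rw [← Finset.card_union_of_disjoint (Finset.disjoint_left.2 fun c hc hc' => by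
        simp only [Finset.mem_filter, Finset.mem_univ, true_and] at hc hc'
        exact hexcl hc hc')]
      have e : Finset.univ.filter (R 0 1) ∪ Finset.univ.filter (R' 0 1) =
          (Finset.univ.erase (0 : ZMod p)).erase 1 := by
        ext c
        simp only [Finset.mem_union, Finset.mem_filter, Finset.mem_univ, true_and, Finset.mem_erase]
        constructor
        · rintro (hc | hc)
          · exact ⟨(hR.ne hc).2.2.symm, (hR.ne hc).2.1.symm, trivial⟩
          · exact ⟨(hR'.ne hc).2.2.symm, (hR'.ne hc).2.1.symm, trivial⟩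
        · exact fun hc => hcover h01 hc.2.1.symm hc.1.symm
      rw [e, Finset.card_erase_of_mem (by simp), Finset.card_erase_of_mem (Finset.mem_univ _),
        Finset.card_univ, ZMod.card]
      have := C.p_ge; omega
    have := C.hp
    simp only [← Fintype.card_subtype, ← Nat.card_eq_fintype_card] at hsame hunion
    omega
  have hexcl' : ∀ {a b c}, R' a b c → ¬ R a b c := fun h h' => hexcl h' h
  have hcover' : ∀ {a b c}, a ≠ b → a ≠ c → b ≠ c → R' a b c ∨ R a b c :=
    fun h1 h2 h3 => (hcover h1 h2 h3).symm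
  let fs : Perm (ZMod p × ZMod p × ZMod p) :=
    { toFun := fun t => (t.2.1, t.1, t.2.2)
      invFun := fun t => (t.2.1, t.1, t.2.2)
      left_inv := fun t => rfl
      right_inv := fun t => rfl }
  let fr : Perm (ZMod p × ZMod p × ZMod p) :=
    { toFun := fun t => (t.1, t.2.2, t.2.1)
      invFun := fun t => (t.1, t.2.2, t.2.1)
      left_inv := fun t => rfl
      right_inv := fun t => rfl }
  have hs : ∀ t : ZMod p × ZMod p × ZMod p, t.1 ≠ t.2.1 ∧ t.1 ≠ t.2.2 ∧ t.2.1 ≠ t.2.2 →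
      (fs t).1 ≠ (fs t).2.1 ∧ (fs t).1 ≠ (fs t).2.2 ∧ (fs t).2.1 ≠ (fs t).2.2 :=
    fun t ht => ⟨ht.1.symm, ht.2.2, ht.2.1⟩
  have hr : ∀ t : ZMod p × ZMod p × ZMod p, t.1 ≠ t.2.1 ∧ t.1 ≠ t.2.2 ∧ t.2.1 ≠ t.2.2 →
      (fr t).1 ≠ (fr t).2.1 ∧ (fr t).1 ≠ (fr t).2.2 ∧ (fr t).2.1 ≠ (fr t).2.2 :=
    fun t ht => ⟨ht.2.1, ht.1, ht.2.2.symm⟩
  have swapR : ∀ {a b c}, R a b c → R b a c := fun {a b c} ht =>
    perm_coord hR hR' hcover hcards fs hs (fun _ _ => rfl) (t := (a, b, c)) ht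
  have rotR : ∀ {a b c}, R a b c → R a c b := fun {a b c} ht =>
    perm_coord hR hR' hcover hcards fr hr (fun _ _ => rfl) (t := (a, b, c)) ht
  have swapR' : ∀ {a b c}, R' a b c → R' b a c := fun {a b c} ht =>
    perm_coord hR' hR hcover' hcards.symm fs hs (fun _ _ => rfl) (t := (a, b, c)) ht
  have rotR' : ∀ {a b c}, R' a b c → R' a c b := fun {a b c} ht =>
    perm_coord hR' hR hcover' hcards.symm fr hr (fun _ _ => rfl) (t := (a, b, c)) ht
  exact ⟨R, R', hR, hR', swapR, rotR, swapR', rotR', hcover, hexcl,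
    fun hab => C.three_points hR swapR rotR ⟨0, 1, c₁, 1, G.one_mem, rfl, rfl, rfl⟩ hab,
    fun hab => C.three_points hR' swapR' rotR' ⟨0, 1, c₂, 1, G.one_mem, rfl, rfl, rfl⟩ hab⟩

/-- A point related to a pair. -/
def Rel (R : ZMod p → ZMod p → ZMod p → Prop) (z : Pair p) (x : ZMod p) : Prop :=
  ∃ a ∈ (z : Finset (ZMod p)), ∃ b ∈ (z : Finset (ZMod p)), R a b x

theorem fused_false {R R' : ZMod p → ZMod p → ZMod p → Prop} (F : Fused G R R') : False := by
  have hne : ∀ {a b c}, R a b c → a ≠ b ∧ a ≠ c ∧ b ≠ c := F.orb.ne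
  have hne' : ∀ {a b c}, R' a b c → a ≠ b ∧ a ≠ c ∧ b ≠ c := F.orb'.ne
  let Rz : Pair p → ZMod p → Prop := fun z x =>
    ∃ a ∈ (z : Finset (ZMod p)), ∃ b ∈ (z : Finset (ZMod p)), R a b x
  have hRz : ∀ {z : Pair p} {a b : ZMod p} {x : ZMod p}, (z : Finset (ZMod p)) = {a, b} →
      (Rz z x ↔ R a b x) := by
    intro z a b x hz
    refine ⟨?_, fun h => ⟨a, by simp [hz], b, by simp [hz], h⟩⟩
    rintro ⟨s, hs, t, ht, h⟩
    rw [hz, Finset.mem_insert, Finset.mem_singleton] at hs ht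
    have hst := (hne h).1
    rcases hs with rfl | rfl <;> rcases ht with rfl | rfl
    · exact absurd rfl hst
    · exact h
    · exact F.swap h
    · exact absurd rfl hst
  have hRz_smul : ∀ (g : G) (z : Pair p) x, Rz (g • z) ((g : Perm (ZMod p)) x) ↔ Rz z x := by
    intro g z x
    obtain ⟨a, b, hab, hz⟩ := C.exists_coords z
    have hz' : ((g • z : Pair p) : Finset (ZMod p)) =
        {(g : Perm (ZMod p)) a, (g : Perm (ZMod p)) b} := by
      rw [smul_pair, hz, Finset.image_insert, Finset.image_singleton]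
    rw [hRz hz', hRz hz, F.orb.inv_iff g.2]
  -- three orbits on pairs with a point
  let f : Pair p × ZMod p → ℕ := fun y =>
    if y.2 ∈ (y.1 : Finset (ZMod p)) then 0 else if Rz y.1 y.2 then 1 else 2
  have hfinv : ∀ (g : G) y, f (g • y) = f y := by
    rintro g ⟨z, x⟩
    show f (g • z, (g : Perm (ZMod p)) x) = f (z, x)
    simp only [f]
    refine if_congr ?_ rfl (if_congr (hRz_smul g z x) rfl rfl)
    rw [smul_pair]
    exact (g : Perm (ZMod p)).injective.mem_finset_image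
  have hfsep : ∀ y y', f y = f y' → ∃ g : G, g • y = y' := by
    rintro ⟨z, x⟩ ⟨z', x'⟩ h
    obtain ⟨a, b, hab, hz⟩ := C.exists_coords z
    obtain ⟨a', b', hab', hz'⟩ := C.exists_coords z'
    have mk : ∀ g ∈ G, ((g a = a' ∧ g b = b') ∨ (g a = b' ∧ g b = a')) → g x = x' →
        ∃ g : G, g • ((z, x) : Pair p × ZMod p) = (z', x') := by
      intro g hg hgab hgx
      refine ⟨⟨g, hg⟩, Prod.ext (Subtype.ext ?_) hgx⟩
      show ((((⟨g, hg⟩ : G) • z : Pair p)) : Finset (ZMod p)) = z'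
      rw [smul_pair, hz, hz', Finset.image_insert, Finset.image_singleton]
      rcases hgab with ⟨e1, e2⟩ | ⟨e1, e2⟩
      · rw [e1, e2]
      · rw [e1, e2, Finset.pair_comm]
    have hmem : x ∈ (z : Finset (ZMod p)) ↔ x = a ∨ x = b := by simp [hz]
    have hmem' : x' ∈ (z' : Finset (ZMod p)) ↔ x' = a' ∨ x' = b' := by simp [hz']
    simp only [f, hmem, hmem', hRz hz, hRz hz'] at h
    by_cases hx : x = a ∨ x = b
    · have hx' : x' = a' ∨ x' = b' := by
        by_contra hx'
        rw [if_pos hx, if_neg hx'] at h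
        split_ifs at h
      rcases hx with hx | hx <;> rcases hx' with hx' | hx'
      · obtain ⟨g, hg, e1, e2⟩ := C.move_two hab hab'
        exact mk g hg (Or.inl ⟨e1, e2⟩) (by rw [hx, e1, hx'])
      · obtain ⟨g, hg, e1, e2⟩ := C.move_two hab hab'.symm
        exact mk g hg (Or.inr ⟨e1, e2⟩) (by rw [hx, e1, hx'])
      · obtain ⟨g, hg, e1, e2⟩ := C.move_two hab hab'.symm
        exact mk g hg (Or.inr ⟨e1, e2⟩) (by rw [hx, e2, hx'])
      · obtain ⟨g, hg, e1, e2⟩ := C.move_two hab hab'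
        exact mk g hg (Or.inl ⟨e1, e2⟩) (by rw [hx, e2, hx'])
    · have hx' : ¬ (x' = a' ∨ x' = b') := fun hx' => by
        rw [if_neg hx, if_pos hx'] at h
        split_ifs at h
      rw [if_neg hx, if_neg hx'] at h
      simp only [not_or] at hx hx'
      by_cases hr : R a b x
      · have hr' : R a' b' x' := by
          by_contra hc
          rw [if_pos hr, if_neg hc] at h
          omega
        obtain ⟨g, hg, e1, e2, e3⟩ := F.orb.hom hr hr'
        exact mk g hg (Or.inl ⟨e1, e2⟩) e3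
      · have hr' : ¬ R a' b' x' := fun hc => by
          rw [if_neg hr, if_pos hc] at h
          omega
        obtain ⟨g, hg, e1, e2, e3⟩ := F.orb'.hom
          ((F.cover hab (Ne.symm hx.1) (Ne.symm hx.2)).resolve_left hr)
          ((F.cover hab' (Ne.symm hx'.1) (Ne.symm hx'.2)).resolve_left hr')
        exact mk g hg (Or.inl ⟨e1, e2⟩) e3
  have h01 : (0 : ZMod p) ≠ 1 := zero_ne_one
  obtain ⟨s, s', -, hs, hs', -, hss, -, -⟩ := F.three h01
  obtain ⟨r, r', -, hr, hr', -, hrr, -, -⟩ := F.three' h01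
  obtain ⟨-, hs0, hs1⟩ := hne hs
  obtain ⟨-, hr0, hr1⟩ := hne' hr
  have hm : C.mlt C.heart = 2 := by
    have h1 := card_image_le_orbits f hfinv
    have h2 := orbits_le_card_image f hfsep
    obtain ⟨z, hz⟩ := exists_pair h01
    have hsub : ({0, 1, 2} : Finset ℕ) ⊆ Finset.univ.image f := by
      intro v hv
      simp only [Finset.mem_insert, Finset.mem_singleton] at hv
      rcases hv with rfl | rfl | rfl
      · exact Finset.mem_image.2 ⟨(z, 0), Finset.mem_univ _, by simp [f, hz]⟩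
      · exact Finset.mem_image.2 ⟨(z, s), Finset.mem_univ _, by
          simp [f, hz, hRz hz, hs, hs0.symm, hs1.symm]⟩
      · have hnr : ¬ R 0 1 r := fun h => F.excl h hr
        exact Finset.mem_image.2 ⟨(z, r), Finset.mem_univ _, by
          simp [f, hz, hRz hz, hnr, hr0.symm, hr1.symm]⟩
    have hsup : Finset.univ.image f ⊆ ({0, 1, 2} : Finset ℕ) := by
      intro v hv
      obtain ⟨y, -, rfl⟩ := Finset.mem_image.1 hv
      simp only [f, Finset.mem_insert, Finset.mem_singleton]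
      split_ifs <;> simp
    rw [Finset.Subset.antisymm hsup hsub] at h1 h2
    have := C.mlt_heart_add_one
    have hc : ({0, 1, 2} : Finset ℕ).card = 3 := by decide
    omega
  -- six orbits on pairs of pairs
  have hnorm : Nat.card (Quotient (orbitRel G (Pair p × Pair p))) = 6 := by
    obtain ⟨e, he, hdeg⟩ := C.degree_count
    rw [hm] at hdeg
    have hpos : 0 ≤ ∑ φ ∈ C.rest, (C.mlt φ : ℤ) * (charDegree (φ : G → ℂ) : ℤ) :=
      Finset.sum_nonneg fun φ _ => mul_nonneg (Int.natCast_nonneg _) (Int.natCast_nonneg _)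
    have hq11 : (11 : ℤ) ≤ q := by exact_mod_cast C.hq11
    have he1 : e = 1 := by
      rcases he with rfl | rfl | rfl
      · rw [hdeg] at hpos; push_cast at hpos; nlinarith
      · rfl
      · rw [hdeg] at hpos; push_cast at hpos; nlinarith
    subst he1
    have hz : ∀ φ ∈ C.rest, C.mlt φ = 0 := by
      intro φ hφ
      have h0 : ∑ φ ∈ C.rest, (C.mlt φ : ℤ) * (charDegree (φ : G → ℂ) : ℤ) = 0 := by
        rw [hdeg]; push_cast; ring
      have h1 := (Finset.sum_eq_zero_iff_of_nonneg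
        (fun φ _ => mul_nonneg (Int.natCast_nonneg _) (Int.natCast_nonneg _))).1 h0 φ hφ
      rcases mul_eq_zero.1 h1 with h | h
      · exact_mod_cast h
      · exact absurd (show charDegree (φ : G → ℂ) = 0 by exact_mod_cast h)
          (CfsgLib.Chars17.irrDegree_pos φ).ne'
    rw [C.norm_eq, hm, Finset.sum_eq_zero (fun φ hφ => by rw [hz φ hφ]; rfl)]
    rfl
  -- the invariants of pairs of pairs
  let n : Pair p → Pair p → ℕ := fun z w =>
    ((w : Finset (ZMod p)).filter fun x => x ∉ (z : Finset (ZMod p)) ∧ Rz z x).card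
  let k : Pair p × Pair p → ℕ × ℕ × ℕ := fun y =>
    (((y.1 : Finset (ZMod p)) ∩ (y.2 : Finset (ZMod p))).card, n y.1 y.2, n y.2 y.1)
  have hn_smul : ∀ (g : G) z w, n (g • z) (g • w) = n z w := by
    intro g z w
    simp only [n]
    rw [smul_pair g w, Finset.filter_image,
      Finset.card_image_of_injective _ (g : Perm (ZMod p)).injective]
    congr 1
    refine Finset.filter_congr fun x _ => and_congr (not_congr ?_) (hRz_smul g z x)
    rw [smul_pair]
    exact (g : Perm (ZMod p)).injective.mem_finset_image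
  have hkinv : ∀ (g : G) y, k (g • y) = k y := by
    rintro g ⟨z, w⟩
    refine Prod.ext ?_ (Prod.ext (hn_smul g z w) (hn_smul g w z))
    show (((g • z : Pair p) : Finset (ZMod p)) ∩ ((g • w : Pair p) : Finset (ZMod p))).card = _
    rw [smul_pair, smul_pair, ← Finset.image_inter _ _ (g : Perm (ZMod p)).injective,
      Finset.card_image_of_injective _ (g : Perm (ZMod p)).injective]
  let t : ZMod p → ZMod p → ZMod p → ℕ := fun a b c => if R a b c then 1 else 0
  have ht1 : ∀ {a b c}, R a b c → t a b c = 1 := fun h => if_pos h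
  have ht0 : ∀ {a b c}, ¬ R a b c → t a b c = 0 := fun h => if_neg h
  have htle : ∀ a b c, t a b c ≤ 1 := fun a b c => by simp only [t]; split_ifs <;> omega
  have ts : ∀ a b c, t b a c = t a b c := fun a b c => if_congr ⟨F.swap, F.swap⟩ rfl rfl
  have tr : ∀ a b c, t a c b = t a b c := fun a b c => if_congr ⟨F.rot, F.rot⟩ rfl rfl
  have hn_disj : ∀ {a b c d : ZMod p}, c ≠ d → a ≠ c → a ≠ d → b ≠ c → b ≠ d →
      ∀ {z w : Pair p}, (z : Finset (ZMod p)) = {a, b} → (w : Finset (ZMod p)) = {c, d} →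
      n z w = t a b c + t a b d := by
    intro a b c d hcd hac had hbc hbd z w hz hw
    simp only [n, t]
    rw [hw, Finset.filter_insert, Finset.filter_singleton]
    simp only [hz, hRz hz, Finset.mem_insert, Finset.mem_singleton, not_or,
      and_iff_right (And.intro hac.symm hbc.symm), and_iff_right (And.intro had.symm hbd.symm)]
    split_ifs <;> simp [hcd]
  have hval : ∀ {a b c d : ZMod p}, a ≠ b → a ≠ c → a ≠ d → b ≠ c → b ≠ d → c ≠ d →
      (0, t a b c + t a b d, t a c d + t b c d) ∈ Finset.univ.image k := by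
    intro a b c d hab hac had hbc hbd hcd
    obtain ⟨z, hz⟩ := exists_pair hab
    obtain ⟨w, hw⟩ := exists_pair hcd
    refine Finset.mem_image.2 ⟨(z, w), Finset.mem_univ _, ?_⟩
    refine Prod.ext ?_ (Prod.ext (hn_disj hcd hac had hbc hbd hz hw) ?_)
    · show ((z : Finset (ZMod p)) ∩ (w : Finset (ZMod p))).card = 0
      rw [Finset.card_eq_zero, hz, hw, ← Finset.disjoint_iff_inter_eq_empty]
      simp [hac, had, hbc, hbd, hac.symm, had.symm, hbc.symm, hbd.symm]
    · show n w z = t a c d + t b c d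
      rw [hn_disj hab hac.symm hbc.symm had.symm hbd.symm hw hz]
      have e1 : t c d a = t a c d := by rw [← tr c d a, ts a c d]
      have e2 : t c d b = t b c d := by rw [← tr c d b, ts b c d]
      rw [e1, e2]
  have hsmall : (Finset.univ.image k).card ≤ 6 := hnorm ▸ card_image_le_orbits k hkinv
  obtain ⟨z, hz⟩ := exists_pair h01
  obtain ⟨ws, hws⟩ := exists_pair hs0
  obtain ⟨wr, hwr⟩ := exists_pair hr0
  have hself : (2, 0, 0) ∈ Finset.univ.image k := by
    refine Finset.mem_image.2 ⟨(z, z), Finset.mem_univ _, ?_⟩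
    have hn0 : n z z = 0 := by
      simp only [n, Finset.card_eq_zero, Finset.filter_eq_empty_iff]
      exact fun x hx h => h.1 hx
    exact Prod.ext (by simp [k, show (z : Finset (ZMod p)).card = 2 from z.2]) (Prod.ext hn0 hn0)
  have hadjR : (1, 1, 1) ∈ Finset.univ.image k := by
    refine Finset.mem_image.2 ⟨(z, ws), Finset.mem_univ _, Prod.ext ?_ (Prod.ext ?_ ?_)⟩
    · show ((z : Finset (ZMod p)) ∩ (ws : Finset (ZMod p))).card = 1
      rw [hz, hws]
      simp [hs1, hs1.symm, hs0, hs0.symm, Finset.inter_singleton_of_notMem]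
    · show n z ws = 1
      simp only [n]
      rw [hws, Finset.filter_insert, Finset.filter_singleton]
      simp [hz, hRz hz, hs, hs0.symm, hs1.symm]
    · show n ws z = 1
      simp only [n]
      rw [hz, Finset.filter_insert, Finset.filter_singleton]
      simp [hws, hRz hws, F.rot hs, hs1, h01.symm, hs0]
  have hadjR' : (1, 0, 0) ∈ Finset.univ.image k := by
    have hnr : ¬ R 0 1 r := fun h => F.excl h hr
    have hnr' : ¬ R 0 r 1 := fun h => hnr (F.rot h)
    refine Finset.mem_image.2 ⟨(z, wr), Finset.mem_univ _, Prod.ext ?_ (Prod.ext ?_ ?_)⟩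
    · show ((z : Finset (ZMod p)) ∩ (wr : Finset (ZMod p))).card = 1
      rw [hz, hwr]
      simp [hr1, hr1.symm, hr0, hr0.symm, Finset.inter_singleton_of_notMem]
    · show n z wr = 0
      simp only [n]
      rw [hwr, Finset.filter_insert, Finset.filter_singleton]
      simp [hz, hRz hz, hnr, hr0.symm, hr1.symm]
    · show n wr z = 0
      simp only [n]
      rw [hz, Finset.filter_insert, Finset.filter_singleton]
      simp [hwr, hRz hwr, hnr', hr1, h01.symm, hr0]
  -- witnesses for each type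
  obtain ⟨-, hs'0, hs'1⟩ := hne hs'
  obtain ⟨-, hr'0, hr'1⟩ := hne' hr'
  have hsr : s ≠ r := fun h => F.excl hs (h ▸ hr)
  have v0 := hval h01 hr0 hr'0 hr1 hr'1 hrr
  have v1 := hval h01 hs0 hr0 hs1 hr1 hsr
  have v2 := hval h01 hs0 hs'0 hs1 hs'1 hss
  rw [ht0 (fun h => F.excl h hr), ht0 (fun h => F.excl h hr')] at v0
  rw [ht1 hs, ht0 (fun h => F.excl h hr)] at v1
  rw [ht1 hs, ht1 hs'] at v2
  set x₀ := t 0 r r' + t 1 r r'
  set x₁ := t 0 s r + t 1 s r with hx₁
  set x₂ := t 0 s s' + t 1 s s'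
  set six : Finset (ℕ × ℕ × ℕ) :=
    {(2, 0, 0), (1, 1, 1), (1, 0, 0), (0, 0, x₀), (0, 1, x₁), (0, 2, x₂)} with hsix
  have hsixcard : six.card = 6 := by
    simp [hsix]
  have hsub : six ⊆ Finset.univ.image k := by
    intro v hv
    simp only [hsix, Finset.mem_insert, Finset.mem_singleton] at hv
    rcases hv with rfl | rfl | rfl | rfl | rfl | rfl
    exacts [hself, hadjR, hadjR', v0, v1, v2]
  have heqset : six = Finset.univ.image k :=
    Finset.eq_of_subset_of_card_le hsub (by rw [hsixcard]; exact hsmall)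
  have hphi : ∀ {a b c d : ZMod p}, a ≠ b → a ≠ c → a ≠ d → b ≠ c → b ≠ d → c ≠ d →
      (t a b c + t a b d = 0 → t a c d + t b c d = x₀) ∧
      (t a b c + t a b d = 1 → t a c d + t b c d = x₁) ∧
      (t a b c + t a b d = 2 → t a c d + t b c d = x₂) := by
    intro a b c d hab hac had hbc hbd hcd
    have h := hval hab hac had hbc hbd hcd
    rw [← heqset, hsix] at h
    simp only [Finset.mem_insert, Finset.mem_singleton, Prod.mk.injEq] at h
    refine ⟨fun e => ?_, fun e => ?_, fun e => ?_⟩ <;> omega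
  -- the four-point relations
  have hfour : ∀ {a b c d : ZMod p}, a ≠ b → a ≠ c → a ≠ d → b ≠ c → b ≠ d → c ≠ d →
      ((t a b c + t a b d = 0 → t a c d + t b c d = x₀) ∧
       (t a b c + t a b d = 1 → t a c d + t b c d = x₁) ∧
       (t a b c + t a b d = 2 → t a c d + t b c d = x₂)) ∧
      ((t a b c + t a c d = 0 → t a b d + t b c d = x₀) ∧
       (t a b c + t a c d = 1 → t a b d + t b c d = x₁) ∧
       (t a b c + t a c d = 2 → t a b d + t b c d = x₂)) ∧
      ((t a b d + t a c d = 0 → t a b c + t b c d = x₀) ∧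
       (t a b d + t a c d = 1 → t a b c + t b c d = x₁) ∧
       (t a b d + t a c d = 2 → t a b c + t b c d = x₂)) ∧
      t a b c ≤ 1 ∧ t a b d ≤ 1 ∧ t a c d ≤ 1 ∧ t b c d ≤ 1 := by
    intro a b c d hab hac had hbc hbd hcd
    have P1 := hphi hab hac had hbc hbd hcd
    have P2 := hphi hac hab had hbc.symm hcd hbd
    have P3 := hphi had hab hac hbd.symm hcd.symm hbc
    rw [tr a b c, ts b c d] at P2
    rw [tr a b d, tr a c d, show t d b c = t b c d by rw [ts b d c, tr b c d]] at P3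
    exact ⟨P1, P2, P3, htle _ _ _, htle _ _ _, htle _ _ _, htle _ _ _⟩
  -- the possible involutions
  obtain ⟨F1, -, -, -, -, hx0a, hx0b⟩ := hfour h01 hr0 hr'0 hr1 hr'1 hrr
  have hx0le : x₀ ≤ 2 := by omega
  have hx1le : x₁ ≤ 2 := by have := htle 0 s r; have := htle 1 s r; omega
  have hx2le : x₂ ≤ 2 := by have := htle 0 s s'; have := htle 1 s s'; omega
  have hinvol : ∀ {a b c d : ZMod p}, a ≠ b → a ≠ c → a ≠ d → b ≠ c → b ≠ d → c ≠ d →
      (t a c d + t b c d = 0 → t a b c + t a b d = x₀) ∧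
      (t a c d + t b c d = 1 → t a b c + t a b d = x₁) ∧
      (t a c d + t b c d = 2 → t a b c + t a b d = x₂) := by
    intro a b c d hab hac had hbc hbd hcd
    have P := hphi hcd hac.symm hbc.symm had.symm hbd.symm hab
    have e1 : t c d a = t a c d := by rw [← tr c d a, ts a c d]
    have e2 : t c d b = t b c d := by rw [← tr c d b, ts b c d]
    have e3 : t c a b = t a b c := by rw [ts a c b, tr a b c]
    have e4 : t d a b = t a b d := by rw [ts a d b, tr a b d]
    rwa [e1, e2, e3, e4] at P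
  have i0 := hinvol h01 hr0 hr'0 hr1 hr'1 hrr
  rw [ht0 (fun h => F.excl h hr), ht0 (fun h => F.excl h hr')] at i0
  have i1 := hinvol h01 hs0 hr0 hs1 hr1 hsr
  rw [ht1 hs, ht0 (fun h => F.excl h hr)] at i1
  have i2 := hinvol h01 hs0 hs'0 hs1 hs'1 hss
  rw [ht1 hs, ht1 hs'] at i2
  have hcases : (x₀ = 0 ∧ x₁ = 1 ∧ x₂ = 2) ∨ (x₀ = 1 ∧ x₁ = 0 ∧ x₂ = 2) ∨
      (x₀ = 0 ∧ x₁ = 2 ∧ x₂ = 1) ∨ (x₀ = 2 ∧ x₁ = 1 ∧ x₂ = 0) := by omega
  rcases hcases with ⟨e0, e1, e2⟩ | ⟨e0, e1, e2⟩ | ⟨e0, e1, e2⟩ | ⟨e0, e1, e2⟩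
  · have := hfour h01 hs0 hr0 hs1 hr1 hsr
    rw [ht1 hs, ht0 (fun h => F.excl h hr)] at this
    omega
  · -- collinearity in `R`
    refine false_of_one_four (R := R) F.swap F.rot hne ?_ ?_ (a := 0) (b := 1) (c := r) h01 hr0 hr1 (fun h => F.excl h hr)
      ⟨s, hs⟩ (show ∃ e, R 0 r e by obtain ⟨y, -, -, hy, -⟩ := F.three hr0; exact ⟨y, hy⟩)
    · intro a b c d hab hac had hbc hbd hcd
      by_contra hc
      simp only [not_or] at hc
      have := hfour hab hac had hbc hbd hcd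
      rw [ht0 hc.1, ht0 hc.2.1, ht0 hc.2.2.1, ht0 hc.2.2.2] at this
      omega
    · intro a b c d hc hd hcd
      obtain ⟨hab, hac, hbc⟩ := hne hc
      obtain ⟨-, had, hbd⟩ := hne hd
      have := hfour hab hac had hbc hbd hcd
      rw [ht1 hc, ht1 hd] at this
      refine ⟨?_, ?_⟩ <;> by_contra hn <;> rw [ht0 hn] at this <;> omega
  · -- collinearity in `R'`
    refine false_of_one_four (R := R') F.swap' F.rot' hne' ?_ ?_ (a := 0) (b := 1) (c := s) h01 hs0 hs1 (F.excl hs)
      ⟨r, hr⟩ (show ∃ e, R' 0 s e by obtain ⟨y, -, -, hy, -⟩ := F.three' hs0; exact ⟨y, hy⟩)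
    · intro a b c d hab hac had hbc hbd hcd
      by_contra hc
      simp only [not_or] at hc
      have := hfour hab hac had hbc hbd hcd
      rw [ht1 ((F.cover hab hac hbc).resolve_right hc.1),
        ht1 ((F.cover hab had hbd).resolve_right hc.2.1),
        ht1 ((F.cover hac had hcd).resolve_right hc.2.2.1),
        ht1 ((F.cover hbc hbd hcd).resolve_right hc.2.2.2)] at this
      omega
    · intro a b c d hc hd hcd
      obtain ⟨hab, hac, hbc⟩ := hne' hc
      obtain ⟨-, had, hbd⟩ := hne' hd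
      have := hfour hab hac had hbc hbd hcd
      rw [ht0 (fun h => F.excl h hc), ht0 (fun h => F.excl h hd)] at this
      refine ⟨(F.cover hac had hcd).resolve_left fun hn => ?_,
        (F.cover hbc hbd hcd).resolve_left fun hn => ?_⟩ <;> rw [ht1 hn] at this <;> omega
  · -- exactly two triples in every four points
    obtain ⟨y₁, y₂, y₃, h1, h2, h3, d12, d13, d23⟩ := F.three h01
    refine false_of_two t (fun a b c => ⟨ht1, htle a b c⟩) hne ?_ h1 h2 h3
      d12 d13 d23
    intro a b c d hab hac had hbc hbd hcd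
    have := hfour hab hac had hbc hbd hcd
    omega

theorem three_transitive : IsMultiplyPretransitive G (ZMod p) 3 := by
  by_contra h
  obtain ⟨R, R', hF⟩ := C.exists_fused h
  exact C.fused_false hF

/-- **The main theorem in coordinates.** -/
theorem main : IsMultiplyPretransitive G (ZMod p) 4 := C.four_transitive C.three_transitive

end Ctx

end CfsgLib.PrimeFour
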