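import Cfsg.Agent.Lib.PrimeFour.RankThree
import Cfsg.Agent.Lib.TwinPrime.Transfer
import Cfsg.Agent.Lib.PermGroup.DegreeEleven
import Cfsg.Agent.Lib.PermGroup.PrimeCycleGen
import Cfsg.Agent.Lib.Small.Order168
import Cfsg.Agent.Lib.Small.OrderSixty
import Mathlib.GroupTheory.SpecificGroups.Alternating.MaximalSubgroups

/-!
# Transitive groups of degree `2q + 1` with half Sylow normaliser
-/

set_option autoImplicit false
set_option linter.unusedSectionVars false

open MulAction Subgroup
open scoped Classical

namespace CfsgLib.PrimeFour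

variable {α : Type*} [Fintype α] [DecidableEq α] {p q : ℕ} [Fact p.Prime]

theorem four_of_alternating (hp7 : 7 ≤ p) (hα : Fintype.card α = p) {G : Subgroup (Equiv.Perm α)}
    (h : alternatingGroup α ≤ G) : IsMultiplyPretransitive G α 4 := by
  have : IsMultiplyPretransitive (alternatingGroup α) α (Nat.card α - 2) :=
    alternatingGroup.isMultiplyPretransitive α
  have h4 : IsMultiplyPretransitive (alternatingGroup α) α 4 :=
    isMultiplyPretransitive_of_le (n := Nat.card α - 2) (by rw [Nat.card_eq_fintype_card, hα]; omega)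
      (Nat.sub_le _ _)
  refine ⟨fun x y => ?_⟩
  obtain ⟨g, hg⟩ := h4.exists_smul_eq x y
  exact ⟨⟨g, h g.2⟩, Function.Embedding.ext fun i => DFunLike.congr_fun hg i⟩

/-- The general statement for a permutation group. -/
theorem four_transitive_or_small (hq : q.Prime) (hpq : p = 2 * q + 1) (hq11 : 11 ≤ q)
    (hα : Fintype.card α = p) (G : Subgroup (Equiv.Perm α)) [IsPretransitive G α]
    (hins : ¬ Group.IsSolvable G) (P : Sylow p G)
    (hN : 2 * Nat.card (normalizer ((P : Subgroup G) : Set G)) = p * (p - 1)) :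
    IsMultiplyPretransitive G α 4 := by
  by_cases hA : alternatingGroup α ≤ G
  · exact four_of_alternating (by omega) hα hA
  have hp2 : p ≠ 2 := by omega
  obtain ⟨e, he, hle⟩ := CfsgLib.TwinPrime.exists_half hα hp2 G P hN
  set F := e.symm.permCongrHom with hF
  set G' : Subgroup (Equiv.Perm (ZMod p)) := G.map F.toMonoidHom with hG'
  have hFapp : ∀ (g : Equiv.Perm α) (j : ZMod p), F g j = e.symm (g (e j)) := fun g j => rfl
  let φ : G ≃* G' := Subgroup.equivMapOfInjective G F.toMonoidHom F.injective
  have hφapp : ∀ (g : G) (j : ZMod p),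
      ((φ g : G') : Equiv.Perm (ZMod p)) j = e.symm ((g : Equiv.Perm α) (e j)) := fun g j => rfl
  have : Fact q.Prime := ⟨hq⟩
  have C : Ctx q G' :=
    { hp := hpq
      hq := hq
      hq11 := hq11
      trans := ⟨fun x y => by
        obtain ⟨g, hg⟩ := exists_smul_eq G (e x) (e y)
        exact ⟨φ g, by
          show ((φ g : G') : Equiv.Perm (ZMod p)) x = y
          rw [hφapp, show (g : Equiv.Perm α) (e x) = e y from hg, e.symm_apply_apply]⟩⟩
      insol := fun h => by
        have := h
        exact hins (Group.isSolvable_of_surjective (f := φ.symm.toMonoidHom) φ.symm.surjective)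
      proper := fun h => hA fun g hg => by
        have h1 : F g ∈ alternatingGroup (ZMod p) := by
          rw [Equiv.Perm.mem_alternatingGroup] at hg ⊢
          show Equiv.Perm.sign (e.symm.permCongr g) = 1
          rw [Equiv.Perm.sign_permCongr]; exact hg
        obtain ⟨g', hg', he'⟩ := h h1
        exact F.injective he' ▸ hg'
      even := by
        rintro _ ⟨g, hg, rfl⟩
        rw [Equiv.Perm.mem_alternatingGroup]
        show Equiv.Perm.sign (e.symm.permCongr g) = 1
        rw [Equiv.Perm.sign_permCongr]
        exact Equiv.Perm.mem_alternatingGroup.1 (hle hg)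
      aff := fun k v hk hsq => by
        obtain ⟨g, hg, hj⟩ := he k v hk hsq
        exact ⟨F g, Subgroup.mem_map_of_mem _ hg, fun j => by rw [hFapp, hj, e.symm_apply_apply]⟩ }
  have h4 := C.main
  refine ⟨fun x y => ?_⟩
  obtain ⟨g, hg⟩ := h4.exists_smul_eq (x.trans e.symm.toEmbedding) (y.trans e.symm.toEmbedding)
  obtain ⟨g₀, rfl⟩ := φ.surjective g
  refine ⟨g₀, Function.Embedding.ext fun i => ?_⟩
  have h1 : ((φ g₀ : G') : Equiv.Perm (ZMod p)) (e.symm (x i)) = e.symm (y i) :=
    DFunLike.congr_fun hg i
  rw [hφapp, e.apply_symm_apply] at h1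
  exact e.symm.injective h1

/-- Degree five: the alternating group. -/
theorem degree_five (hα : Fintype.card α = 5) (G : Subgroup (Equiv.Perm α)) [IsPretransitive G α]
    (hins : ¬ Group.IsSolvable G) (hle : G ≤ alternatingGroup α) :
    Nat.card G = 60 ∧ IsSimpleGroup G := by
  have : Fact (Nat.Prime 5) := ⟨by norm_num⟩
  have hnt : Nontrivial α := Fintype.one_lt_card_iff_nontrivial.1 (by omega)
  have hA : Nat.card (alternatingGroup α) = 60 := by
    have h := two_mul_card_alternatingGroup (α := α)
    rw [Fintype.card_perm, hα, show Nat.factorial 5 = 120 from rfl,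
      ← Nat.card_eq_fintype_card (α := alternatingGroup α)] at h
    omega
  have hsimp : IsSimpleGroup (alternatingGroup α) :=
    alternatingGroup.isSimpleGroup (by rw [Nat.card_eq_fintype_card]; omega)
  by_cases heq : G = alternatingGroup α
  · subst heq
    exact ⟨hA, hsimp⟩
  exfalso
  have hdvd := CfsgLib.PrimeCycleGen.index_alt_large (by omega) hle heq
  rw [hA] at hdvd
  have hmul : Nat.card G * G.relIndex (alternatingGroup α) = 60 := by
    rw [← hA, ← Nat.card_congr (Subgroup.subgroupOfEquivOfLe hle).toEquiv]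
    exact Subgroup.card_mul_index _
  have h5 := CfsgLib.PermGroup.prime_dvd_card (p := 5) hα G
  obtain ⟨d, hd⟩ := h5
  set k := G.relIndex (alternatingGroup α)
  have hk5 : 5 ≤ k := by
    by_contra hlt
    have h := Nat.le_of_dvd (Nat.factorial_pos k) hdvd
    have h24 : k.factorial ≤ Nat.factorial 4 := Nat.factorial_le (by omega)
    rw [show Nat.factorial 4 = 24 from rfl] at h24
    omega
  rw [hd, mul_assoc] at hmul
  have hdk : d * k = 12 := by omega
  have hd2 : d ≤ 2 := by nlinarith
  obtain ⟨P⟩ := (inferInstance : Nonempty (Sylow 5 G))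
  refine hins (CfsgLib.PermGroup.solvable_of_card_sylow_eq_one hα G P ?_)
  obtain ⟨n, -, -, hcard, hmod⟩ := CfsgLib.PermGroup.sylow_data hα G P
  have hdiv : Nat.card (Sylow 5 G) ∣ Nat.card G := Dvd.intro_left _ hcard.symm
  have hle5 := Nat.le_of_dvd Nat.card_pos hdiv
  rw [hd] at hdiv hle5
  have hs : Nat.card (Sylow 5 G) ≤ 10 := by omega
  rw [Nat.ModEq] at hmod
  interval_cases d <;> interval_cases h : Nat.card (Sylow 5 G) <;>
    first | rfl | omega | (exfalso; revert hdiv; norm_num)

end CfsgLib.PrimeFour
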